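import Cfsg.Agent.N2.Ex.Al.ElT
import Cfsg.Agent.N2.Ex.K.Base
import Cfsg.Agent.N2.Ex.K.Tor

/-!
# N2 (S3519), subgroups of maximal rank: averaging over a coset of the torus (helper71)

* `Av.avg`, `Av.card_fib` : double counting, fibres of a character;
* `Av.coord`, `Av.dd_le`, `Av.rl_fix` : the action of the normaliser of the torus on the adjoint module;
* `boxElA`.
-/

set_option autoImplicit false
set_option linter.unusedSectionVars false

namespace Cfsg.Agent.N2.Ex.Al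

open CoxeterSystem Cfsg Cfsg.Lie Cfsg.Lie.ChevalleyDatum
open Cfsg.Agent.ChevalleyStructure Cfsg.Agent.ChevalleyStructure.CoxeterGeom Cfsg.Agent.Tits.Roots Cfsg.Agent.Nodes
  Cfsg.Agent.Nodes.BNOf Cfsg.Agent.Nodes.RGDChev Cfsg.Agent.Nodes.Coroot Cfsg.Agent.ChevalleyStructure.CoxeterGeomTypes
open Cfsg.Agent.KFacts.RgdChevCoord Cfsg.Agent.BpExc.Fr Cfsg.Agent.BpExc.LangFr Cfsg.Agent.BpExc.Zc
open Cfsg.Agent.H469.Exc Cfsg.Agent.H316.U6 Cfsg.Agent.H129.TorusChar Cfsg.Agent.DS.Ex Cfsg.Agent.DS.Nt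
open Cfsg.Agent.DS.Ex.Tor (RT FR)
open Cfsg.Agent.H931.KC (nmk)
open Cfsg.Agent.SB.Exc (XF nP dM ordU)
open Cfsg.Agent.SB.Exc.Tor (Kr En card_Kr Kr_triv)
open Cfsg.Agent.N2.Ex.K (mx wL rl)

namespace Av

theorem avg {A ι : Type} [Finite A] [Nonempty A] (J : Finset ι) (P : A → ι → Prop) [∀ t b, Decidable (P t b)] (a : ι → ℕ)
    {L k : ℕ} (h : ∀ b ∈ J, {t | P t b}.ncard * L ≤ Nat.card A * a b) (hs : ∑ b ∈ J, a b < (k + 1) * L) :
    ∃ t, (J.filter (P t)).card ≤ k := by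
  have := Fintype.ofFinite A
  by_contra hc
  push Not at hc
  have h1 : ∑ t, (J.filter (P t)).card = ∑ b ∈ J, {t | P t b}.ncard := by
    simp only [Set.ncard_eq_toFinset_card', Set.toFinset_ofPred, Finset.card_filter]
    exact Finset.sum_comm
  have h2 : Nat.card A * (k + 1) ≤ ∑ t, (J.filter (P t)).card := by
    simpa using Finset.card_nsmul_le_sum Finset.univ _ (k + 1) fun t _ => hc t
  have h3 : (∑ b ∈ J, {t | P t b}.ncard) * L ≤ Nat.card A * ∑ b ∈ J, a b := by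
    rw [Finset.sum_mul, Finset.mul_sum]
    exact Finset.sum_le_sum h
  have h4 := Nat.mul_lt_mul_of_pos_left (k := Nat.card A) hs Nat.card_pos
  rw [← mul_assoc] at h4
  exact absurd ((Nat.mul_le_mul_right L (h2.trans h1.le)).trans h3) h4.not_ge

theorem card_fib {A F : Type} [Group A] [Finite A] [Monoid F] (χ : A →* F) (μ : F) :
    ∃ j, 0 < j ∧ (∀ t, χ t ^ j = 1) ∧ {t | μ * χ t = 1}.ncard * j ≤ Nat.card A := by
  refine ⟨χ.ker.index, Nat.pos_of_ne_zero Subgroup.index_ne_zero_of_finite,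
    fun t => by rw [← map_pow]; exact χ.ker.pow_index_mem t, ?_⟩
  rw [← χ.ker.card_mul_index]
  refine Nat.mul_le_mul_right _ ?_
  rcases Set.eq_empty_or_nonempty {t | μ * χ t = 1} with h | ⟨s, hs⟩
  · rw [h, Set.ncard_empty]
    exact Nat.zero_le _
  · refine Set.ncard_le_ncard_of_injOn (t := (χ.ker : Set A)) (fun t => s⁻¹ * t) (fun t ht => ?_)
      fun _ _ _ _ h => mul_left_cancel h
    have h1 : μ * χ s * χ (s⁻¹ * t) = 1 := by rw [mul_assoc, ← map_mul, mul_inv_cancel_left]; exact ht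
    rwa [show μ * χ s = 1 from hs, one_mul] at h1

variable {D : ChevalleyDatum} {l : ℕ} {M : CoxeterMatrix (Fin l)} {hp : IsType D l M} {p : ℕ} [Fact p.Prime]
  {v : M.Group} {y : YY D p}

theorem wL_eq (hy : RP hp p v y) {i j : D.Idx} (h : mx y i j ≠ 0) : wL D l i = ac hp v (wL D l j) := (K.adP hp p).mon hy h

theorem coord (hy : RP hp p v y) {s s' : Fin D.nroots} (h : vec D l s' = ac hp v (vec D l s)) (x : D.Idx → KK p) :
    ad D p y x (Sum.inr s') = mx y (Sum.inr s') (Sum.inr s) * x (Sum.inr s) := by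
  refine Finset.sum_eq_single (f := fun j => mx y (Sum.inr s') j * x j) _ (fun j _ hj => ?_)
    fun h => absurd (Finset.mem_univ _) h
  by_contra h0
  have h1 := (ac hp v).injective (h.symm.trans (wL_eq hy (left_ne_zero_of_mul h0)))
  rcases j with j | j
  · exact (K.rt_vec hp s).ne_zero h1
  · exact hj (congrArg Sum.inr (Fin.ext (vec_inj hp j.2 s.2 h1.symm)))

theorem fix_pow {x : D.Idx → KK p} (h : ad D p y x = x) (i : ℕ) : ad D p (y ^ i) x = x := by
  induction i with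
  | zero => rw [pow_zero, ad_one]
  | succ i ih => rw [pow_succ, ad_mul, h, ih]

theorem dd_le_card (Q : Finset D.Idx) (h : ∀ x, ad D p y x = x → (∀ j ∈ Q, x j = 0) → x = 0) : dd p y ≤ Q.card := by
  have h1 := LinearMap.finrank_le_finrank_of_injective (f := (LinearMap.funLeft (KK p) (KK p)
    (Subtype.val : Q → D.Idx)).comp (Module.End.eigenspace (ad D p y) 1).subtype)
    ((injective_iff_map_eq_zero _).2 fun x hx => Subtype.ext (h x
      ((Module.End.mem_eigenspace_iff.1 x.2).trans (one_smul _ _)) fun j hj => congrFun hx ⟨j, hj⟩))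
  rwa [Module.finrank_fintype_fun_eq_card, Fintype.card_coe] at h1

variable (l) in
/-- some fixed vector has a non-zero coordinate at `b` -/
def Bad (y : YY D p) (b : LL l) : Prop := ∃ x, ad D p y x = x ∧ ∃ s : Fin D.nroots, vec D l s = b ∧ x (Sum.inr s) ≠ 0

theorem dd_le (hy : RP hp p v y) {J : Finset (LL l)} (h1 : ∀ b ∈ J, RT hp b)
    (h2 : ∀ x, RT hp x → ∃ b ∈ J, ∃ i : ℕ, x = ac hp (v ^ i) b) [DecidablePred (Bad l y)] (Q : Finset D.Idx)
    (h : ∀ x, ad D p y x = x → K.InT p x → (∀ j ∈ Q, x j = 0) → x = 0) : dd p y ≤ Q.card + (J.filter (Bad l y)).card := by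
  classical
  refine (dd_le_card (Q ∪ (Finset.univ.filter fun s : Fin D.nroots => vec D l s ∈ J.filter (Bad l y)).image Sum.inr)
    fun x hx h0 => h x hx (fun s' => ?_) fun j hj => h0 j (Finset.mem_union_left _ hj)).trans
      ((Finset.card_union_le _ _).trans (Nat.add_le_add_left (Finset.card_image_le.trans ?_) _))
  · obtain ⟨b, hb, i, e⟩ := h2 _ (K.rt_vec hp s')
    obtain ⟨s, rfl⟩ := K.exists_idx hp (h1 b hb)
    have h3 : x (Sum.inr s) = 0 := by_contra fun h3 => h3 (h0 _ (Finset.mem_union_right _ (Finset.mem_image_of_mem _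
      (Finset.mem_filter.2 ⟨Finset.mem_univ _, Finset.mem_filter.2 ⟨hb, x, hx, s, rfl, h3⟩⟩))))
    rw [← fix_pow hx i, coord (hy.pow i) e, h3, mul_zero]
  · exact Finset.card_le_card_of_injOn (fun s => vec D l s) (fun s hs => (Finset.mem_filter.1 hs).2)
      fun s _ s' _ e => Fin.ext (vec_inj hp s.2 s'.2 e)

theorem wt_eq (h : D.Idx → KK p) (j : D.Idx) : K.Tor.wt h j = rl hp h (wL D l j) := by
  rcases j with j | j
  · exact (map_zero _).symm
  · rw [K.wL_inr, K.rl_vec, E8A.Bor.rvR, K.Tor.wt, Sum.elim_inr]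
    exact Finset.sum_congr rfl fun i _ => mul_comm _ _

theorem rl_fix (hD : Typ D) (hy : RP hp p v y) {h : D.Idx → KK p} (hh : K.InT p h) (e : ad D p y h = h) {a : LL l}
    (ha : RT hp a) : rl hp h (ac hp v a) = rl hp h a := by
  obtain ⟨s, rfl⟩ := K.exists_idx hp ha
  obtain ⟨j, -, hj⟩ := K.exists_mid (A := mx y⁻¹) (B := mx y) (i := Sum.inr s) (j := Sum.inr s)
    (by rw [K.mx_inv_mul, Matrix.one_apply_eq]; exact one_ne_zero)
  have h1 := K.Tor.mt_Am hD y h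
  rw [e, K.Tor.Am_tor hh] at h1
  have h2 := congrFun (congrFun h1 j) (Sum.inr s)
  rw [Matrix.mul_diagonal, Matrix.diagonal_mul, mul_comm, wt_eq (hp := hp), wt_eq (hp := hp), wL_eq hy hj] at h2
  exact (mul_right_cancel₀ hj h2).symm

theorem tor_zero {d : ℤ} (B : Fin l → Fin l → ℤ) (hB : ∀ i m, ∑ j, cartanOf D l i j * B j m = if i = m then d else 0)
    (hd : (d : KK p) ≠ 0) {h : D.Idx → KK p} (hh : K.InT p h) (e : ∀ j, rl hp h (sr j) = 0) : h = 0 := by
  funext m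
  rcases m with m | m
  · have h1 : ∑ j, (B j (Fin.cast hp.rank_eq m) : KK p) * rl hp h (sr j) = d * h (Sum.inl m) := by
      simp only [K.rl_apply, DL.Ex.pairing_sr', Finset.mul_sum]
      rw [Finset.sum_comm]
      simp only [← mul_assoc, ← Finset.sum_mul, ← Int.cast_mul, ← Int.cast_sum, mul_comm (B _ _), hB]
      simp [Fin.cast_inj]
    rw [Finset.sum_eq_zero fun j _ => by rw [e, mul_zero]] at h1
    exact (mul_eq_zero.1 h1.symm).resolve_left hd
  · exact hh m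

theorem inv_E6 : ∀ i m, ∑ j, cartanOf chevE6 6 i j * (![![4, 3, 5, 6, 4, 2], ![3, 6, 6, 9, 6, 3], ![5, 6, 10, 12, 8, 4],
    ![6, 9, 12, 18, 12, 6], ![4, 6, 8, 12, 10, 5], ![2, 3, 4, 6, 5, 4]] : Fin 6 → Fin 6 → ℤ) j m = if i = m then 3 else 0 := by
  decide +kernel

theorem ell (hD : D = chevE6) (h3 : p ≠ 3) (hy : RP hp p v y) {n : ℕ} (hn : n.Coprime p)
    (h : ∀ x, ∑ i ∈ Finset.range n, ac hp (v ^ i) x = 0) {x : D.Idx → KK p} (e : ad D p y x = x) (hx : K.InT p x) : x = 0 := by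
  have h1 : ∀ j, rl hp x (sr j) = 0 := fun j => by
    have h2 := congrArg (rl hp x) (h (sr j))
    rw [map_sum, Finset.sum_congr rfl fun i _ => rl_fix (Or.inr (Or.inl hD)) (hy.pow i) hx (fix_pow e i) (isRoot_sr _ _ j),
      Finset.sum_const, Finset.card_range, nsmul_eq_mul, map_zero] at h2
    exact (mul_eq_zero.1 h2).resolve_left (Cb.cast_ne hn)
  subst hD
  obtain rfl := (typ_l hp).2.1 rfl
  exact tor_zero _ inv_E6 (by
    exact_mod_cast Cb.cast_ne (p := p) ((Nat.coprime_primes Nat.prime_three Fact.out).2 h3.symm)) hx h1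

theorem pow_form (hy : RP hp p v y) {τ : YY D p} (hτ : τ ∈ TT D (KK p)) (m : ℕ) : ∃ s ∈ TT D (KK p),
    (y * τ) ^ m = y ^ m * s ∧ ∀ x, cX hp s x = cX hp τ (∑ i ∈ Finset.range m, ac hp (v ^ i) x) := by
  induction m with
  | zero => exact ⟨1, one_mem _, by simp, fun x => by rw [cX_one, Finset.sum_range_zero, (isMC_cX hp hτ).zero]⟩
  | succ m ih =>
    obtain ⟨s, hs, h1, h2⟩ := ih
    refine ⟨y⁻¹ * s * y⁻¹⁻¹ * τ, mul_mem (hy.inv.conj_mem hs) hτ, by rw [pow_succ, h1, pow_succ]; group, fun x => ?_⟩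
    have h3 := hy.inv.cX hs (ac hp v x)
    rw [repAut_apply, rep_inv_apply, ← repAut_apply] at h3
    rw [cX_mul hp (hy.inv.conj_mem hs) hτ, h3, h2, Finset.sum_range_succ', (isMC_cX hp hτ).add, pow_zero, ET.ac_one]
    simp only [pow_succ, ET.ac_mul]

variable (hp) in
/-- a point of the lattice as a character -/
noncomputable def chi (f : En l) (x : LL l) : Kr hp p f →* KK p where
  toFun t := cX hp t.1 x
  map_one' := cX_one hp x
  map_mul' s t := cX_mul hp s.2.1 t.2.1 x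

/-- `g - q` -/
def gq (q : ℕ) (g : LL l ≃+ LL l) : En l := g.toIntLinearEquiv.toLinearMap - (q : ℤ) • 1

theorem gq_apply (q : ℕ) (g : LL l ≃+ LL l) (x : LL l) : gq q g x = g x - q • x := congrArg (g x - ·) (natCast_zsmul x q)

variable {e : ℕ} {σ : MulAut (YY D p)} {g : LL l ≃+ LL l}

theorem det_gq (he : 0 < e) : ((LinearMap.det (gq (p ^ e) g) : ℤ) : KK p) ≠ 0 :=
  H378.TorFin.det_ne_zero (w' := g.symm.toIntLinearEquiv.toLinearMap) (LinearMap.ext g.apply_symm_apply)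
    (by rw [Int.cast_natCast, Nat.cast_pow, CharP.cast_eq_zero, zero_pow he.ne'])

theorem mem_Kr (hσ : IsFrob p e σ) (F : FR hp p σ g) {t : YY D p} (ht : t ∈ TT D (KK p)) :
    t ∈ Kr hp p (gq (p ^ e) g) ↔ σ t = t := by
  rw [ET.fix_iff hσ F ht]
  refine (and_iff_right ht).trans (forall_congr' fun x => ?_)
  rw [gq_apply, (isMC_cX hp ht).sub, div_eq_one_iff_eq ((isMC_cX hp ht).ne_zero _), (isMC_cX hp ht).nsmul]

theorem cop (hD : Typ D) (he : 0 < e) : (Nat.card (Kr hp p (gq (p ^ e) g))).Coprime p := by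
  rw [card_Kr hD (det_gq he), Nat.coprime_comm, Nat.Prime.coprime_iff_not_dvd Fact.out, ← Int.natCast_dvd,
    ← CharP.intCast_eq_zero_iff (KK p) p]
  exact det_gq he

/-- few elements of the coset are bad at `b` -/
theorem card_bad (hD : Typ D) (he : 0 < e) (hy : RP hp p v y) {b : LL l} (hb : RT hp b) {m d k : ℕ} (hd : 0 < d)
    (h1 : ac hp (v ^ m) b = b) (h2 : OrdGe (p ^ e) g (∑ i ∈ Finset.range m, ac hp (v ^ i) b) k) :
    {t : Kr hp p (gq (p ^ e) g) | Bad l (y * t.1 ^ d) b}.ncard * k ≤ Nat.card (Kr hp p (gq (p ^ e) g)) * d := by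
  have := Nat.finite_of_card_ne_zero (Cb.ne_zero_of_coprime (cop (hp := hp) (p := p) (g := g) hD he))
  obtain ⟨s, rfl⟩ := K.exists_idx hp hb
  obtain ⟨j, a1, a2, a3⟩ := card_fib (chi hp (gq (p ^ e) g) (d • ∑ i ∈ Finset.range m, ac hp (v ^ i) (vec D l s)))
    (mx (y ^ m) (Sum.inr s) (Sum.inr s))
  obtain ⟨z, hz⟩ := Kr_triv (hp := hp) (p := p) hD (det_gq (g := g) he) (x := (j * d) • ∑ i ∈ Finset.range m, ac hp (v ^ i) (vec D l s)) fun t ht => by
    rw [mul_smul, (isMC_cX hp ht.1).nsmul]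
    exact a2 ⟨t, ht⟩
  have h3 := h2 (j * d) (-z) (Nat.mul_pos a1 hd) (by rw [← hz, gq_apply, map_neg, smul_neg]; abel)
  replace a3 := Nat.mul_le_mul_right d a3
  rw [mul_assoc] at a3
  refine (Nat.mul_le_mul (Set.ncard_le_ncard ?_ (Set.toFinite _)) h3).trans a3
  rintro t ⟨x, b1, s', b2, b3⟩
  obtain rfl : s' = s := Fin.ext (vec_inj hp s'.2 s.2 b2)
  have ht := pow_mem t.2.1 d
  obtain ⟨r, c1, c2, c3⟩ := pow_form hy ht m
  have h4 := coord ((hy.mul (RP.of_mem ht)).pow m) (by rw [mul_one, h1]) x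
  rw [fix_pow b1, c2, K.mx_mul, K.mx_T hp c1, Matrix.mul_diagonal, c3, cX_pow hp t.2.1, ← (isMC_cX hp t.2.1).nsmul] at h4
  exact (mul_left_eq_self₀.1 h4.symm).resolve_right b3

theorem elA {Γ : Subgroup (MulAut (YY D p))} {K B : Subgroup (YY D p)} {R : Set (LL l)} {c : ℕ}
    (S : Sit hp p e σ g Γ K B R)
    (hT : (dM l).Coprime p → ∀ y, σ y = y → ∃ t ∈ TT D (KK p), σ t = t ∧ y * t ∈ K)
    (h : ElA hp (p ^ e) g R c) : HasE p K R c := by
  classical
  obtain ⟨u, v, n, L, k, J, m, r, a, a1, a2, a3, a4, a5, a6, a7, a8, a9, a10⟩ := h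
  have C := S.co
  have hn : n.Coprime p := a5.coprime_dvd_right (dvd_pow_self p C.he.ne')
  have hc := cop (hp := hp) (p := p) (g := g) C.typ C.he
  have := Nat.finite_of_card_ne_zero (Cb.ne_zero_of_coprime hc)
  obtain ⟨y, b1, b2, b3⟩ : ∃ y, RP hp p v y ∧ y ∈ K ∧ ∀ b ∈ R, ac hp v b ∈ R := by
    obtain ⟨y, b1, b2⟩ := ET.exists_fix C.typ C.he C.frob S.fr a2
    rcases a3 with rfl | ⟨a3, rfl⟩
    · exact ⟨_, b1.pow _, C.pow y b2, ET.ac_pow_mem a1 _⟩
    · obtain ⟨t, t1, -, t3⟩ := hT (a3.coprime_dvd_right (dvd_pow_self p C.he.ne')) y b2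
      exact ⟨_, by simpa using b1.mul (RP.of_mem t1), t3, a1⟩
  obtain ⟨t, ht⟩ := avg J (fun (t : Kr hp p (gq (p ^ e) g)) b => Bad l (y * t.1 ^ dM l) b) a (fun b hb => by
    rcases a8 b hb with h | ⟨h1, h2, h3⟩
    · exact Nat.mul_le_mul (Set.ncard_le_card _) h
    · refine Nat.le_of_mul_le_mul_right ?_ (dM_pos l)
      have h4 := Nat.mul_le_mul_right (a b) (card_bad C.typ C.he b1 (a6 b hb) (dM_pos l) h1 h3)
      rw [mul_assoc, mul_comm (r b), mul_right_comm] at h4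
      rw [mul_assoc]
      exact (Nat.mul_le_mul_left _ h2).trans h4) a9
  have c1 : RP hp p v (y * t.1 ^ dM l) := by simpa using b1.mul (RP.of_mem (pow_mem t.2.1 _))
  have c2 := mul_mem b2 (C.pow _ ((mem_Kr C.frob S.fr t.2.1).1 t.2))
  have c3 : σ (y * t.1 ^ dM l) = y * t.1 ^ dM l := C.K_le c2
  have c4 := c1.pow n
  rw [a4] at c4
  have c5 : (y * t.1 ^ dM l) ^ (n * Nat.card (Kr hp p (gq (p ^ e) g))) = 1 := by
    rw [pow_mul]
    exact congrArg Subtype.val (pow_card_eq_one' (G := Kr hp p (gq (p ^ e) g))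
      (x := ⟨_, (mem_Kr C.frob S.fr c4.mem_T).2 (by rw [map_pow, c3])⟩))
  have c6 := fun k => Cb.cen_le' hp C.he C.frob S.fr c3 (Nat.Coprime.mul_left hn hc) c5 (k := k)
  refine ⟨_, c2, ET.mem_norm S.sy b3 c1, (ET.cK_le C _).trans ?_⟩
  rcases a10 with h | ⟨h1, h2, h3, h⟩
  · refine (c6 _ ((dd_le c1 a6 a7 (Finset.univ.image Sum.inl) fun x _ hx h0 => ?_).trans (Nat.add_le_add ?_ ht))).trans h
    · funext j
      rcases j with j | j
      · exact h0 _ (Finset.mem_image_of_mem _ (Finset.mem_univ _))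
      · exact hx j
    · exact Finset.card_image_le.trans (by rw [Finset.card_univ, Fintype.card_fin, hp.rank_eq])
  · have h4 := (dd_le c1 a6 a7 ∅ fun x e hx _ => ell h1 (fun h => h2 (h ▸ dvd_pow_self p C.he.ne')) c1 hn h3 e hx).trans
      (Nat.add_le_add_left ht _)
    rw [Finset.card_empty] at h4
    exact (c6 _ (by omega)).trans h

end Av

/-- **[ELA]** -/
theorem boxElA_of (hT : BoxKT) : BoxElA := fun D l M hp p _ e σ g Γ K B R S _ h =>
  Av.elA S (hT D l M hp p e σ g Γ K B R S) h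

end Cfsg.Agent.N2.Ex.Al
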