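import Cfsg.Agent.N2.Ex.Al.Defs
import Cfsg.Agent.SB.Exc.Tor.Set

/-!
# N2 (S3519), subgroups of maximal rank: elements of the torus, lifts in `F₄(2)` (helper71)

* `ET.fix_iff` : the `σ`-fixed elements of the torus; `ET.exists_fix` : `σ`-fixed representatives;
* `ET.mem_norm` : representatives normalising `MR R`; `ET.cK_le`;
* `boxElT`.
-/

set_option autoImplicit false
set_option linter.unusedSectionVars false

namespace Cfsg.Agent.N2.Ex.Al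

open CoxeterSystem Cfsg Cfsg.Lie Cfsg.Lie.ChevalleyDatum
open Cfsg.Agent.ChevalleyStructure Cfsg.Agent.ChevalleyStructure.CoxeterGeom Cfsg.Agent.Tits.Roots Cfsg.Agent.Nodes
  Cfsg.Agent.Nodes.BNOf Cfsg.Agent.Nodes.RGDChev Cfsg.Agent.Nodes.Coroot
open Cfsg.Agent.KFacts.RgdChevCoord Cfsg.Agent.BpExc.Fr Cfsg.Agent.BpExc.LangFr Cfsg.Agent.BpExc.Zc
open Cfsg.Agent.H469.Exc Cfsg.Agent.H316.U6 Cfsg.Agent.H129.TorusChar Cfsg.Agent.DS.Ex Cfsg.Agent.DS.Nt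
open Cfsg.Agent.DS.Ex.Tor (RT FR)
open Cfsg.Agent.H931.KC (nmk)
open Cfsg.Agent.SB.Exc (XF nP dM ordU)
open Cfsg.Agent.N2.Ex.Cb (tord)

namespace ET

variable {D : ChevalleyDatum} {l : ℕ} {M : CoxeterMatrix (Fin l)} {hp : IsType D l M} {p : ℕ} [Fact p.Prime]
  {e : ℕ} {σ : MulAut (YY D p)} {g : LL l ≃+ LL l}

theorem cX_inv {t : YY D p} (ht : t ∈ TT D (KK p)) (x : LL l) : cX hp t⁻¹ x = (cX hp t x)⁻¹ := by
  refine eq_inv_of_mul_eq_one_left ?_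
  rw [← cX_mul hp (inv_mem ht) ht, inv_mul_cancel, cX_one]

theorem fix_iff (hσ : IsFrob p e σ) (F : FR hp p σ g) {t : YY D p} (ht : t ∈ TT D (KK p)) :
    σ t = t ↔ ∀ x, cX hp t (g x) = cX hp t x ^ p ^ e := by
  refine ⟨fun h x => by rw [← cX_sigma hp _ hσ F ht, h], fun h => cX_inj hp ((F.tor t).2 ht) ht fun i => ?_⟩
  obtain ⟨y, hy⟩ := g.surjective (sr i)
  rw [← hy, cX_sigma hp _ hσ F ht, h]

theorem exists_ch (hD : Typ D) (hσ : IsFrob p e σ) (F : FR hp p σ g) {N : ℕ} (hN : N ≠ 0) {ζ : KK p}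
    (hζ : IsPrimitiveRoot ζ N) {f : LL l →+ ℤ} (hf : Ch (p ^ e) g N f) :
    ∃ t ∈ TT D (KK p), σ t = t ∧ ∀ x, cX hp t x = ζ ^ f x := by
  have h0 := hζ.ne_zero hN
  obtain ⟨t, ht, h⟩ := exists_tor_zpow hp hD h0 f
  refine ⟨t, ht, (fix_iff hσ F ht).2 fun x => ?_, h⟩
  have h1 := (hζ.zpow_eq_one_iff_dvd _).2 (hf x)
  rw [zpow_sub₀ h0, div_eq_one_iff_eq (zpow_ne_zero _ h0)] at h1
  rw [h, h, h1, mul_comm, zpow_mul, zpow_natCast]

/-- **`σ`-fixed representatives** -/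
theorem exists_fix (hD : Typ D) (he : 0 < e) (hσ : IsFrob p e σ) (F : FR hp p σ g) {u : M.Group}
    (hu : ∀ x, ac hp u (g x) = g (ac hp u x)) : ∃ n, RP hp p u n ∧ σ n = n := by
  obtain ⟨k, hk⟩ := exists_RP hp p u
  obtain ⟨d, B, hB, hd⟩ := exists_invC hp hD
  obtain ⟨s, hs, h⟩ := H795.LangT.lang_torus hp hB hd he hσ F
    (SB.Exc.Tor.rp_T hk (SB.Exc.Tor.rp_fr F hk fun a => (hu a).symm))
  refine ⟨k * s⁻¹, by simpa using hk.mul (RP.of_mem (inv_mem hs)), ?_⟩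
  have h1 : s⁻¹ * σ s = σ s * s⁻¹ := BpExc.TorChev.TT_comm hp _ (inv_mem hs) _ ((F.tor s).2 hs)
  rw [map_mul, map_inv, inv_mul_eq_iff_eq_mul.1 h]
  group

theorem ac_mul (v w : M.Group) (x : LL l) : ac hp (v * w) x = ac hp v (ac hp w x) := rep_mul_apply _ _ _ _ _

theorem ac_one (x : LL l) : ac hp 1 x = x := by rw [repAut_apply, map_one, Module.End.one_apply]

theorem ac_pow_mem {R : Set (LL l)} {u : M.Group} (hu : ∀ b ∈ R, ac hp u b ∈ R) (k : ℕ) : ∀ b ∈ R, ac hp (u ^ k) b ∈ R := by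
  induction k with
  | zero => exact fun b hb => by rwa [pow_zero, ac_one]
  | succ k ih => exact fun b hb => by rw [pow_succ, ac_mul]; exact ih _ (hu b hb)

theorem T_le_norm (R : Set (LL l)) : TT D (KK p) ≤ Subgroup.normalizer (MR D p R : Set (YY D p)) :=
  (le_sup_left : TT D (KK p) ≤ MR D p R).trans Subgroup.le_normalizer

theorem conj_MR {R : Set (LL l)} (hR : Sy hp R) {u : M.Group} (hu : ∀ b ∈ R, ac hp u b ∈ R) {n : YY D p}
    (hn : RP hp p u n) {x : YY D p} (hx : x ∈ MR D p R) : n * x * n⁻¹ ∈ MR D p R := by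
  have h : MR D p R ≤ (MR D p R).comap (MulAut.conj n).toMonoidHom :=
    sup_le (fun t ht => (le_sup_left : TT D (KK p) ≤ MR D p R) (hn.conj_mem ht)) (RGD.Sup_le fun a ha y hy =>
      ((RGD.le_Sup (hu a ha)).trans (le_sup_right : _ ≤ MR D p R)) ((hn.fr.map a (hR.root a ha) y).2 hy))
  exact h hx

theorem mem_norm {R : Set (LL l)} (hR : Sy hp R) {u : M.Group} (hu : ∀ b ∈ R, ac hp u b ∈ R) {n : YY D p}
    (hn : RP hp p u n) : n ∈ Subgroup.normalizer (MR D p R : Set (YY D p)) := by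
  have := finW hp
  have h1 : u⁻¹ = u ^ (orderOf u - 1) := by
    rw [inv_eq_iff_mul_eq_one, ← pow_succ', Nat.sub_add_cancel (orderOf_pos u), pow_orderOf_eq_one]
  rw [Subgroup.mem_normalizer_iff]
  refine fun x => ⟨conj_MR hR hu hn, fun hx => ?_⟩
  simpa [mul_assoc] using conj_MR hR (h1 ▸ ac_pow_mem hu _) hn.inv hx

theorem cK_le {Γ : Subgroup (MulAut (YY D p))} {K B : Subgroup (YY D p)} (C : Co hp p e σ Γ K B) (y : YY D p) :
    cK K y ≤ Nat.card ↥(DL.fix σ ⊓ Subgroup.centralizer {y}) := by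
  have := C.fin
  have : Finite ↥(DL.fix σ ⊓ Subgroup.centralizer {y}) := Finite.of_injective _ (Subgroup.inclusion_injective inf_le_left)
  exact Subgroup.card_le_of_le (inf_le_inf_right _ C.K_le)

theorem WP_le {Z : Set (YY D p)} : Cb.WP hp p Z ≤ WR hp (Ps hp p Z) := by
  have := finW hp
  refine Subgroup.closure_mono ?_
  rintro s ⟨a, ha, h⟩
  obtain ⟨v, j, rfl⟩ := ha.1
  exact ⟨v, j, ha, rep_injective _ hp.isCartan (LinearMap.ext fun x => by rw [h, rep_rfl'_eq])⟩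

variable {Γ : Subgroup (MulAut (YY D p))} {K B : Subgroup (YY D p)} {R : Set (LL l)} {c : ℕ}

theorem elT (S : Sit hp p e σ g Γ K B R) (h : ElT hp (p ^ e) g c) : HasE p K R c := by
  obtain ⟨N, f, f₀, f₁, u, a1, a2, a3, a4, a5, a6⟩ := h
  have C := S.co
  have hN : N.Coprime p := a1.coprime_dvd_right (dvd_pow_self p C.he.ne')
  have : NeZero (N : KK p) := ⟨Cb.cast_ne hN⟩
  obtain ⟨ζ, hζ⟩ := HasEnoughRootsOfUnity.exists_primitiveRoot (KK p) N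
  have h0 := hζ.ne_zero (Cb.ne_zero_of_coprime hN)
  obtain ⟨t₀, b1, b2, b3⟩ := exists_ch C.typ C.frob S.fr (Cb.ne_zero_of_coprime hN) hζ a2
  obtain ⟨t₁, c1, c2, c3⟩ := exists_ch C.typ C.frob S.fr (Cb.ne_zero_of_coprime hN) hζ a3
  obtain ⟨n, d1, d2⟩ := exists_fix C.typ C.he C.frob S.fr a4
  have d3 := d1.inv.conj_mem c1
  obtain ⟨t, e1, e2, e3⟩ : ∃ t ∈ K, t ∈ TT D (KK p) ∧ ∀ x, cX hp t x = ζ ^ f x := by
    refine ⟨t₀ ^ dM l * (n⁻¹ * t₁ * n⁻¹⁻¹ * t₁⁻¹), mul_mem (C.pow _ b2) (C.cmt _ _ (by rw [map_inv, d2]) c2),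
      mul_mem (pow_mem b1 _) (mul_mem d3 (inv_mem c1)), fun x => ?_⟩
    have h1 := d1.inv.cX c1 (ac hp u x)
    rw [repAut_apply, rep_inv_apply] at h1
    rw [cX_mul hp (pow_mem b1 _) (mul_mem d3 (inv_mem c1)), cX_mul hp d3 (inv_mem c1), cX_pow hp b1, cX_inv c1, h1, b3, c3,
      c3, a5, zpow_sub₀ h0, zpow_add₀ h0, mul_comm (dM l : ℤ), zpow_mul, zpow_natCast, repAut_apply, div_eq_mul_inv, mul_assoc]
  have e4 : σ t = t := C.K_le e1
  have e5 : t ^ N = 1 := pow_eq_one_of_cX (hp := hp) e2 fun x => by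
    rw [e3, ← zpow_natCast, ← zpow_mul, mul_comm, zpow_mul, zpow_natCast, hζ.pow_eq_one, one_zpow]
  have e6 : Ps hp p {t} = Kl hp N f := by
    ext a
    rw [mem_Ps (Set.singleton_subset_iff.2 e2)]
    simp only [Set.mem_singleton_iff, forall_eq, e3, hζ.zpow_eq_one_iff_dvd]
    rfl
  refine ⟨t, e1, T_le_norm R e2, ?_⟩
  rcases a6 with a6 | ⟨b, a6, a7⟩ | ⟨a6, a7, ⟨x, a8⟩, k, a9, a10, a11⟩
  · refine (cK_le C t).trans (le_trans ?_ a6)
    have h1 : dd p t ≤ l + (Kl hp N f).ncard := by rw [← e6, SB.Exc.CI.ncard_Ps e2]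
    rw [nk]
    split_ifs with h2
    · rw [one_mul]
      exact Cb.cen_le_conn hp (Cb.cz_typ hp C.typ) C.he C.frob S.fr e4 hN h2.symm e5 h1
    · exact Cb.cen_le' hp C.he C.frob S.fr e4 hN e5 h1
  · refine (cK_le C t).trans (le_trans ?_ a7)
    rw [← e6] at a6 ⊢
    rw [nk]
    split_ifs with h2
    · rw [one_mul]
      exact Cb.cen_ref_conn (Cb.cz_typ hp C.typ) C.he C.frob S.fr e2 e4 hN h2.symm e5 fun w hw => a6 w (WP_le hw)
    · exact Cb.cen_ref C.he C.frob S.fr e2 e4 hN e5 fun w hw => a6 w (WP_le hw)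
  · refine (C.f42 a6 a7 t e1 k a9 (a10.trans ?_)).trans a11
    have h1 := cX_pow hp e2 (orderOf t) x
    rw [pow_orderOf_eq_one, cX_one, e3, ← zpow_natCast, ← zpow_mul, eq_comm, hζ.zpow_eq_one_iff_dvd] at h1
    exact Int.natCast_dvd_natCast.1 (a8.symm.dvd_of_dvd_mul_left h1)

theorem elU (S : Sit hp p e σ g Γ K B R) (h : ElU hp (p ^ e) g R c) : HasE p K R c := by
  obtain ⟨a1, a2, u, a3, a4, k, a5, a6, a7⟩ := h
  have C := S.co
  obtain ⟨n, d1, d2⟩ := exists_fix C.typ C.he C.frob S.fr a4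
  have h1 := C.pow n d2
  rw [(typ_l hp).1 a1, show dM 4 = 1 from rfl, pow_one] at h1
  refine ⟨n, h1, mem_norm S.sy a3 d1, (C.f42 a1 a2 n h1 k a5 (a6.trans ?_)).trans a7⟩
  have h2 := d1.pow (orderOf n)
  rw [pow_orderOf_eq_one] at h2
  exact orderOf_dvd_of_pow_eq_one (h2.unique (RP.of_mem (one_mem _)))

end ET

/-- **[ELT]** -/
theorem boxElT : BoxElT := fun _ _ _ _ _ _ _ _ _ _ _ _ _ S _ h => h.elim (ET.elT S) (ET.elU S)

end Cfsg.Agent.N2.Ex.Al
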