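import Cfsg.Agent.N2.Ex.Al.ElT

/-!
# N2 (S3519), subgroups of maximal rank: conjugacy of tori, saturation (helper99)

* `key` : a conjugate of the torus inside `N ≥ T` is conjugate to `T` in `N`;
* `Pre Γ R` : a maximal invariant set of roots; `Pre.sat`, `Pre.frame`;
* `co_map`, `co_conj`, `gb_map`, `iv_map` : transport of the context; `twist`, `Pre.move`;
* `boxNrm`, `boxLM`, `boxMv`, `boxBd_of`.
-/

set_option autoImplicit false
set_option linter.unusedSectionVars false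

namespace Cfsg.Agent.N2.Ex.Al

open CoxeterSystem Cfsg Cfsg.Lie Cfsg.Lie.ChevalleyDatum
open Cfsg.Agent.ChevalleyStructure Cfsg.Agent.ChevalleyStructure.CoxeterGeom Cfsg.Agent.Tits.Roots Cfsg.Agent.Nodes
  Cfsg.Agent.Nodes.BNOf Cfsg.Agent.Nodes.RGDChev Cfsg.Agent.Nodes.Coroot Cfsg.Agent.ChevalleyStructure.CoxeterGeomTypes
open Cfsg.Agent.KFacts.RgdChevCoord Cfsg.Agent.BpExc.Fr Cfsg.Agent.BpExc.LangFr Cfsg.Agent.BpExc.Zc
open Cfsg.Agent.H469.Exc Cfsg.Agent.H316.U6 Cfsg.Agent.H129.TorusChar Cfsg.Agent.DS.Ex Cfsg.Agent.DS.Nt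
open Cfsg.Agent.DS.Ex.Tor (RT FR)

namespace Gp

variable {D : ChevalleyDatum} {l : ℕ} {M : CoxeterMatrix (Fin l)} {hp : IsType D l M} {p : ℕ} [Fact p.Prime]

theorem fin_RT (hp : IsType D l M) : {a | RT hp a}.Finite :=
  have := finW hp
  RGD.finite_roots

variable (p) in
/-- a regular element of prime order -/
theorem exists_reg (hp : IsType D l M) (hD : Typ D) : ∃ r : ℕ, r.Prime ∧ r.Coprime (Nat.card M.Group) ∧
    ∃ t ∈ TT D (KK p), t ^ r = 1 ∧ ∀ c, c * t = t * c → c ∈ TT D (KK p) := by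
  have := finW hp
  let f : LL l →+ ℤ := ∑ i, Pi.evalAddMonoidHom (fun _ => ℤ) i
  have hf : ∀ x, f x = ∑ i, x i := fun x => by simp [f]
  obtain ⟨B, hB⟩ := ((fin_RT hp).image fun a => (f a).natAbs).bddAbove
  obtain ⟨r, h1, hr⟩ := Nat.exists_infinite_primes (B + p + Nat.card M.Group + 1)
  have h2 : r.Coprime (Nat.card M.Group) := hr.coprime_iff_not_dvd.2 fun h => by
    have := Nat.le_of_dvd Nat.card_pos h
    omega
  have h3 : r.Coprime p := (Nat.coprime_primes hr Fact.out).2 (by omega)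
  have : NeZero (r : KK p) := ⟨fun h => (Nat.Prime.coprime_iff_not_dvd Fact.out).1 h3.symm
    ((CharP.cast_eq_zero_iff (KK p) p r).1 h)⟩
  obtain ⟨ζ, hζ⟩ := HasEnoughRootsOfUnity.exists_primitiveRoot (KK p) r
  obtain ⟨t, ht, h4⟩ := exists_tor_zpow hp hD (hζ.ne_zero hr.ne_zero) f
  have h5 : t ^ r = 1 := pow_eq_one_of_cX (hp := hp) ht fun x => by
    rw [h4, ← zpow_natCast, ← zpow_mul, mul_comm, zpow_mul, zpow_natCast, hζ.pow_eq_one, one_zpow]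
  have hZ : ({t} : Set (YY D p)) ⊆ TT D (KK p) := Set.singleton_subset_iff.2 ht
  refine ⟨r, hr, h2, t, ht, h5, fun c hc => ?_⟩
  have h6 : c ∈ DZ hp p {t} := by
    obtain ⟨n, hn⟩ := exists_pow_mem_DZ (hp := hp) (Set.finite_singleton t) hZ hr
      (fun s hs => ⟨1, by rw [hs, pow_one, h5]⟩) (c := c) fun s hs => by rw [hs, hc]
    exact mem_of_pow_coprime hn (pow_card_mem_DZ (Set.finite_singleton t) hZ fun s hs => by rw [hs, hc]) (h2.pow_left n)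
  refine (sup_le (Mz_le fun a ha => ?_) le_rfl : DZ hp p {t} ≤ _) h6
  obtain ⟨h7, h8⟩ := (mem_Ps hZ).1 ha
  have h9 := (hζ.zpow_eq_one_iff_dvd _).1 ((h4 a).symm.trans (h8 t rfl))
  have h10 : (f a).natAbs ≤ B := hB ⟨a, h7, rfl⟩
  have h11 : f a = 0 := by
    have := Nat.eq_zero_of_dvd_of_lt (Int.natCast_dvd.1 h9) (by omega)
    omega
  refine (h7.ne_zero (funext fun i => ?_)).elim
  rw [hf] at h11
  rcases h7.pos_or_neg with h | h
  · exact (Finset.sum_eq_zero_iff_of_nonneg fun j _ => h j).1 h11 i (Finset.mem_univ i)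
  · exact (Finset.sum_eq_zero_iff_of_nonpos fun j _ => h j).1 h11 i (Finset.mem_univ i)

/-- an `r`-group which contains a regular element lies in the torus -/
theorem le_T (hp : IsType D l M) {r : ℕ} (hr : r.Prime) (hW : r.Coprime (Nat.card M.Group)) {t : YY D p}
    (ht : t ∈ TT D (KK p)) (hc : ∀ c, c * t = t * c → c ∈ TT D (KK p)) {Q : Subgroup (YY D p)} [Finite Q]
    (hQ : IsPGroup r Q) (htQ : t ∈ Q) : Q ≤ TT D (KK p) := by
  have := Fact.mk hr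
  have := hQ.isNilpotent
  by_contra h
  have h1 : (TT D (KK p)).subgroupOf Q < ⊤ := lt_top_iff_ne_top.2 fun e => h (Subgroup.subgroupOf_eq_top.1 e)
  obtain ⟨x, h2, h3⟩ := SetLike.exists_of_lt (Group.normalizerCondition_of_isNilpotent _ h1)
  have k : ∀ y : Q, y ∈ Subgroup.normalizer (((TT D (KK p)).subgroupOf Q : Subgroup Q) : Set Q) →
      ∀ s ∈ TT D (KK p), (y : YY D p) * s * (y : YY D p)⁻¹ ∈ TT D (KK p) := fun y hy s hs => by
    have h4 : ((y⁻¹ * ⟨t, htQ⟩ * y⁻¹⁻¹ : Q) : YY D p) ∈ TT D (KK p) :=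
      (Subgroup.mem_normalizer_iff.1 (inv_mem hy) ⟨t, htQ⟩).1 ht
    have h5 := BpExc.TorChev.TT_comm hp s hs _ h4
    rw [inv_inv, Subgroup.coe_mul, Subgroup.coe_mul, Subgroup.coe_inv] at h5
    refine hc _ ?_
    calc (y : YY D p) * s * (y : YY D p)⁻¹ * t = y * (s * ((y : YY D p)⁻¹ * t * y)) * (y : YY D p)⁻¹ := by group
      _ = t * (y * s * (y : YY D p)⁻¹) := by rw [h5]; group
  obtain ⟨w, hw⟩ := Tor.rp_of_norm (hp := hp) (d := (x : YY D p)) fun s => ⟨fun hs => by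
    simpa [mul_assoc] using k x⁻¹ (inv_mem h2) _ hs, k x h2 s⟩
  obtain ⟨n, hn⟩ := hQ x
  have h4 := hw.pow (r ^ n)
  rw [← Subgroup.coe_pow, hn] at h4
  have h5 : w ^ r ^ n = 1 := h4.unique (RP.of_mem (one_mem _))
  have h6 : w = 1 := orderOf_eq_one_iff.1 (Nat.eq_one_of_dvd_coprimes (hW.pow_left n) (orderOf_dvd_of_pow_eq_one h5)
    (orderOf_dvd_natCard w))
  subst h6
  exact h3 hw.mem_T

theorem syl {Y : Type*} [Group Y] (L : Subgroup Y) [Finite L] {r : ℕ} (hr : r.Prime) {a b : Y} (ha : a ∈ L) (hb : b ∈ L)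
    (h1 : a ^ r = 1) (h2 : b ^ r = 1) :
    ∃ m ∈ L, ∃ Q : Subgroup Y, Finite Q ∧ IsPGroup r Q ∧ a ∈ Q ∧ m * b * m⁻¹ ∈ Q := by
  have := Fact.mk hr
  have k : ∀ x : L, (x : Y) ^ r = 1 → ∃ Q : Sylow r L, x ∈ (Q : Subgroup L) := fun x hx => by
    have h3 : IsPGroup r (Subgroup.zpowers x) := by
      rintro ⟨_, j, rfl⟩
      refine ⟨1, Subtype.ext (Subtype.ext ?_)⟩
      simp only [pow_one, Subgroup.coe_pow, Subgroup.coe_zpow, Subgroup.coe_one]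
      rw [← zpow_natCast, ← zpow_mul, mul_comm, zpow_mul, zpow_natCast, hx, one_zpow]
    obtain ⟨Q, hQ⟩ := h3.exists_le_sylow
    exact ⟨Q, hQ (Subgroup.mem_zpowers x)⟩
  obtain ⟨Q, hQ⟩ := k ⟨a, ha⟩ h1
  obtain ⟨Q', hQ'⟩ := k ⟨b, hb⟩ h2
  obtain ⟨m, rfl⟩ := MulAction.exists_smul_eq L Q' Q
  exact ⟨m, m.2, ((m • Q' : Sylow r L) : Subgroup L).map L.subtype,
    Finite.of_injective _ (Subgroup.inclusion_injective (Subgroup.map_subtype_le _)), (m • Q').2.map _, ⟨_, hQ, rfl⟩,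
    ⟨m * ⟨b, hb⟩ * m⁻¹, ⟨_, hQ', rfl⟩, rfl⟩⟩

theorem norm_of {Y : Type*} [Group Y] {T : Subgroup Y} (hT : ∀ a ∈ T, ∀ b ∈ T, a * b = b * a) {t : Y} (ht : t ∈ T)
    (hc : ∀ c, c * t = t * c → c ∈ T) {β : MulAut Y} {m y : Y} (h : m * β t * m⁻¹ ∈ T)
    (hy : ∀ t, (MulAut.conj y * β) t ∈ T ↔ t ∈ T) (s : Y) : m * y⁻¹ * s * (m * y⁻¹)⁻¹ ∈ T ↔ s ∈ T := by
  let γ := MulAut.conj m * β
  have k1 : ∀ s, γ s ∈ T → s ∈ T := fun s h1 => hc s (γ.injective (by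
    rw [map_mul, map_mul]
    exact hT _ h1 _ h))
  have k2 : ∀ s, s ∈ T → γ s ∈ T := fun s h1 => by
    have h2 : y * β s * y⁻¹ ∈ T := (hy s).2 h1
    have h3 : ∀ u ∈ T, ∃ v ∈ T, γ v = u := fun u hu => ⟨γ.symm u, k1 _ (by rwa [MulEquiv.apply_symm_apply]),
      γ.apply_symm_apply u⟩
    obtain ⟨v, hv, e⟩ := h3 t ht
    exact hc _ (by rw [← e, ← map_mul, ← map_mul, hT s h1 v hv])
  obtain ⟨s, rfl⟩ := (MulAut.conj y * β).surjective s
  have e : m * y⁻¹ * (MulAut.conj y * β) s * (m * y⁻¹)⁻¹ = γ s := by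
    simp only [γ, MulAut.mul_apply, MulAut.conj_apply]
    group
  rw [hy, e]
  exact ⟨k1 s, k2 s⟩

/-- **conjugacy of tori inside `N`** -/
theorem key (hp : IsType D l M) (hD : Typ D) {e : ℕ} {σ : MulAut (YY D p)} (he : 0 < e) (hσ : IsFrob p e σ)
    {N : Subgroup (YY D p)} (hT : TT D (KK p) ≤ N) {β : MulAut (YY D p)} {y : YY D p}
    (hy : ∀ t, (MulAut.conj y * β) t ∈ TT D (KK p) ↔ t ∈ TT D (KK p)) (hβ : ∀ t ∈ TT D (KK p), β t ∈ N) :
    ∃ m ∈ N, ∃ w, RP hp p w (m * y⁻¹) := by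
  obtain ⟨r, hr, hW, t, ht, h1, hc⟩ := exists_reg p hp hD
  have A := DL.Ex.amb_of_isFrob (locFin p) he hσ
  obtain ⟨d, hd, h2⟩ := A.exists_lev ![t, β t]
  have := A.finite_lev hd
  have : Finite ↥(N ⊓ DL.lev p (D.group (KK p)).subtype d) :=
    Finite.of_injective _ (Subgroup.inclusion_injective inf_le_right)
  obtain ⟨m, hm, Q, _, h3, h4, h5⟩ := syl (N ⊓ DL.lev p (D.group (KK p)).subtype d) hr ⟨hT ht, h2 0⟩ ⟨hβ t ht, h2 1⟩ h1
    (by rw [← map_pow, h1, map_one])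
  exact ⟨m, hm.1, Tor.rp_of_norm (norm_of (BpExc.TorChev.TT_comm hp) ht hc (le_T hp hr hW ht hc h3 h4 h5) hy)⟩

/-! ### saturation -/

variable {R R' : Set (LL l)} {Γ : Subgroup (MulAut (YY D p))} {β φ σ : MulAut (YY D p)} {h : LL l → LL l} {a : LL l}
  {w : M.Group} {n : YY D p} {o : Prop} {e : ℕ} {K B : Subgroup (YY D p)} {g : LL l ≃+ LL l}

theorem exists_cp (hD : Typ D) (ha : RT hp a) : ∃ x, cp hp x a = -1 := by
  have := finW hp
  have k : ∀ i, ∃ j, cartanOf D l i j = -1 := by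
    have hl := typ_l hp
    rcases hD with rfl | rfl | rfl | rfl
    · obtain rfl := hl.1 rfl
      decide +kernel
    · obtain rfl := hl.2.1 rfl
      decide +kernel
    · obtain rfl := hl.2.2.1 rfl
      decide +kernel
    · obtain rfl := hl.2.2.2 rfl
      decide +kernel
  obtain ⟨w, i, rfl⟩ := ha
  obtain ⟨j, hj⟩ := k i
  exact ⟨rep M.toCoxeterSystem hp.isCartan w (sr j), by
    rw [cp, cpr_rep _ _ _ _ (isRoot_sr _ _ i), cpr_sr, ← hj]
    simp [pairing, sr, Pi.single_apply]⟩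

theorem sub_mem (hw : w ∈ WR hp R) (x : LL l) : ac hp w x - x ∈ AddSubgroup.closure R := by
  have := finW hp
  induction hw using Subgroup.closure_induction generalizing x with
  | mem s hs =>
    obtain ⟨v, j, ha, rfl⟩ := hs
    rw [repAut_apply, rep_rfl'_eq, sub_sub_cancel_left]
    exact neg_mem (zsmul_mem (AddSubgroup.subset_closure ha) _)
  | one =>
    rw [ET.ac_one, sub_self]
    exact zero_mem _
  | mul v w _ _ hv hw =>
    rw [ET.ac_mul, ← sub_add_sub_cancel _ (ac hp w x)]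
    exact add_mem (hv _) (hw _)
  | inv v _ hv =>
    have h := neg_mem (hv (ac hp v⁻¹ x))
    rwa [← ET.ac_mul, mul_inv_cancel, ET.ac_one, neg_sub] at h

variable (hp) in
/-- the roots in the span -/
def cl (R : Set (LL l)) : Set (LL l) := {a | RT hp a ∧ a ∈ AddSubgroup.closure R}

theorem cs_cl : Tor.CS hp (cl hp R) :=
  ⟨⟨fun _ h => h.1, by
    rintro x hx y hy z ⟨h1, i, j, -, -, rfl⟩
    exact ⟨h1, add_mem (zsmul_mem hx.2 i) (zsmul_mem hy.2 j)⟩⟩, fun _ h => ⟨h.1.neg, neg_mem h.2⟩⟩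

theorem sub_cl (hR : Sy hp R) : R ⊆ cl hp R := fun a ha => ⟨hR.root a ha, AddSubgroup.subset_closure ha⟩

theorem span_cl : AddSubgroup.closure (cl hp R) ≤ AddSubgroup.closure R := (AddSubgroup.closure_le _).2 fun _ h => h.2

theorem T_le : TT D (KK p) ≤ MR D p R := le_sup_left

theorem MS_le : Tor.MS D p R ≤ MR D p R := le_sup_right

theorem X_le (ha : a ∈ R) : XX D l (KK p) a ≤ MR D p R := (RGD.le_Sup ha).trans MS_le

theorem MR_le {N : Subgroup (YY D p)} (h1 : TT D (KK p) ≤ N) (h2 : ∀ a ∈ R, XX D l (KK p) a ≤ N) : MR D p R ≤ N :=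
  sup_le h1 (RGD.Sup_le h2)

theorem MR_mono (h : R ⊆ R') : MR D p R ≤ MR D p R' := MR_le T_le fun _ ha => X_le (h ha)

theorem exists_refl (ha : RT hp a) {N : Subgroup (YY D p)} (h1 : XX D l (KK p) a ≤ N) (h2 : XX D l (KK p) (-a) ≤ N) :
    ∃ m ∈ N, ∃ w, RP hp p w m ∧ ∀ x, ac hp w x = x - cp hp x a • a := by
  have := finW hp
  have h3 := ha.neg
  obtain ⟨v, i, rfl⟩ := id ha
  obtain ⟨m, hm, h4⟩ := Tor.exists_rp_MS (hp := hp) (p := p) (S := {_, -_}) (by rintro _ (rfl | rfl); exacts [ha, h3])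
    (by rintro _ (rfl | rfl); exacts [.inr rfl, .inl (neg_neg _)]) (Subgroup.subset_closure ⟨v, i, .inl rfl, rfl⟩)
  exact ⟨m, (RGD.Sup_le (by rintro _ (rfl | rfl); exacts [h1, h2]) : _ ≤ N) hm, _, h4, rep_rfl'_eq _ _ v i⟩

theorem mem_span (hD : Typ D) (hR : Sy hp R) (ha : RT hp a) (h1 : XX D l (KK p) a ≤ MR D p R)
    (h2 : XX D l (KK p) (-a) ≤ MR D p R) : a ∈ AddSubgroup.closure R := by
  obtain ⟨m, hm, w, h3, h4⟩ := exists_refl ha h1 h2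
  obtain ⟨x, hx⟩ := exists_cp hD ha
  have h6 : m ∈ Tor.DD D p (cl hp R) := by
    rw [Tor.DD, sup_comm]
    exact MR_mono (sub_cl hR) hm
  have h5 := span_cl (sub_mem (hp := hp) (Tor.mem_WS cs_cl h6 h3) x)
  rwa [h4, hx, sub_sub_cancel_left, neg_smul, one_smul, neg_neg] at h5

variable (hp) in
/-- a maximal invariant set of roots -/
structure Pre (Γ : Subgroup (MulAut (YY D p))) (R : Set (LL l)) : Prop where
  sy : Sy hp R
  pp : Pp hp R
  inv : Iv Γ (MR D p R)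
  max : ∀ R', R ⊆ R' → Sy hp R' → Pp hp R' → Iv Γ (MR D p R') → R' ⊆ R

theorem pre_of (S : Sit hp p e σ g Γ K B R) : Pre hp Γ R := ⟨S.sy, S.pp, S.inv, S.max⟩

/-- **saturation** -/
theorem Pre.sat (P : Pre hp Γ R) (hD : Typ D) (ha : RT hp a) (h1 : XX D l (KK p) a ≤ MR D p R)
    (h2 : XX D l (KK p) (-a) ≤ MR D p R) : a ∈ R := by
  let S : Set (LL l) := {a | RT hp a ∧ XX D l (KK p) a ≤ MR D p R ∧ XX D l (KK p) (-a) ≤ MR D p R}
  have h3 : R ⊆ S := fun b hb => ⟨P.sy.root b hb, X_le hb, X_le (P.sy.neg b hb)⟩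
  have h4 : MR D p S = MR D p R := le_antisymm (MR_le T_le fun _ hb => hb.2.1) (MR_mono h3)
  obtain ⟨c, h5, h6⟩ := P.pp
  exact P.max S h3 ⟨fun _ hb => hb.1, fun b hb => ⟨hb.1.neg, hb.2.2, by rw [neg_neg]; exact hb.2.1⟩⟩
    ⟨c, h5, fun h7 => h6 ((AddSubgroup.closure_le _).2 (fun b hb => mem_span hD P.sy hb.1 hb.2.1 hb.2.2) h7)⟩
    (h4 ▸ P.inv) ⟨ha, h1, h2⟩

theorem wf_of (F : FR hp p β g) : WF hp p β g := ⟨F.tor, F.map⟩

theorem wf_le (F : WF hp p β h) {N : Subgroup (YY D p)} (hN : ∀ y ∈ N, β y ∈ N) (ha : RT hp a)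
    (h1 : XX D l (KK p) a ≤ N) : XX D l (KK p) (h a) ≤ N := fun y hy => by
  obtain ⟨y, rfl⟩ := β.surjective y
  exact hN y (h1 ((F.map a ha y).1 hy))

theorem wf_maps (F : WF hp p β h) (hR : Sy hp R) (hm : Set.MapsTo h R R') : ∀ y ∈ MR D p R, β y ∈ MR D p R' :=
  (MR_le (fun t ht => T_le ((F.tor t).2 ht)) fun a ha y hy => X_le (hm ha) ((F.map a (hR.root a ha) y).2 hy) :
    MR D p R ≤ (MR D p R').comap β.toMonoidHom)

theorem rt_ac (w : M.Group) : RT hp (ac hp w a) ↔ RT hp a :=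
  ⟨fun h => by simpa only [rep_inv_apply, repAut_apply] using h.act w⁻¹, fun h => h.act w⟩

theorem wf_rp (F : WF hp p β h) (O : Ok hp o h) (hn : RP hp p w n) : WF hp p (MulAut.conj n * β) (ac hp w ∘ h) :=
  ⟨fun t => (hn.fr.tor _).trans (F.tor t), fun a ha y => (hn.fr.map _ (O.bij.mapsTo ha) _).trans (F.map a ha y)⟩

theorem ok_rp (O : Ok hp o h) (w : M.Group) : Ok hp o (ac hp w ∘ h) where
  bij := Set.BijOn.comp ⟨fun _ ha => (rt_ac w).2 ha, (ac hp w).injective.injOn, fun a ha =>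
    ⟨(ac hp w).symm a, (rt_ac w).1 (by rwa [AddEquiv.apply_symm_apply]), (ac hp w).apply_symm_apply a⟩⟩ O.bij
  neg a ha := by rw [Function.comp_apply, O.neg a ha, map_neg, Function.comp_apply]
  ort a b ha hb := by
    have := finW hp
    rw [← O.ort a b ha hb]
    exact Eq.congr_left (cpr_rep _ _ w _ (O.bij.mapsTo hb))
  lin := O.lin.imp_right fun ⟨θ, hθ⟩ => ⟨θ.trans (ac hp w), fun a ha => congrArg _ (hθ a ha)⟩

theorem Pre.maps (P : Pre hp Γ R) (hD : Typ D) (F : WF hp p β h) (h1 : ∀ a, RT hp a → RT hp (h a) ∧ h (-a) = -h a)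
    (hN : ∀ y ∈ MR D p R, β y ∈ MR D p R) : Set.MapsTo h R R := fun a ha =>
  have h2 := P.sy.root a ha
  P.sat hD (h1 a h2).1 (wf_le F hN h2 (X_le ha)) ((h1 a h2).2 ▸ wf_le F hN h2.neg (X_le (P.sy.neg a ha)))

theorem Pre.maps' (P : Pre hp Γ R) (hD : Typ D) (F : FR hp p β g) (hN : ∀ y ∈ MR D p R, β y ∈ MR D p R) :
    ∀ a ∈ R, g a ∈ R := P.maps hD (wf_of F) (fun a ha => ⟨(F.root a).2 ha, map_neg g a⟩) hN

theorem conj_eq {Y : Type*} [Group Y] (m y : Y) (φ : MulAut Y) :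
    MulAut.conj (m * y⁻¹) * (MulAut.conj y * φ) = MulAut.conj m * φ := by
  rw [← mul_assoc, ← map_mul, inv_mul_cancel_right]

theorem conj_mem {Y : Type*} [Group Y] {N : Subgroup Y} {m : Y} {φ : MulAut Y} (hm : m ∈ N) (h : ∀ y ∈ N, φ y ∈ N) :
    ∀ y ∈ N, (MulAut.conj m * φ) y ∈ N := fun y hy => mul_mem (mul_mem hm (h y hy)) (inv_mem hm)

/-- the elements of `Γ` are framed up to `MR R` -/
theorem Pre.frame (P : Pre hp Γ R) (C : Co hp p e σ Γ K B) (hφ : φ ∈ Γ) : ∃ m ∈ MR D p R, ∃ h,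
    WF hp p (MulAut.conj m * φ) h ∧ Ok hp (D = chevF4 ∧ p = 2) h ∧ Set.MapsTo h R R := by
  obtain ⟨y, h, F, O⟩ := C.lift φ hφ
  obtain ⟨m, hm, w, hw⟩ := key hp C.typ C.he C.frob (T_le (R := R)) F.tor fun t ht => P.inv φ hφ t (T_le ht)
  have F' := wf_rp F O hw
  have O' := ok_rp O w
  rw [conj_eq] at F'
  exact ⟨m, hm, _, F', O', P.maps C.typ F' (fun a ha => ⟨O'.bij.mapsTo ha, O'.neg a ha⟩) (conj_mem hm (P.inv φ hφ))⟩

theorem Pre.rc (P : Pre hp Γ R) (hD : Typ D) : Rc hp R := fun a ha b hb => by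
  obtain ⟨m, hm, w, h1, h2⟩ := exists_refl (P.sy.root a ha) (X_le (D := D) (p := p) ha) (X_le (P.sy.neg a ha))
  exact h2 b ▸ P.maps' hD h1.fr (fun y hy => mul_mem (mul_mem hm hy) (inv_mem hm)) b hb

theorem X_inj {b : LL l} (ha : RT hp a) (hb : RT hp b) (h : XX D l (KK p) a ≤ XX D l (KK p) b) : a = b :=
  let ⟨_, hu, h1⟩ := H696.GmnToral.XX_ne (k := KK p) hp M.toCoxeterSystem ha
  H696.GmnToral.XX_injective hp M.toCoxeterSystem (locFin p) p ha hb h1 hu (h hu)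

theorem MR_empty : MR D p (∅ : Set (LL l)) = TT D (KK p) := le_antisymm (MR_le le_rfl fun _ h => h.elim) T_le

theorem lm (S : Sit hp p e σ g Γ K B R) : LM hp (D = chevF4 ∧ p = 2) g R := by
  have P := pre_of S
  have C := S.co
  refine ⟨S.gw, S.sy, S.pp, P.rc C.typ, P.maps' C.typ S.fr (S.inv σ C.mem), fun R' h1 h2 h3 h4 =>
    S.max R' h1 h2 h3 fun φ hφ y hy => ?_⟩
  obtain ⟨m, hm, h, F, O, h5⟩ := P.frame C hφ
  have h6 := wf_maps F h2 (h4 h O h5 fun hR a ha => ?_) y hy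
  · have h7 := MR_mono h1 hm
    simpa [mul_assoc] using mul_mem (mul_mem (inv_mem h7) h6) h7
  subst hR
  rw [MR_empty] at hm
  have F' := wf_rp F O (RP.of_mem (inv_mem hm))
  rw [← mul_assoc, ← map_mul, inv_mul_cancel, map_one, one_mul] at F'
  have h7 := (S.fr.root a).2 ha
  have h8 := O.bij.mapsTo ha
  refine X_inj (hp := hp) (p := p) (O.bij.mapsTo h7) ((S.fr.root _).2 h8) fun x hx => ?_
  obtain ⟨x, rfl⟩ := (φ * σ).surjective x
  have h9 := (S.fr.map a ha x).1 ((F'.map _ h7 _).1 (by rwa [Function.comp_apply, ET.ac_one]))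
  have h10 := (F'.map a ha x).2 h9
  rw [Function.comp_apply, ET.ac_one] at h10
  rw [C.comm φ hφ]
  exact (S.fr.map _ h8 _).2 h10

/-! ### transport -/

section Map

variable {Y : Type} [Group Y] (γ : MulAut Y)

theorem mem_map' {N : Subgroup Y} {y : Y} : γ y ∈ N.map γ.toMonoidHom ↔ y ∈ N :=
  Subgroup.mem_map_iff_mem (f := γ.toMonoidHom) γ.injective

theorem card_map' (N : Subgroup Y) : Nat.card (N.map γ.toMonoidHom) = Nat.card N :=
  Subgroup.card_map_of_injective γ.injective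

theorem cK_map (K : Subgroup Y) (b : Y) : cK (K.map γ.toMonoidHom) (γ b) = cK K b := by
  rw [cK, cK, ← card_map' γ (K ⊓ _)]
  refine congrArg (fun N : Subgroup Y => Nat.card N) (Subgroup.ext fun y => ?_)
  obtain ⟨y, rfl⟩ := γ.surjective y
  rw [mem_map', Subgroup.mem_inf, Subgroup.mem_inf, mem_map', Subgroup.mem_centralizer_singleton_iff,
    Subgroup.mem_centralizer_singleton_iff, ← map_mul, ← map_mul, γ.injective.eq_iff]

theorem gb_map {K B : Subgroup Y} (h : Gb (K.map γ.toMonoidHom) (B.map γ.toMonoidHom)) : Gb K B := by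
  obtain ⟨_, ⟨b, hb, rfl⟩, h⟩ := h
  exact ⟨b, hb, by rwa [MulEquiv.coe_toMonoidHom, cK_map, card_map', card_map'] at h⟩

theorem conj_apply (φ : MulAut Y) (y : Y) : (γ * φ * γ⁻¹) (γ y) = γ (φ y) := by simp

theorem conj_conj (z : Y) (φ : MulAut Y) :
    MulAut.conj z * φ * (MulAut.conj z)⁻¹ = MulAut.conj (z * (φ z)⁻¹) * φ := by
  ext x
  simp [mul_assoc]

end Map

theorem iv_map (γ : MulAut (YY D p)) {N : Subgroup (YY D p)} : Iv (TH.cj γ Γ) (N.map γ.toMonoidHom) ↔ Iv Γ N := by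
  constructor
  · intro h φ hφ y hy
    have h1 := h _ ⟨φ, hφ, rfl⟩ _ ((mem_map' γ).2 hy)
    exact (mem_map' γ).1 (conj_apply γ φ y ▸ h1)
  · rintro h _ ⟨φ, hφ, rfl⟩ _ ⟨y, hy, rfl⟩
    have h1 := (mem_map' γ).2 (h φ hφ y hy)
    exact conj_apply γ φ y ▸ h1

/-- **transport of the context by an automorphism** -/
theorem co_map (C : Co hp p e σ Γ K B) (γ : MulAut (YY D p)) (h1 : IsFrob p e (γ * σ * γ⁻¹))
    (h2 : ∃ y g, FR hp p (MulAut.conj y * (γ * σ * γ⁻¹)) g ∧ GW hp g)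
    (h3 : ∀ φ ∈ Γ, ∃ y h, WF hp p (MulAut.conj y * (γ * φ * γ⁻¹)) h ∧ Ok hp (D = chevF4 ∧ p = 2) h) :
    Co hp p e (γ * σ * γ⁻¹) (TH.cj γ Γ) (K.map γ.toMonoidHom) (B.map γ.toMonoidHom) := by
  have k : ∀ y, (γ * σ * γ⁻¹) (γ y) = γ y ↔ σ y = y := fun y => by rw [conj_apply, γ.injective.eq_iff]
  refine ⟨C.typ, C.he, h1, h2, ?_, ⟨σ, C.mem, rfl⟩, ?_, ?_, fun y hy => ?_, fun y z hy hz => ?_, Subgroup.map_mono C.B_le,
    ?_, fun N h4 h5 x hx => ?_, (card_map' γ K).symm ▸ C.ord, ?_, ?_⟩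
  · have := C.fin
    refine Finite.of_surjective (fun y : DL.fix σ => (⟨γ y, (k y).2 y.2⟩ : DL.fix (γ * σ * γ⁻¹))) fun y => ?_
    obtain ⟨y, hy⟩ := y
    obtain ⟨y, rfl⟩ := γ.surjective y
    exact ⟨⟨y, (k y).1 hy⟩, rfl⟩
  · rintro _ ⟨φ, hφ, rfl⟩
    show γ * φ * γ⁻¹ * _ = _ * (γ * φ * γ⁻¹)
    rw [conj_mul, conj_mul, C.comm φ hφ]
  · rintro _ ⟨y, hy, rfl⟩
    exact (k y).2 (C.K_le hy)
  · obtain ⟨y, rfl⟩ := γ.surjective y
    rw [← map_pow, mem_map']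
    exact C.pow y ((k y).1 hy)
  · obtain ⟨y, rfl⟩ := γ.surjective y
    obtain ⟨z, rfl⟩ := γ.surjective z
    rw [← map_inv, ← map_inv, ← map_mul, ← map_mul, ← map_mul, mem_map']
    exact C.cmt y z ((k y).1 hy) ((k z).1 hz)
  · rintro _ ⟨b, hb, rfl⟩
    refine ⟨_, C.conj b hb, ?_⟩
    ext x
    simp
  · obtain ⟨N, rfl⟩ : ∃ N' : Subgroup (YY D p), N = N'.map γ.toMonoidHom :=
      ⟨N.comap γ.toMonoidHom, (Subgroup.map_comap_eq_self_of_surjective γ.surjective N).symm⟩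
    obtain ⟨x, rfl⟩ := γ.surjective x
    exact (mem_map' γ).2 (C.max N ((iv_map γ).1 h4) (fun h6 => h5 (Subgroup.map_mono h6))
      ⟨(mem_map' γ).1 hx.1, (mem_map' γ).1 hx.2⟩)
  · rintro _ ⟨φ, hφ, rfl⟩
    exact h3 φ hφ
  · rintro h4 h5 _ ⟨b, hb, rfl⟩ t ht h6
    rw [MulEquiv.coe_toMonoidHom, cK_map]
    rw [MulEquiv.coe_toMonoidHom, γ.orderOf_eq] at h6
    exact C.f42 h4 h5 b hb t ht h6

/-- **transport by an inner automorphism** -/
theorem co_conj (C : Co hp p e σ Γ K B) (z : YY D p) :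
    Co hp p e (MulAut.conj z * σ * (MulAut.conj z)⁻¹) (TH.cj (MulAut.conj z) Γ) (TH.cj z K) (TH.cj z B) := by
  have k : ∀ (y : YY D p) φ, MulAut.conj (y * (z * (φ z)⁻¹)⁻¹) * (MulAut.conj z * φ * (MulAut.conj z)⁻¹) =
      MulAut.conj y * φ := fun y φ => by rw [conj_conj, conj_eq]
  refine co_map C _ (conj_conj z σ ▸ C.frob.conj_mul _) ?_ fun φ hφ => ?_
  · obtain ⟨y, g, h⟩ := C.fr
    exact ⟨_, g, (k y σ).symm ▸ h⟩
  · obtain ⟨y, g, h⟩ := C.lift φ hφ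
    exact ⟨_, g, (k y φ).symm ▸ h⟩

theorem cj_self {Y : Type*} [Group Y] {N : Subgroup Y} {z : Y} (hz : z ∈ N) : TH.cj z N = N := by
  ext x
  rw [TH.mem_cj]
  exact ⟨fun h => by simpa [mul_assoc] using mul_mem (mul_mem hz h) (inv_mem hz),
    fun h => mul_mem (mul_mem (inv_mem hz) h) hz⟩

theorem iv_conj {N : Subgroup (YY D p)} {z : YY D p} (hz : z ∈ N) : Iv (TH.cj (MulAut.conj z) Γ) N ↔ Iv Γ N := by
  have h := iv_map (Γ := Γ) (MulAut.conj z) (N := N)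
  rwa [show N.map (MulAut.conj z).toMonoidHom = N from cj_self hz] at h

theorem lang_MR (he : 0 < e) (hσ : IsFrob p e σ) (F : FR hp p σ g) (hR : Sy hp R) (hg : ∀ a ∈ R, g a ∈ R) {m : YY D p}
    (hm : m ∈ MR D p R) : ∃ z ∈ MR D p R, m = z⁻¹ * σ z :=
  (DL.Ex.chevFr hp (locFin p) he hσ F).lang_TS hR.root hg hm

/-- **twisting by an element of `MR R`** -/
theorem twist (C : Co hp p e σ Γ K B) (P : Pre hp Γ R) {m : YY D p} (hm : m ∈ MR D p R)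
    (F : FR hp p (MulAut.conj m * σ) g) (hg : GW hp g) :
    ∃ σ' Γ' K' B', Sit hp p e σ' g Γ' K' B' R ∧ (Gb K' B' → Gb K B) := by
  obtain ⟨z, hz, h1⟩ := lang_MR C.he (C.frob.conj_mul m) F P.sy (P.maps' C.typ F (conj_mem hm (P.inv σ C.mem))) (inv_mem hm)
  have h2 : m = z * (σ z)⁻¹ := by
    rw [MulAut.mul_apply, MulAut.conj_apply, ← mul_assoc, eq_comm, mul_eq_right] at h1
    rw [eq_mul_inv_iff_mul_eq, eq_comm, ← inv_mul_eq_one, h1]
  refine ⟨_, _, _, _, ⟨co_conj C z, by rwa [conj_conj, ← h2], hg, P.sy, P.pp, (iv_conj hz).2 P.inv,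
    fun R' h3 h4 h5 h6 => P.max R' h3 h4 h5 ((iv_conj (MR_mono h3 hz)).1 h6)⟩, gb_map _⟩

theorem gw_ac (hg : GW hp g) (v w : M.Group) {g' : LL l ≃+ LL l} (h : ∀ x, g' (ac hp v x) = ac hp w (g x)) : GW hp g' := by
  have k : ∀ a, g' a = ac hp w (g (ac hp v⁻¹ a)) := fun a => by rw [← h, ← ET.ac_mul, mul_inv_cancel, ET.ac_one]
  obtain ⟨u, hu⟩ := hg
  exact ⟨w * u * v⁻¹, hu.imp (fun h1 a => by rw [k, h1, ET.ac_mul, ET.ac_mul]) fun h1 => ⟨h1.1, fun a => by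
    rw [k, h1.2, map_neg, ET.ac_mul, ET.ac_mul]⟩⟩

theorem sy_ac (hR : Sy hp R) (w : M.Group) : Sy hp (ac hp w '' R) :=
  ⟨by rintro _ ⟨a, ha, rfl⟩; exact (rt_ac w).2 (hR.root a ha),
    by rintro _ ⟨a, ha, rfl⟩; exact ⟨-a, hR.neg a ha, map_neg _ a⟩⟩

theorem pp_ac (hR : Pp hp R) (w : M.Group) : Pp hp (ac hp w '' R) := by
  obtain ⟨a, h1, h2⟩ := hR
  refine ⟨_, (rt_ac w).2 h1, fun h => h2 ?_⟩
  rw [show ac hp w '' R = (ac hp w).toAddMonoidHom '' R from rfl, ← AddMonoidHom.map_closure] at h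
  exact (AddSubgroup.mem_map_iff_mem (f := (ac hp w).toAddMonoidHom) (ac hp w).injective).1 h

theorem ac_ac (w : M.Group) (R : Set (LL l)) : ac hp w '' (ac hp w⁻¹ '' R) = R := by
  rw [Set.image_image]
  simp only [← ET.ac_mul, mul_inv_cancel, ET.ac_one, Set.image_id']

theorem cj_MR (hn : RP hp p w n) (hR : Sy hp R) : TH.cj n (MR D p R) = MR D p (ac hp w '' R) := by
  refine le_antisymm ?_ fun y hy => ?_
  · rintro _ ⟨y, hy, rfl⟩
    exact wf_maps (wf_of hn.fr) hR (Set.mapsTo_image _ _) y hy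
  · have h1 := wf_maps (R' := R) (wf_of hn.inv.fr) (sy_ac hR w) (by
      rintro _ ⟨a, ha, rfl⟩
      rwa [← ET.ac_mul, inv_mul_cancel, ET.ac_one]) y hy
    rw [MulAut.conj_apply, inv_inv] at h1
    exact TH.mem_cj.2 h1

theorem Pre.move (P : Pre hp Γ R) (hn : RP hp p w n) : Pre hp (TH.cj (MulAut.conj n) Γ) (ac hp w '' R) := by
  refine ⟨sy_ac P.sy w, pp_ac P.pp w, cj_MR hn P.sy ▸ (iv_map _).2 P.inv, fun R' h1 h2 h3 h4 => ?_⟩
  rw [← ac_ac (hp := hp) w R'] at h1 h4 ⊢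
  rw [← cj_MR hn (sy_ac h2 _)] at h4
  exact Set.image_mono (P.max _ ((Set.image_subset_image_iff (ac hp w).injective).1 h1) (sy_ac h2 _) (pp_ac h3 _)
    ((iv_map _).1 h4))

theorem cj_cj {Y : Type*} [Group Y] (x : Y) (N : Subgroup Y) : TH.cj x⁻¹ (TH.cj x N) = N := by
  ext y
  simp [mul_assoc]

theorem exists_pre (H : HasR hp p Γ) : ∃ x R, Pre hp (TH.cj (MulAut.conj x) Γ) R := by
  obtain ⟨x₀, R₀, H⟩ := H
  have h1 : {R | ∃ x, Sy hp R ∧ Pp hp R ∧ Iv Γ (TH.cj x (MR D p R))}.Finite :=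
    (fin_RT hp).finite_subsets.subset fun R ⟨_, h, _⟩ => h.root
  obtain ⟨R, ⟨x, h2, h3, h4⟩, h5⟩ := Set.exists_max_image _ Set.ncard h1 ⟨R₀, x₀, H⟩
  refine ⟨x⁻¹, R, h2, h3, cj_cj x (MR D p R) ▸ (iv_map _).2 h4, fun R' k1 k2 k3 k4 => ?_⟩
  rw [← cj_cj x (MR D p R')] at k4
  exact (Set.eq_of_subset_of_ncard_le k1 (h5 R' ⟨x, k2, k3, (iv_map _).1 k4⟩) ((fin_RT hp).subset k2.root)).ge

theorem cl_or (L : LM hp o g R) : Cl hp R ∨ o := by
  refine (em o).symm.imp_left fun h a h1 h2 => L.kill (cl hp R) (sub_cl L.sy) ⟨fun _ h => h.1, cs_cl.neg⟩ ?_ ?_ ⟨h1, h2⟩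
  · obtain ⟨c, h3, h4⟩ := L.pp
    exact ⟨c, h3, fun h5 => h4 (span_cl h5)⟩
  · intro f O h3 _ b hb
    obtain ⟨θ, hθ⟩ := O.lin.resolve_left h
    refine ⟨O.bij.mapsTo hb.1, hθ b hb.1 ▸ ?_⟩
    exact ((AddSubgroup.closure_le ((AddSubgroup.closure R).comap θ.toAddMonoidHom)).2 fun c hc =>
      AddSubgroup.subset_closure (show θ c ∈ R from hθ c (L.sy.root c hc) ▸ h3 hc)) hb.2

theorem card_norm (S : Sit hp p e σ g Γ K B R) {ω : ℕ} (h : Om hp R ω) :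
    Nat.card ↥(DL.fix σ ⊓ Subgroup.normalizer (MR D p R : Set (YY D p))) ≤ ω * Nat.card ↥(DL.fix σ ⊓ MR D p R) := by
  obtain ⟨L, h1, h2⟩ := h
  have := finW hp
  have C := S.co
  have := C.fin
  have k : ∀ y : ↥(DL.fix σ ⊓ Subgroup.normalizer (MR D p R : Set (YY D p))), ∃ u : L, ∃ m ∈ MR D p R,
      RP hp p u (m * y) := fun y => by
    have h3 : ∀ x ∈ MR D p R, MulAut.conj (y : YY D p) x ∈ MR D p R := fun x => (Subgroup.mem_normalizer_iff.1 y.2.2 x).1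
    obtain ⟨m, hm, u, hu⟩ := key hp C.typ C.he C.frob (T_le (R := R)) (β := MulAut.conj (y : YY D p))
      (y := (y : YY D p)⁻¹) (fun t => by rw [← map_mul, inv_mul_cancel, map_one, MulAut.one_apply])
      fun t ht => h3 t (T_le ht)
    rw [inv_inv] at hu
    obtain ⟨w, hw, h4⟩ := h2 u ((pre_of S).maps' C.typ hu.fr (by rw [map_mul]; exact conj_mem hm h3))
    obtain ⟨m', hm', h5⟩ := Tor.exists_rp_MS (p := p) S.sy.root S.sy.neg hw
    exact ⟨⟨_, h4⟩, m' * m, mul_mem (MS_le hm') hm, mul_assoc m' m y ▸ h5.mul hu⟩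
  choose f m hm hf using k
  refine (SB.Exc.Card.card_le_mul ((MR D p R).subgroupOf _) f fun a b hab => ?_).trans (Nat.mul_le_mul h1 ?_)
  · have h3 := (hf a).inv.mul (hf b)
    rw [hab, inv_mul_cancel] at h3
    have h6 := (Subgroup.mem_normalizer_iff.1 (inv_mem a.2.2) _).1 (mul_mem (inv_mem (hm a)) (hm b))
    have h7 := mul_mem (inv_mem h6) (T_le (R := R) h3.mem_T)
    refine Subgroup.mem_subgroupOf.2 (Eq.mp (congrArg (· ∈ MR D p R) ?_) h7)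
    rw [Subgroup.coe_mul, Subgroup.coe_inv]
    group
  · have : Finite ↥(DL.fix σ ⊓ MR D p R) := Finite.of_injective _ (Subgroup.inclusion_injective inf_le_left)
    exact Nat.card_le_card_of_injective (fun y => ⟨y.1, y.1.2.1, y.2⟩) fun a b h =>
      Subtype.ext (Subtype.ext (Subtype.mk.inj h))

end Gp

open Gp

theorem boxLM : BoxLM := fun _ _ _ _ _ _ _ _ _ _ _ _ _ S => lm S

theorem boxNrm : BoxNrm := by
  intro D l M hp p _ e σ Γ K B C H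
  obtain ⟨x, R, P⟩ := exists_pre H
  have C' := co_conj C x
  obtain ⟨y, g, F, hg⟩ := C'.fr
  obtain ⟨m, hm, w, hw⟩ := key hp C.typ C.he C.frob (T_le (R := R)) F.tor fun t ht => P.inv _ C'.mem t (T_le ht)
  have F' := hw.fr.mul F
  rw [conj_eq] at F'
  obtain ⟨σ', Γ', K', B', S, h⟩ := twist C' P hm F' (gw_ac hg 1 w fun a => by rw [ET.ac_one]; rfl)
  exact ⟨σ', _, Γ', K', B', R, S, fun h1 => gb_map _ (h h1)⟩

theorem boxMv : BoxMv := by
  rintro D l M hp p _ e σ g Γ K B R S g' _ ⟨v, w, rfl, hw, h⟩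
  obtain ⟨n, hn⟩ := exists_RP hp p v
  have P := (pre_of S).move hn
  obtain ⟨m, hm, h1⟩ := Tor.exists_rp_MS (p := p) P.sy.root P.sy.neg hw
  have F := h1.fr.mul ((hn.fr.mul S.fr).mul hn.fr.inv)
  obtain ⟨σ', Γ', K', B', S', h2⟩ := twist (g := g') (co_conj S.co n) P (MS_le hm) (by
    convert F using 1
    ext1 x
    obtain ⟨x, rfl⟩ := (ac hp v).surjective x
    simp only [AddEquiv.trans_apply, AddEquiv.symm_apply_apply, h])
    (gw_ac S.gw v (w * v) fun x => by rw [h, ET.ac_mul])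
  exact ⟨σ', Γ', K', B', S', fun h3 => gb_map _ (h2 h3)⟩

theorem boxBd_of (hS : BoxSub) : BoxBd := by
  rintro D l M hp p _ e σ g Γ K B R S n ⟨ω, h1, h2⟩
  have L := lm S
  refine (card_norm S h1).trans (h2.elim (fun h3 => (Nat.mul_le_mul_left _ ?_).trans h3) fun h3 => ?_)
  · exact hS D l M hp p e σ g R S.co.he S.co.frob S.fr S.sy L.rc (cl_or L) L.inv
  · rw [h3.1, MR_empty, Cb.card_TT (hp := hp) S.co.he S.co.frob S.fr]
    exact h3.2

end Cfsg.Agent.N2.Ex.Al
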