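import Cfsg.Agent.N2.Ex.Al.Srv
import Cfsg.Agent.N2.Ex.Al.TbD

/-!
# N2, subgroups of maximal rank: the rows of `E6` (helper40, generated data)
-/

set_option autoImplicit false
set_option maxRecDepth 100000

namespace Cfsg.Agent.N2.Ex.Al.Ck

open Cfsg Cfsg.Lie Cfsg.Agent.Nodes.RGDChev

/-- T -/
def rE6_0 : Rw := ⟨0, [], [(0, 1, []), (1, 1, [12, 11]), (2, 1, [6, 0]), (3, 1, [8, 6]), (4, 1, [14, 11]), (5, 1, [20, 17]), (6, 1, [2]), (7, 1, [12, 6]), (8, 1, [11, 0]), (9, 1, [14, 6]), (10, 1, [20, 11]), (11, 1, [8]), (12, 1, [16, 0]), (13, 1, [18, 6]), (14, 1, [17, 0]), (15, 1, [20, 6]), (16, 1, [12]), (17, 1, [14]), (18, 1, [21, 0]), (19, 1, [24, 6]), (20, 1, [22, 0]), (21, 1, [18]), (22, 1, [20]), (23, 1, [25, 0]), (24, 1, [26, 0]), (25, 1, [23]), (26, 1, [24]), (27, 1, [29, 0]), (28, 1, [23, 2]), (29, 1, [27]), (30,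 1, [32, 0]), (31, 1, [27, 2]), (32, 1, [30]), (33, 1, [30, 2]), (34, 1, [30, 8]), (35, 1, [30, 12]), (36, 1, [0]), (37, 1, [16, 8]), (38, 1, [6]), (39, 1, [11, 2]), (40, 1, [17, 8]), (41, 1, [22, 14]), (42, 1, [2, 0]), (43, 1, [16, 2]), (44, 1, [11]), (45, 1, [17, 2]), (46, 1, [22, 8]), (47, 1, [8, 0]), (48, 1, [16]), (49, 1, [21, 2]), (50, 1, [17]), (51, 1, [22, 2]), (52, 1, [12, 0]), (53, 1, [14, 0]), (54, 1, [21]), (55, 1, [26, 2]), (56, 1, [22]), (57, 1, [18, 0]), (58, 1, [20, 0]), (59, 1, [25]), (60, 1, [26]), (61, 1, [23, 0]), (62, 1, [24, 0]), (63, 1, [29]), (64, 1, [25, 6]), (65, 1, [27, 0]), (66, 1, [32]), (67, 1, [29, 6]), (68, 1, [30, 0]), (69, 1, [32, 6]), (70, 1, [32, 11]), (71, 1, [32, 16])]⟩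

/-- A1 -/
def rE6_1 : Rw := ⟨68719476737, [0], [(1, 2, []), (2, 3, []), (3, 2, [7, 1]), (4, 2, [9, 7]), (5, 2, [15, 13]), (7, 2, [3]), (8, 3, [3]), (9, 2, [13, 1]), (10, 2, [15, 7]), (12, 3, [7]), (13, 2, [9]), (14, 3, [9]), (15, 2, [19, 1]), (18, 3, [13]), (19, 2, [15]), (20, 3, [15]), (23, 3, [13, 3]), (24, 3, [19]), (27, 3, [19, 3]), (28, 2, [34, 19]), (30, 3, [19, 9]), (31, 2, [34, 13]), (33, 2, [34, 7]), (34, 2, [35, 1]), (35, 2, [34]), (37, 2, [1]), (39, 2, [7]), (40, 2, [13, 3]), (41, 2, [19, 9]), (42, 3, [28, 13, 3]), (43, 2, [3, 1]), (45, 2, [13]), (46, 2, [19, 3]), (47, 3, [28, 13]), (49, 2, [9, 1]), (51, 2, [19]), (52, 3, [28, 9]), (53, 3, [28, 7]), (55, 2, [15, 1]), (57, 3, [28, 3]), (58, 3, [31, 7]), (61, 3, [28]), (62, 3, [31, 3]), (64, 2, [35, 15]), (65, 3, [31]), (67, 2, [35, 9]), (68, 3, [33]),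 (69, 2, [35, 3]), (70, 2, [35]), (71, 2, [34, 1])]⟩

/-- A1A1 -/
def rE6_2 : Rw := ⟨206158430211, [0, 1], [(2, 5, []), (3, 5, [7, 1, 12, 11]), (4, 4, []), (5, 4, [10, 4]), (8, 8, []), (9, 5, [4, 7, 1, 12, 11]), (10, 4, [5]), (14, 8, [4]), (15, 5, [10, 7, 1, 12, 11]), (20, 8, [10]), (23, 5, [28, 2, 0]), (27, 5, [31, 2, 0]), (28, 4, [31, 10]), (30, 5, [33, 2, 0]), (31, 4, [33, 4]), (33, 4, [31]), (34, 5, [33, 7, 1, 12, 11]), (40, 4, [4]), (41, 4, [10]), (42, 5, [2, 0]), (43, 5, [12, 11]), (46, 4, [5, 4]), (49, 5, [4, 12, 11]), (52, 8, [28, 4]), (55, 5, [10, 12, 11]), (57, 8, [28]), (61, 5, [28]), (62, 8, [31]), (64, 4, [33, 5]), (65, 5, [31]), (67, 4, [33]), (68, 5, [33]), (69, 4, [31, 4]), (71, 5, [33, 12, 11])]⟩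

/-- A2 -/
def rE6_3 : Rw := ⟨4741643894853, [0, 2], [(1, 5, []), (3, 8, [1, 3]), (4, 5, [4, 28, 13, 3, 2, 0]), (5, 5, [10, 28, 13, 3, 2, 0]), (7, 8, [3]), (9, 8, [4, 1, 3]), (10, 5, [5, 4, 28, 13, 3, 2, 0]), (13, 8, [4, 3]), (15, 8, [10, 1, 3]), (19, 8, [10, 3]), (23, 8, [34, 5, 28, 13, 8, 0]), (27, 8, [34, 28, 13, 8, 0]), (30, 8, [34, 4, 28, 13, 8, 0]), (34, 5, [35, 1]), (35, 5, [34]), (37, 5, [1]), (40, 5, [28, 13, 3, 2, 0]), (41, 5, [10, 4, 28, 13, 3, 2, 0]), (46, 5, [5, 28, 13, 3, 2, 0]), (47, 8, [4, 28, 13, 8, 0]), (52, 8, [4, 1, 28, 13, 8, 0]), (53, 8, [28, 13, 8, 0]), (57, 8, [1, 28, 13, 8, 0]), (58, 8, [5, 28, 13, 8, 0]), (62, 8, [5, 1, 28, 13, 8, 0]), (64, 8, [35, 10, 3]), (67, 8, [35, 4, 3]), (69, 8, [35, 3]), (70, 5, [35]), (71, 5, [34, 1])]⟩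

/-- A1A1A1 -/
def rE6_4 : Rw := ⟨1305670058003, [0, 1, 4], [(2, 7, []), (3, 10, [7, 1, 12, 11]), (5, 7, [28, 5, 34, 19, 12, 11]), (8, 16, []), (15, 7, [31, 10, 7, 1, 12, 11]), (20, 10, [31, 10, 34, 19, 2, 0]), (23, 7, [9, 7]), (27, 10, [31, 10, 2, 0]), (28, 6, []), (31, 7, [5, 34, 19, 12, 11]), (34, 7, [28, 31, 10, 7, 1, 12, 11]), (42, 7, [28, 9, 7]), (46, 7, [31, 10, 34, 19, 12, 11]), (49, 10, [9, 1, 12, 11]), (55, 7, [31, 10, 12, 11]), (57, 16, [28]), (61, 7, [28]), (62, 10, [31, 10, 34, 19, 23, 0]), (64, 6, [28]), (68, 10, [31, 10, 23, 0]), (69, 7, [28, 31, 10, 34, 19, 12, 11]), (71, 7, [28, 31, 10, 12, 11])]⟩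

/-- A2A1 -/
def rE6_5 : Rw := ⟨4879082848327, [0, 1, 2], [(3, 14, []), (4, 7, []), (5, 7, [10, 4]), (9, 14, [4]), (10, 7, [5]), (15, 14, [10]), (23, 10, []), (27, 10, [5]), (30, 10, [10]), (34, 9, []), (40, 7, [4]), (41, 7, [10]), (46, 7, [5, 4]), (52, 14, [3, 1, 8, 6]), (57, 14, [4, 3, 1, 8, 6]), (62, 14, [10, 3, 1, 8, 6]), (64, 10, [28, 23, 0]), (67, 10, [5, 28, 23, 0]), (69, 10, [10, 28, 23, 0]), (71, 9, [34, 1])]⟩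

/-- A1A1A1A1 -/
def rE6_6 : Rw := ⟨18446745379648045075, [0, 1, 4, 28], [(3, 12, [7, 1, 12, 11]), (5, 12, [28, 5, 34, 19, 12, 11]), (15, 12, [31, 10, 7, 1, 12, 11]), (20, 12, [31, 10, 34, 19, 2, 0]), (27, 12, [31, 10, 2, 0]), (42, 12, [2, 0]), (49, 12, [9, 1, 12, 11]), (57, 16, [28]), (61, 12, [9, 7, 2, 0]), (62, 12, [34, 19, 2, 0]), (68, 12, [31, 10, 9, 7, 2, 0]), (69, 12, [28, 33, 34, 19, 12, 11]), (71, 12, [31, 10, 9, 1, 12, 11])]⟩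

/-- A2A1A1 -/
def rE6_7 : Rw := ⟨5978594476119, [0, 1, 2, 4], [(3, 19, []), (5, 11, []), (15, 15, [5, 4]), (23, 12, []), (27, 15, [5, 4, 33, 15, 13, 2, 0]), (34, 11, [28, 9, 7, 2, 0]), (46, 11, [5, 4]), (57, 19, [28, 9, 7, 2, 0]), (62, 15, [5, 4, 3, 1, 8, 6]), (64, 12, [28, 9, 7, 2, 0]), (69, 15, [5, 4, 33, 15, 13, 12, 11]), (71, 11, [5, 4, 33, 15, 13, 2, 0])]⟩

/-- A3 -/
def rE6_8 : Rw := ⟨4943610436983043, [0, 1, 8], [(4, 16, []), (5, 10, [5, 31, 34, 19, 2, 0]), (9, 14, [28, 4, 7, 1, 12, 11]), (10, 16, [5]), (15, 14, [5, 28, 4, 7, 1, 12, 11]), (30, 14, [33, 2, 0]), (33, 10, [10, 34, 19, 23, 0]), (41, 10, [31, 34, 19, 2, 0]), (42, 14, [2, 0]), (43, 14, [3, 1]), (61, 14, [28, 4, 3, 1, 8, 6]), (64, 16, [33, 5]), (65, 14, [5, 28, 4, 3, 1, 8, 6]), (67, 16, [33]), (69, 10, [33, 10, 34, 19, 23, 0]), (71, 14, [33, 3,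 1])]⟩

/-- A2A2 -/
def rE6_9 : Rw := ⟨3541774867082856366151, [0, 1, 2, 34], [(4, 11, [28, 9, 7, 2, 0]), (5, 11, [10, 4, 28, 9, 7, 2, 0]), (10, 11, [5, 28, 9, 7, 2, 0]), (40, 11, [4, 28, 9, 7, 2, 0]), (41, 11, [10, 28, 9, 7, 2, 0]), (46, 11, [5, 4, 28, 9, 7, 2, 0]), (52, 17, [3, 1, 8, 6]), (57, 17, [4, 3, 1, 8, 6]), (62, 17, [10, 3, 1, 8, 6]), (64, 17, [10, 33, 30, 0]), (67, 17, [4, 33, 30, 0]), (69, 17, [33, 30, 0])]⟩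

/-- A3A1 -/
def rE6_10 : Rw := ⟨21329052714619895879, [0, 1, 2, 23], [(4, 12, []), (5, 15, [33, 15, 13, 2, 0]), (10, 15, [4, 33, 15, 13, 2, 0]), (15, 17, [10]), (40, 12, [4]), (52, 19, [3, 1, 8, 6]), (57, 19, [4, 3, 1, 8, 6]), (67, 15, [4, 5, 28, 15, 13, 8, 6]), (69, 15, [5, 28, 15, 13, 8, 6]), (71, 17, [10, 34, 7, 8, 6])]⟩

/-- A2A2A1 -/
def rE6_11 : Rw := ⟨78546361910391, [0, 1, 2, 4, 5], [(3, 20, []), (23, 18, [5, 4, 15, 13]), (34, 13, []), (62, 20, [28, 34, 19, 14, 11]), (69, 18, [5, 4, 33, 15, 13, 12, 11]), (71, 13, [34, 1])]⟩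

/-- A3A1A1 -/
def rE6_12 : Rw := ⟨21329053814131523671, [0, 1, 2, 4, 23], [(5, 18, [5, 4, 15, 13]), (15, 18, [5, 4]), (57, 19, [28, 9, 7, 2, 0]), (69, 18, [5, 28, 15, 13, 8, 6]), (71, 18, [5, 4, 34, 7, 8, 6])]⟩

/-- A2A2A2 -/
def rE6_13 : Rw := ⟨3541774940750135428215, [0, 1, 2, 4, 5, 34], [(62, 20, [28, 34, 19, 14, 11]), (69, 18, [5, 4, 33, 15, 13, 12, 11])]⟩

/-- A4 -/
def rE6_14 : Rw := ⟨4957629210237391, [0, 1, 2, 3], [(4, 19, []), (5, 15, []), (10, 19, [5]), (30, 17, []), (41, 15, [5]), (64, 19, [4, 28, 9, 7, 14, 11]), (67, 19, [5, 4, 28, 9, 7, 14, 11]), (71, 17, [33, 3, 1, 30, 0])]⟩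

/-- A4A1 -/
def rE6_15 : Rw := ⟨4959828233492975, [0, 1, 2, 3, 5], [(4, 20, []), (30, 18, []), (67, 20, [33, 15, 13, 12, 11]), (71, 18, [33, 3, 1, 30, 0])]⟩

/-- D4 -/
def rE6_16 : Rw := ⟨18623951469676026131, [0, 1, 4, 8], [(5, 19, [28, 5, 34, 19, 12, 11]), (15, 19, [31, 10, 7, 1, 12, 11]), (42, 19, [2, 0]), (61, 19, [9, 7, 2, 0]), (69, 19, [31, 4, 34, 19, 14, 11]), (71, 19, [28, 31, 10, 13, 14, 11])]⟩

/-- A5 -/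
def rE6_17 : Rw := ⟨4501010511679839082959, [0, 1, 2, 3, 30], [(5, 18, []), (41, 18, [5]), (64, 20, [4, 28, 9, 7, 14, 11]), (67, 20, [5, 4, 28, 9, 7, 14, 11])]⟩

/-- A5A1 -/
def rE6_18 : Rw := ⟨4501010513878862338543, [0, 1, 2, 3, 5, 30], [(67, 20, [33, 15, 13, 12, 11])]⟩

/-- D5 -/
def rE6_19 : Rw := ⟨21506867384333859807, [0, 1, 2, 3, 4], [(5, 20, []), (71, 20, [31, 19, 20, 17])]⟩

/-- E6 -/
def rE6_20 : Rw := ⟨4722366482869645213695, [0, 1, 2, 3, 4, 5], []⟩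

/-- the rows -/
def rwE6 : List Rw := [rE6_0, rE6_1, rE6_2, rE6_3, rE6_4, rE6_5, rE6_6, rE6_7, rE6_8, rE6_9, rE6_10, rE6_11, rE6_12, rE6_13, rE6_14, rE6_15, rE6_16, rE6_17, rE6_18, rE6_19, rE6_20]

/-- the larger invariant sets -/
def kiE6 : List Ki := [⟨0, 0, 0, 0, [], 0⟩,
  ⟨68719476737, 999, 2, 2, [0, 0, 1, 0, 0, 0], 1⟩,
  ⟨206158430211, 999, 4, 2, [0, 0, 1, 0, 0, 0], 4⟩,
  ⟨4741643894853, 999, 6, 3, [0, 0, 0, 1, 0, 0], 1⟩,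
  ⟨1305670058003, 999, 2, 2, [0, 0, 1, 0, 0, 1], 3⟩,
  ⟨4879082848327, 999, 6, 2, [0, 0, 0, 0, 1, 0], 34⟩,
  ⟨18446745379648045075, 999, 0, 2, [0, 0, 1, 1, 0, 0], 8⟩,
  ⟨5978594476119, 999, 8, 3, [0, 0, 0, 1, 0, 0], 5⟩,
  ⟨4943610436983043, 999, 4, 2, [0, 0, 1, 1, 0, 0], 4⟩,
  ⟨3541774867082856366151, 999, 12, 3, [0, 0, 0, 1, 0, 0], 4⟩,
  ⟨21329052714619895879, 999, 4, 2, [0, 0, 0, 0, 0, 1], 3⟩,
  ⟨78546361910391, 999, 12, 3, [0, 0, 0, 1, 0, 0], 34⟩,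
  ⟨21329053814131523671, 999, 4, 2, [0, 0, 0, 0, 0, 1], 3⟩,
  ⟨0, 0, 0, 0, [], 0⟩,
  ⟨4957629210237391, 999, 20, 2, [0, 0, 0, 0, 1, 0], 5⟩,
  ⟨4959828233492975, 999, 14, 2, [0, 0, 0, 0, 1, 0], 30⟩,
  ⟨0, 0, 0, 0, [], 0⟩,
  ⟨4501010511679839082959, 999, 30, 2, [0, 0, 0, 0, 1, 0], 5⟩,
  ⟨0, 0, 0, 0, [], 0⟩,
  ⟨0, 0, 0, 0, [], 0⟩,
  ⟨0, 0, 0, 0, [], 0⟩]

/-- sums of roots -/
def spE6 : List (ℕ × ℕ) := []

/-- the surviving masks -/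
def smE6 : List ℕ := [0, 3541774940750135428215, 18623951469676026131, 4501010513878862338543, 21506867384333859807]

theorem rowE6_0 : aL (fun j => tbE6.row rwE6 (j + 0)) 21 = true := by decide +kernel

theorem rowE6 : ∀ j < rwE6.length, tbE6.row rwE6 j = true := fun j (hj : j < 21) => by
  simpa only [Nat.sub_add_cancel (show 0 ≤ j by omega)] using aL_iff.1 rowE6_0 (j - 0) (by omega)

theorem staE6_0 : aL (fun j => tbE6.sta 6 rwE6 kiE6 spE6 smE6 (j + 0)) 21 = true := by decide +kernel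

theorem staE6 : ∀ j < rwE6.length, tbE6.sta 6 rwE6 kiE6 spE6 smE6 j = true := fun j (hj : j < 21) => by
  simpa only [Nat.sub_add_cancel (show 0 ≤ j by omega)] using aL_iff.1 staE6_0 (j - 0) (by omega)

end Cfsg.Agent.N2.Ex.Al.Ck
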