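import Cfsg.Agent.N2.Ex.Al.Srv
import Cfsg.Agent.N2.Ex.Al.TbD

/-!
# N2, subgroups of maximal rank: the rows of `E7` (helper40, generated data)
-/

set_option autoImplicit false
set_option maxRecDepth 100000

namespace Cfsg.Agent.N2.Ex.Al.Ck

open Cfsg Cfsg.Lie Cfsg.Agent.Nodes.RGDChev

/-- T -/
def rE7_0 : Rw := ⟨0, [], [(0, 1, []), (1, 1, [14, 13]), (2, 1, [7, 0]), (3, 1, [9, 7]), (4, 1, [16, 13]), (5, 1, [23, 20]), (6, 1, [30, 26]), (7, 1, [2]), (8, 1, [14, 7]), (9, 1, [13, 0]), (10, 1, [16, 7]), (11, 1, [23, 13]), (12, 1, [30, 20]), (13, 1, [9]), (14, 1, [19, 0]), (15, 1, [21, 7]), (16, 1, [20, 0]), (17, 1, [23, 7]), (18, 1, [30, 13]), (19, 1, [14]), (20, 1, [16]), (21, 1, [25, 0]), (22, 1, [28, 7]), (23, 1, [26, 0]), (24, 1, [30, 7]), (25, 1, [21]), (26, 1, [23]), (27, 1, [31, 0]), (28, 1, [32, 0]), (29, 1, [35, 7]), (30, 1, [33, 0]), (31,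 1, [27]), (32, 1, [28]), (33, 1, [30]), (34, 1, [37, 0]), (35, 1, [38, 0]), (36, 1, [27, 2]), (37, 1, [34]), (38, 1, [35]), (39, 1, [42, 0]), (40, 1, [43, 0]), (41, 1, [34, 2]), (42, 1, [39]), (43, 1, [40]), (44, 1, [47, 0]), (45, 1, [39, 2]), (46, 1, [40, 2]), (47, 1, [44]), (48, 1, [51, 0]), (49, 1, [39, 9]), (50, 1, [44, 2]), (51, 1, [48]), (52, 1, [39, 14]), (53, 1, [44, 9]), (54, 1, [48, 2]), (55, 1, [44, 14]), (56, 1, [48, 9]), (57, 1, [48, 14]), (58, 1, [48, 16]), (59, 1, [61, 13]), (60, 1, [61, 7]), (61, 1, [62, 0]), (62, 1, [61]), (63, 1, [0]), (64, 1, [19, 9]), (65, 1, [7]), (66, 1, [13, 2]), (67, 1, [20, 9]), (68, 1, [26, 16]), (69, 1, [33, 23]), (70, 1, [2, 0]), (71, 1, [19, 2]), (72, 1, [13]), (73, 1, [20, 2]), (74, 1, [26, 9]), (75, 1, [33, 16]), (76, 1, [9, 0]), (77, 1, [19]), (78, 1, [25, 2]), (79, 1, [20]), (80, 1, [26, 2]), (81,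 1, [33, 9]), (82, 1, [14, 0]), (83, 1, [16, 0]), (84, 1, [25]), (85, 1, [32, 2]), (86, 1, [26]), (87, 1, [33, 2]), (88, 1, [21, 0]), (89, 1, [23, 0]), (90, 1, [31]), (91, 1, [32]), (92, 1, [38, 2]), (93, 1, [33]), (94, 1, [27, 0]), (95, 1, [28, 0]), (96, 1, [30, 0]), (97, 1, [37]), (98, 1, [38]), (99, 1, [31, 7]), (100, 1, [34, 0]), (101, 1, [35, 0]), (102, 1, [42]), (103, 1, [43]), (104, 1, [37, 7]), (105, 1, [39, 0]), (106, 1, [40, 0]), (107, 1, [47]), (108, 1, [42, 7]), (109, 1, [43, 7]), (110, 1, [44, 0]), (111, 1, [51]), (112, 1, [42, 13]), (113, 1, [47, 7]), (114, 1, [48, 0]), (115, 1, [42, 19]), (116, 1, [47, 13]), (117, 1, [51, 7]), (118, 1, [47, 19]), (119, 1, [51, 13]), (120, 1, [62, 16]), (121, 1, [62, 14]), (122, 1, [62, 9]), (123, 1, [62, 2]), (124, 1, [62]), (125, 1, [61, 0])]⟩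

/-- A1 -/
def rE7_1 : Rw := ⟨9223372036854775809, [0], [(1, 2, []), (2, 3, []), (3, 2, [8, 1]), (4, 2, [10, 8]), (5, 2, [17, 15]), (6, 2, [24, 22]), (8, 2, [3]), (9, 3, [3]), (10, 2, [15, 1]), (11, 2, [17, 8]), (12, 2, [24, 15]), (14, 3, [8]), (15, 2, [10]), (16, 3, [10]), (17, 2, [22, 1]), (18, 2, [24, 8]), (21, 3, [15]), (22, 2, [17]), (23, 3, [17]), (24, 2, [29, 1]), (27, 3, [15, 3]), (28, 3, [22]), (29, 2, [24]), (30, 3, [24]), (34, 3, [22, 3]), (35, 3, [29]), (36, 2, [49, 22]), (39, 3, [22, 10]), (40, 3, [29, 3]), (41, 2, [49, 15]), (44, 3, [29, 10]), (45, 2, [49, 8]), (46, 2, [53, 15]), (48, 3, [29, 17]), (49, 2, [52, 1]), (50, 2, [53, 8]), (52, 2, [49]), (53, 2, [55, 1]), (54, 2, [56, 8]), (55, 2, [53]), (56, 2, [57, 1]), (57, 2, [56]), (58, 2, [59, 1]), (59, 2, [58]), (60, 2, [58, 3]), (61, 3, [60]), (64, 2, [1]), (66, 2, [8]), (67, 2,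 [15, 3]), (68, 2, [22, 10]), (69, 2, [29, 17]), (70, 3, [36, 15, 3]), (71, 2, [3, 1]), (73, 2, [15]), (74, 2, [22, 3]), (75, 2, [29, 10]), (76, 3, [36, 15]), (78, 2, [10, 1]), (80, 2, [22]), (81, 2, [29, 3]), (82, 3, [36, 10]), (83, 3, [36, 8]), (85, 2, [17, 1]), (87, 2, [29]), (88, 3, [36, 3]), (89, 3, [41, 8]), (92, 2, [24, 1]), (94, 3, [36]), (95, 3, [41, 3]), (96, 3, [46, 8]), (99, 2, [52, 17]), (100, 3, [41]), (101, 3, [46, 3]), (104, 2, [52, 10]), (105, 3, [45]), (106, 3, [46]), (108, 2, [52, 3]), (109, 2, [55, 10]), (110, 3, [50]), (112, 2, [52]), (113, 2, [55, 3]), (114, 3, [54]), (115, 2, [49, 1]), (116, 2, [55]), (117, 2, [57, 3]), (118, 2, [53, 1]), (119, 2, [57]), (120, 2, [56, 1]), (121, 2, [59]), (122, 2, [58, 1]), (123, 2, [59, 8]), (125, 3, [54, 36])]⟩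

/-- A1A1 -/
def rE7_2 : Rw := ⟨27670116110564327427, [0, 1], [(2, 6, []), (3, 6, [60, 54, 4, 14, 13]), (4, 4, []), (5, 4, [11, 4]), (6, 4, [12, 11]), (9, 11, []), (10, 6, [60, 54, 14, 13]), (11, 4, [5]), (12, 4, [18, 4]), (16, 11, [4]), (17, 6, [60, 50, 14, 13]), (18, 4, [12]), (23, 11, [11]), (24, 6, [60, 45, 14, 13]), (27, 6, [60, 54]), (30, 11, [18]), (34, 6, [60, 50]), (36, 4, [41, 11]), (39, 6, [60, 46]), (40, 6, [60, 45]), (41, 4, [45, 4]), (44, 6, [60, 41]), (45, 4, [41]), (46, 4, [50, 4]), (48, 6, [60, 36]), (49, 6, [60, 18, 14, 13]), (50, 4, [46]), (53, 6, [60, 11, 14, 13]), (54, 4, [46, 5]), (56, 6, [60, 4, 14, 13]), (58, 6, [60, 14, 13]), (60, 5, []), (61, 6, [60]), (67, 4, [4]), (68, 4, [11]), (69, 4, [18, 5]), (70, 6, [60, 54, 36]), (71, 6, [14, 13]), (74, 4, [5, 4]), (75, 4, [18]), (78, 6, [4, 14, 13]), (81, 4, [12, 4]), (82, 11,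 [36, 4]), (85, 6, [11, 14, 13]), (88, 11, [36]), (92, 6, [18, 14, 13]), (94, 6, [36]), (95, 11, [41]), (99, 4, [45, 5]), (100, 6, [41]), (101, 11, [46]), (104, 4, [45]), (105, 6, [45]), (106, 6, [46]), (108, 4, [41, 4]), (109, 4, [50]), (110, 6, [50]), (113, 4, [46, 4]), (114, 6, [54]), (115, 6, [45, 14, 13]), (117, 4, [50, 11]), (118, 6, [50, 14, 13]), (120, 6, [54, 14, 13]), (122, 6, [54, 4, 14, 13]), (123, 5, [60]), (125, 6, [54, 36])]⟩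

/-- A2 -/
def rE7_3 : Rw := ⟨1226708480901685182597, [0, 2], [(1, 6, []), (3, 11, [1, 3]), (4, 6, [58, 57]), (5, 6, [56, 55]), (6, 6, [53, 52]), (8, 11, [3]), (10, 11, [4, 1, 3]), (11, 6, [58, 55]), (12, 6, [56, 52]), (15, 11, [4, 3]), (17, 11, [11, 1, 3]), (18, 6, [58, 52]), (22, 11, [11, 3]), (24, 11, [18, 1, 3]), (27, 11, [49, 5, 36, 15, 9, 0]), (29, 11, [18, 3]), (34, 11, [49, 36, 15, 9, 0]), (39, 11, [49, 4, 36, 15, 9, 0]), (40, 11, [53, 36, 15, 9, 0]), (44, 11, [53, 4, 36, 15, 9, 0]), (48, 11, [58, 36, 15, 9, 0]), (49, 6, [52, 1]), (52, 6, [49]), (53, 6, [55, 1]), (55, 6, [53]), (56, 6, [57, 1]), (57, 6, [56]), (58, 6, [59, 1]), (59, 6, [58]), (60, 11, [58, 3]), (64, 6, [1]), (67, 6, [59, 56]), (68, 6, [57, 53]), (69, 6, [55, 49]), (74, 6, [59, 53]), (75, 6, [57, 49]), (76, 11, [4, 36, 15, 9, 0]), (81, 6, [59, 49]), (82, 11, [4, 1, 36,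 15, 9, 0]), (83, 11, [36, 15, 9, 0]), (88, 11, [1, 36, 15, 9, 0]), (89, 11, [5, 36, 15, 9, 0]), (95, 11, [5, 1, 36, 15, 9, 0]), (96, 11, [12, 36, 15, 9, 0]), (99, 11, [52, 11, 3]), (101, 11, [12, 1, 36, 15, 9, 0]), (104, 11, [52, 4, 3]), (108, 11, [52, 3]), (109, 11, [55, 4, 3]), (112, 6, [52]), (113, 11, [55, 3]), (115, 6, [49, 1]), (116, 6, [55]), (117, 11, [57, 3]), (118, 6, [53, 1]), (119, 6, [57]), (120, 6, [56, 1]), (121, 6, [59]), (122, 6, [58, 1]), (125, 11, [57, 36, 15, 9, 0])]⟩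

/-- A1A1A1 -/
def rE7_4 : Rw := ⟨175244068700240740371, [0, 1, 4], [(2, 9, []), (3, 15, [8, 1, 14, 13]), (5, 9, [54, 36, 6, 41, 11, 49, 22, 14, 13]), (6, 7, []), (9, 27, []), (12, 9, [54, 36, 41, 11, 49, 22, 14, 13]), (17, 9, [60, 36, 6, 41, 11, 14, 13]), (23, 15, [41, 11, 49, 22, 2, 0]), (24, 9, [60, 36, 41, 11, 14, 13]), (27, 9, [60, 54]), (30, 15, [6, 41, 11, 49, 22, 2, 0]), (34, 15, [41, 11, 2, 0]), (36, 8, []), (40, 15, [6, 41, 11, 2, 0]), (41, 9, [54, 6, 41, 11, 49, 22, 14, 13]), (46, 9, [54, 41, 11, 49, 22, 14, 13]), (48, 9, [60, 36]), (49, 9, [60, 6, 41, 11, 14, 13]), (53, 9, [60, 41, 11, 14, 13]), (54, 7, [41, 11, 14, 13]), (56, 15, [54, 8, 1, 14, 13]), (60, 7, [41, 11, 49, 22, 14, 13]), (61, 9, [60]), (69, 7, [6]), (70, 9, [60, 54, 36]), (74, 9, [41, 11, 49, 22, 14, 13]), (78, 15, [60, 54, 8, 1, 14, 13]), (81, 9, [6, 41, 11, 49, 22,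 14, 13]), (85, 9, [41, 11, 14, 13]), (88, 27, [36]), (92, 9, [6, 41, 11, 14, 13]), (94, 9, [36]), (95, 15, [54, 6, 41, 11, 49, 22, 2, 0]), (99, 8, [36]), (101, 15, [54, 41, 11, 49, 22, 2, 0]), (105, 15, [60, 6, 41, 11, 2, 0]), (108, 9, [36, 41, 11, 49, 22, 14, 13]), (110, 15, [60, 41, 11, 2, 0]), (113, 9, [36, 6, 41, 11, 49, 22, 14, 13]), (114, 9, [54]), (115, 9, [36, 41, 11, 14, 13]), (117, 7, [54, 41, 11, 14, 13]), (118, 9, [36, 6, 41, 11, 14, 13]), (122, 15, [60, 8, 1, 14, 13]), (123, 7, [60, 41, 11, 49, 22, 14, 13]), (125, 9, [54, 36])]⟩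

/-- A1A1A1 -/
def rE7_5 : Rw := ⟨10633823966279327012053494097413931011, [0, 1, 60], [(2, 16, []), (4, 7, [41, 11, 49, 22, 14, 13]), (5, 7, [36, 5, 49, 22, 14, 13]), (6, 7, [41, 12, 49, 22, 14, 13]), (9, 16, [58, 3]), (11, 7, [36, 11, 49, 22, 14, 13]), (12, 7, [36, 12, 49, 22, 14, 13]), (16, 16, [4, 58, 3]), (18, 7, [36, 18, 49, 22, 14, 13]), (23, 16, [11, 58, 3]), (30, 16, [18, 58, 3]), (36, 7, [49, 22, 14, 13]), (41, 7, [5, 49, 22, 14, 13]), (45, 7, [11, 49, 22, 14, 13]), (46, 7, [12, 49, 22, 14, 13]), (50, 7, [18, 49, 22, 14, 13]), (54, 7, [18, 5, 49, 22, 14, 13]), (67, 7, [45, 5, 49, 22, 14, 13]), (68, 7, [41, 49, 22, 14, 13]), (69, 7, [46, 5, 49, 22, 14, 13]), (71, 16, [14, 13]), (74, 7, [45, 49, 22, 14, 13]), (75, 7, [46, 49, 22, 14, 13]), (78, 16, [4, 14, 13]), (81, 7, [50, 49, 22, 14, 13]), (82, 16, [36, 4, 58, 3]), (85, 16, [11, 14,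 13]), (88, 16, [36, 58, 3]), (92, 16, [18, 14, 13]), (94, 16, [36]), (95, 16, [41, 58, 3]), (99, 7, [36, 49, 22, 14, 13]), (100, 16, [41]), (101, 16, [46, 58, 3]), (104, 7, [41, 5, 49, 22, 14, 13]), (105, 16, [45]), (106, 16, [46]), (108, 7, [45, 11, 49, 22, 14, 13]), (109, 7, [46, 12, 49, 22, 14, 13]), (110, 16, [50]), (113, 7, [50, 18, 49, 22, 14, 13]), (114, 16, [54]), (115, 16, [45, 14, 13]), (117, 7, [50, 41, 49, 22, 14, 13]), (118, 16, [50, 14, 13]), (120, 16, [54, 14, 13]), (122, 16, [54, 4, 14, 13]), (125, 16, [54, 36])]⟩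

/-- A2A1 -/
def rE7_6 : Rw := ⟨1245155224975394734215, [0, 1, 2], [(3, 24, []), (4, 9, []), (5, 9, [11, 4]), (6, 9, [12, 11]), (10, 24, [4]), (11, 9, [5]), (12, 9, [18, 4]), (17, 24, [11]), (18, 9, [12]), (24, 24, [18]), (27, 15, []), (34, 15, [5]), (39, 15, [11]), (40, 15, [12]), (44, 15, [18]), (48, 15, [18, 5]), (49, 12, []), (53, 12, [6]), (56, 12, [12]), (58, 12, [18]), (60, 16, []), (67, 9, [4]), (68, 9, [11]), (69, 9, [18, 5]), (74, 9, [5, 4]), (75, 9, [18]), (81, 9, [12, 4]), (82, 24, [4, 60, 54, 36, 2, 0]), (88, 24, [60, 54, 36, 2, 0]), (95, 24, [5, 60, 54, 36, 2, 0]), (99, 15, [60, 54, 36, 2, 0]), (101, 24, [12, 60, 54, 36, 2, 0]), (104, 15, [5, 60, 54, 36, 2, 0]), (108, 15, [11, 60, 54, 36, 2, 0]), (109, 15, [12, 60, 54, 36, 2, 0]), (113, 15, [18, 60, 54, 36, 2, 0]), (115, 12, [49, 1]), (117, 15, [18, 5, 60, 54, 36, 2, 0]), (118, 12,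 [6, 49, 1]), (120, 12, [12, 49, 1]), (122, 12, [18, 49, 1]), (125, 16, [60, 54, 36, 2, 0])]⟩

/-- A1A1A1A1 -/
def rE7_7 : Rw := ⟨765539879058946392147, [0, 1, 4, 6], [(2, 13, []), (3, 20, [6, 46, 5, 8, 1, 14, 13]), (5, 20, [36, 5, 49, 22, 14, 13]), (9, 29, [36, 6, 46, 5, 49, 22, 2, 0]), (17, 20, [41, 11, 8, 1, 14, 13]), (23, 29, [41, 11, 49, 22, 2, 0]), (27, 13, [60, 54]), (34, 29, [41, 11, 2, 0]), (36, 10, []), (41, 20, [5, 49, 22, 14, 13]), (48, 13, [60, 36]), (49, 20, [36, 41, 11, 8, 1, 14, 13]), (54, 10, [12, 11]), (56, 20, [54, 6, 46, 5, 8, 1, 14, 13]), (60, 10, [12, 11, 24, 22]), (61, 13, [60]), (70, 13, [60, 54, 36]), (78, 20, [60, 54, 6, 46, 5, 8, 1, 14, 13]), (81, 20, [54, 5, 49, 22, 14, 13]), (88, 29, [6, 46, 5, 49, 22, 2, 0]), (92, 20, [60, 36, 41, 11, 8, 1, 14, 13]), (94, 13, [36]), (99, 10, [36]), (101, 29, [54, 41, 11, 49, 22, 2,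 0]), (110, 29, [60, 41, 11, 2, 0]), (113, 20, [54, 36, 5, 49, 22, 14, 13]), (114, 13, [54]), (117, 10, [54, 12, 11]), (118, 20, [60, 41, 11, 8, 1, 14, 13]), (122, 20, [60, 6, 46, 5, 8, 1, 14, 13]), (123, 10, [60, 12, 11, 24, 22]), (125, 13, [54, 36])]⟩

/-- A1A1A1A1 -/
def rE7_8 : Rw := ⟨633825300289358769517311819795, [0, 1, 4, 36], [(3, 19, [8, 1, 14, 13]), (5, 19, [36, 5, 49, 22, 14, 13]), (6, 10, []), (12, 19, [6, 36, 5, 49, 22, 14, 13]), (17, 19, [41, 11, 8, 1, 14, 13]), (23, 19, [41, 11, 49, 22, 2, 0]), (24, 19, [6, 41, 11, 8, 1, 14, 13]), (30, 19, [6, 41, 11, 49, 22, 2, 0]), (34, 19, [41, 11, 2, 0]), (40, 19, [6, 41, 11, 2, 0]), (48, 19, [54, 2, 0]), (54, 10, [41, 11]), (56, 19, [54, 8, 1, 14, 13]), (60, 10, [41, 11, 49, 22]), (69, 10, [6]), (70, 19, [2, 0]), (78, 19, [60, 54, 8, 1, 14, 13]), (88, 27, [36]), (94, 19, [60, 54, 2, 0]), (95,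 19, [54, 6, 41, 11, 49, 22, 2, 0]), (101, 19, [54, 41, 11, 49, 22, 2, 0]), (105, 19, [60, 6, 41, 11, 2, 0]), (108, 19, [54, 6, 36, 5, 49, 22, 14, 13]), (110, 19, [60, 41, 11, 2, 0]), (113, 19, [54, 36, 5, 49, 22, 14, 13]), (115, 19, [60, 6, 41, 11, 8, 1, 14, 13]), (117, 10, [54, 41, 11]), (118, 19, [60, 41, 11, 8, 1, 14, 13]), (122, 19, [60, 8, 1, 14, 13]), (123, 10, [60, 41, 11, 49, 22]), (125, 19, [60, 2, 0])]⟩

/-- A2A1A1 -/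
def rE7_9 : Rw := ⟨1392729177565071147159, [0, 1, 2, 4], [(3, 39, []), (5, 17, []), (6, 13, []), (12, 17, [6]), (17, 26, [5, 4]), (24, 26, [6, 5, 4]), (27, 19, []), (34, 26, [5, 4, 45, 17, 15, 2, 0]), (40, 26, [6, 5, 4, 45, 17, 15, 2, 0]), (48, 20, []), (49, 17, [6, 5, 4, 60, 46, 17, 15]), (53, 17, [5, 4, 60, 46, 17, 15]), (56, 21, []), (60, 20, [36, 10, 8, 2, 0]), (69, 13, [6]), (74, 17, [5, 4]), (81, 17, [6, 5, 4]), (88, 39, [60, 54, 36, 2, 0]), (95, 26, [6, 18, 4, 60, 54, 36, 2, 0]), (99, 19, [60, 54, 36, 2, 0]), (101, 26, [18, 4, 60, 54, 36, 2, 0]), (108, 26, [6, 5, 4, 60, 46, 17, 15]), (113, 26, [5, 4, 60, 46, 17, 15]), (115, 17, [6, 60, 54, 10, 8]), (117, 20, [60, 54, 36, 2, 0]), (118, 17, [60, 54, 10, 8]), (122, 21, [60, 54, 10, 8]), (125, 20, [60, 54, 10, 8])]⟩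

/-- A1A1A1A1A1 -/
def rE7_10 : Rw := ⟨633825300879654579876017471571, [0, 1, 4, 36, 6], [(3, 23, [8, 1, 14, 13]), (5, 32, [36, 5, 49, 22, 14, 13]), (17, 32, [41, 11, 8, 1, 14, 13]), (23, 32, [41, 11, 49, 22, 2, 0]), (34, 32, [41, 11, 2, 0]), (48, 23, [54, 2, 0]), (54, 14, []), (56, 23, [54, 8, 1, 14, 13]), (60, 14, [10, 8]), (70, 23, [2, 0]), (78, 23, [60, 54, 8, 1, 14, 13]), (88, 29, [6, 46, 5, 49, 22, 2, 0]), (94, 23, [60, 54, 2, 0]), (101, 32, [54, 41, 11, 49, 22, 2, 0]), (110, 32, [60, 41, 11, 2, 0]), (113, 32, [54, 36, 5, 49, 22, 14, 13]), (117, 14, [54]), (118, 32, [60, 41, 11, 8, 1, 14, 13]), (122, 23, [60, 8, 1, 14, 13]), (123, 14, [60, 10, 8]), (125, 23, [60, 2, 0])]⟩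

/-- A3 -/
def rE7_11 : Rw := ⟨5067126906235239879172611, [0, 1, 9], [(4, 27, []), (5, 15, [5, 41, 49, 22, 2, 0]), (6, 15, [12, 41, 49, 22, 2, 0]), (10, 24, [60, 54, 3, 1]), (11, 27, [5]), (12, 15, [6, 5, 41, 49, 22, 2, 0]), (17, 24, [60, 50, 3, 1]), (18, 27, [12]), (24, 24, [60, 45, 3, 1]), (39, 24, [45, 2, 0]), (44, 24, [50, 2, 0]), (45, 15, [54, 6, 41, 49, 22, 2, 0]), (48, 24, [54, 2, 0]), (50, 15, [54, 41, 49, 22, 2, 0]), (54, 15, [50, 5, 41, 49, 22, 2, 0]), (58, 24, [60, 3, 1]), (60, 16, [58, 3]), (68, 15, [41, 49, 22, 2, 0]), (69, 15, [12, 5, 41, 49, 22, 2, 0]), (70, 24, [2, 0]), (71, 24, [3, 1]), (75, 15, [6, 41, 49, 22, 2, 0]), (94, 24, [60, 54, 2, 0]), (99, 27, [45, 5]), (100, 24, [60, 50, 2, 0]), (104, 27, [45]), (106, 24, [60, 45, 2, 0]), (108, 15, [50, 12, 41, 49, 22, 2, 0]), (109, 27, [50]), (113, 15, [54, 5, 41, 49, 22, 2, 0]), (115,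 24, [45, 3, 1]), (117, 15, [50, 41, 49, 22, 2, 0]), (118, 24, [50, 3, 1]), (120, 24, [54, 3, 1]), (123, 16, [60, 58, 3]), (125, 24, [60, 2, 0])]⟩

/-- A2A2 -/
def rE7_12 : Rw := ⟨46730671726814693817065991938506887, [0, 1, 2, 49], [(4, 17, [5, 4, 18, 60, 46, 17, 15]), (5, 17, [18, 60, 46, 17, 15]), (6, 21, [11, 12]), (11, 17, [4, 18, 60, 46, 17, 15]), (12, 21, [4, 12]), (18, 21, [12]), (24, 34, [18]), (40, 21, [4, 18, 60, 56, 1, 48, 9]), (44, 21, [18, 60, 56, 1, 48, 9]), (48, 21, [5, 18, 60, 56, 1, 48, 9]), (67, 17, [11, 18, 60, 46, 17, 15]), (68, 17, [5, 18, 60, 46, 17, 15]), (74, 17, [11, 4, 18, 60, 46, 17, 15]), (82, 33, [18, 60, 46, 3, 1]), (88, 33, [4, 18, 60, 46, 3, 1]), (95, 33, [11, 18, 60, 46, 3, 1]), (99, 33, [5, 6, 60, 54, 36, 49, 1, 14, 13]), (104, 33, [6, 60, 54, 36, 49, 1, 14, 13]), (108, 33, [4, 6, 60, 54, 36, 49, 1, 14, 13]), (109,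 21, [4, 18, 60, 36, 14, 13]), (113, 21, [18, 60, 36, 14, 13]), (117, 21, [5, 18, 60, 36, 14, 13]), (118, 21, [5, 18, 56, 1]), (120, 21, [18, 56, 1]), (122, 21, [4, 18, 56, 1]), (125, 34, [18, 60, 14, 13])]⟩

/-- A2A1A1A1 -/
def rE7_13 : Rw := ⟨1983024987923776798935, [0, 1, 2, 4, 6], [(3, 40, []), (5, 25, []), (17, 40, [12, 11]), (27, 23, []), (34, 40, [12, 11, 54, 24, 22, 2, 0]), (48, 23, [12, 11]), (49, 25, [12, 11, 60, 36, 24, 22]), (56, 25, [60, 36, 24, 22]), (60, 23, [12, 11, 54, 24, 22, 2, 0]), (81, 25, [12, 11]), (88, 40, [60, 54, 36, 2, 0]), (99, 23, [60, 54, 36, 2, 0]), (101, 40, [12, 11, 60, 54, 36, 2, 0]), (113, 40, [12, 11, 60, 36, 24, 22]), (117, 23, [12, 11, 60, 54, 36, 2, 0]), (118, 25, [60, 54, 10, 8]), (122, 25, [12, 11, 60, 54, 10, 8]), (125, 23, [12, 11, 60, 36, 24, 22])]⟩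

/-- A1A1A1A1A1A1 -/
def rE7_14 : Rw := ⟨166154133298415363785570157061996627, [0, 1, 4, 36, 6, 54], [(3, 35, [8, 1, 14, 13]), (17, 35, [41, 11, 8, 1, 14, 13]), (34, 35, [41, 11, 2, 0]), (60, 18, []), (70, 35, [2, 0]), (88, 32, [6, 46, 5, 49, 22, 2, 0]), (101, 32, [54, 41, 11, 49, 22, 2, 0]), (110, 35, [60, 41, 11, 2, 0]), (113, 32, [54, 36, 5, 49, 22, 14, 13]), (118, 35, [60, 41, 11, 8, 1, 14, 13]), (122, 35, [60, 8, 1, 14, 13]), (123, 18, [60]), (125, 35, [60, 2, 0])]⟩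

/-- A3A1 -/
def rE7_15 : Rw := ⟨654870282027121390468032626823, [0, 1, 2, 27], [(4, 19, []), (5, 26, [45, 17, 15, 2, 0]), (6, 20, [6, 18, 5]), (11, 26, [4, 45, 17, 15, 2, 0]), (12, 26, [6, 45, 17, 15, 2, 0]), (17, 33, [11]), (18, 26, [6, 4, 45, 17, 15, 2, 0]), (24, 33, [6, 11]), (48, 29, []), (56, 21, [4, 60, 56, 1, 48, 9]), (58, 21, [60, 56, 1, 48, 9]), (67, 19, [4]), (69, 20, [18, 5]), (82, 39, [3, 1, 9, 7]), (88, 39, [4, 3, 1, 9, 7]), (104, 26, [6, 4, 12, 60, 54, 17, 15, 2, 0]), (108, 26, [6, 12, 60, 54, 17, 15, 2, 0]), (109, 26, [4, 12, 60, 54, 17, 15, 2, 0]), (113, 26, [12, 60, 54, 17, 15, 2, 0]), (115, 33, [6, 11, 60, 46]), (118, 33, [11, 60, 46]), (120, 21, [54, 56, 1, 48, 9]), (122, 21, [4, 54, 56, 1, 48, 9]), (125, 29, [60, 54])]⟩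

/-- A3A1 -/
def rE7_16 : Rw := ⟨74436767763955290135838870883341959303, [0, 1, 2, 60], [(4, 20, [36, 10, 8, 2, 0]), (5, 20, [11, 4, 36, 10, 8, 2, 0]), (6, 20, [12, 11, 36, 10, 8, 2, 0]), (11, 20, [5, 36, 10, 8, 2, 0]), (12, 20, [18, 4, 36, 10, 8, 2, 0]), (18, 20, [12, 36, 10, 8, 2, 0]), (67, 20, [4, 36, 10, 8, 2, 0]), (68, 20, [11, 36, 10, 8, 2, 0]), (69, 20, [18, 5, 36, 10, 8, 2, 0]), (74, 20, [5, 4, 36, 10, 8, 2, 0]), (75, 20, [18, 36, 10, 8, 2, 0]), (81, 20, [12, 4, 36, 10, 8, 2, 0]), (82, 34, [3, 1, 9, 7]), (88, 34, [4, 3, 1, 9, 7]), (95, 34, [11, 3, 1, 9, 7]), (99, 29, [36, 27, 0]), (101, 34, [18, 3, 1, 9, 7]), (104, 29, [5, 36, 27, 0]), (108, 29, [11, 36, 27, 0]), (109, 29, [12, 36, 27, 0]), (113, 29, [18, 36, 27, 0]), (115, 34, [18, 58, 1]), (117, 29, [18, 5, 36, 27, 0]), (118, 34, [11, 58, 1]), (120, 34, [4, 58, 1]), (122, 34, [58, 1])]⟩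

/-- A2A2A1 -/
def rE7_17 : Rw := ⟨20577343014223004829879, [0, 1, 2, 4, 5], [(3, 45, []), (6, 25, []), (24, 30, [6, 5, 4]), (27, 36, [5, 4, 17, 15]), (40, 37, [60, 17, 15, 14, 13]), (49, 22, []), (53, 30, [5, 4, 60, 45, 49, 8, 23, 20]), (60, 25, [36, 49, 22, 16, 13]), (81, 25, [6, 5, 4]), (95, 45, [6, 18, 4, 60, 54, 36, 2, 0]), (101, 30, [12, 11, 60, 54, 36, 2, 0]), (108, 36, [5, 4, 45, 17, 15, 14, 13]), (115, 22, [6, 18, 4, 60, 54, 10, 8]), (117, 37, [60, 46, 17, 15]), (122, 30, [11, 4, 60, 41, 17, 15, 23, 20]), (125, 25, [18, 60, 46, 49, 8, 23, 20])]⟩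

/-- A1A1A1A1A1A1A1 -/
def rE7_18 : Rw := ⟨10799978099577742348168948143911600211, [0, 1, 4, 36, 6, 54, 60], [(88, 35, [6, 46, 5, 49, 22, 2, 0]), (101, 35, [54, 41, 11, 49, 22, 2, 0]), (110, 35, [60, 41, 11, 2, 0]), (113, 35, [54, 36, 5, 49, 22, 14, 13]), (118, 35, [60, 41, 11, 8, 1, 14, 13]), (122, 35, [60, 8, 1, 14, 13]), (125, 35, [60, 2, 0])]⟩

/-- A3A1A1 -/
def rE7_19 : Rw := ⟨654870282174695343057709039767, [0, 1, 2, 4, 27], [(5, 36, [5, 4, 17, 15]), (6, 23, []), (12, 36, [6, 5, 4, 17, 15]), (17, 36, [5, 4]), (24, 36, [6, 5, 4]), (48, 32, []), (56, 28, []), (69, 23, [6]), (88, 39, [60, 54, 36, 2, 0]), (108, 36, [6, 5, 4, 60, 46, 17, 15]), (113, 36, [5, 4, 60, 46, 17, 15]), (115, 36, [6, 5, 4, 60, 46]), (118, 36, [5, 4, 60, 46]), (122, 28, [60, 54]), (125, 32, [60, 54])]⟩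

/-- A3A1A1 -/
def rE7_20 : Rw := ⟨189518835336522601191088354387558551, [0, 1, 2, 4, 48], [(3, 43, []), (6, 23, [12, 11]), (27, 32, []), (49, 25, [5, 36, 17, 15, 23, 20]), (53, 25, [6, 5, 36, 17, 15, 23, 20]), (69, 23, [6, 12, 11]), (74, 37, [5, 4, 60, 17, 15, 14, 13]), (81, 37, [6, 5, 4, 60, 17, 15, 14, 13]), (95, 40, [12, 11, 3, 1, 9, 7]), (101, 40, [6, 12, 11, 3, 1, 9, 7]), (108, 37, [5, 4, 45, 17, 15, 14, 13]), (113, 37, [6, 5, 4, 45, 17, 15, 14, 13]), (115, 25, [6, 60, 41, 17, 15, 23, 20]), (118, 25, [60, 41, 17, 15, 23, 20]), (122, 43, [60, 36]), (125, 32, [60, 36])]⟩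

/-- A3A2 -/
def rE7_21 : Rw := ⟨9969209968386870440588594427742650519, [0, 1, 2, 4, 56], [(6, 25, [60, 36, 24, 22]), (27, 28, []), (69, 25, [6, 60, 36, 24, 22]), (74, 30, [11, 4, 60, 45, 49, 8, 23, 20]), (81, 30, [6, 11, 4, 60, 45, 49, 8, 23, 20]), (95, 41, [5, 4, 3, 1, 9, 7]), (99, 28, [60, 36, 10, 1, 14, 13]), (101, 41, [6, 5, 4, 3, 1, 9, 7]), (108, 41, [5, 4, 45, 17, 15, 14, 13]), (113, 41, [6, 5, 4, 45, 17, 15, 14, 13]), (115, 30, [6, 5, 4, 60, 45, 3, 1, 23, 20]), (117, 43, [54, 48, 0]), (118, 30, [5, 4, 60, 45, 3, 1, 23, 20]), (125, 43, [60, 36, 10, 8])]⟩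

/-- A2A2A2 -/
def rE7_22 : Rw := ⟨46730671726834026004855239548602551, [0, 1, 2, 4, 5, 49], [(6, 38, [6, 5, 4, 24, 23, 20]), (24, 38, [6, 5, 4]), (40, 38, [6, 5, 60, 24, 22, 14, 13]), (95, 45, [6, 18, 4, 60, 54, 36, 2, 0]), (108, 36, [5, 4, 45, 17, 15, 14, 13]), (117, 38, [6, 5, 60, 36, 24, 22]), (122, 38, [6, 5, 60, 36, 22, 23, 20]), (125, 38, [6, 5, 4, 60, 14, 13])]⟩

/-- A3A1A1A1 -/
def rE7_23 : Rw := ⟨654870282764991153416414691543, [0, 1, 2, 4, 6, 27], [(5, 44, [12, 11, 24, 22]), (17, 44, [12, 11]), (48, 35, []), (56, 31, [12, 11, 36, 10, 8, 2, 0]), (88, 40, [60, 54, 36, 2, 0]), (113, 44, [12, 11, 60, 36, 24, 22]), (118, 44, [12, 11, 60, 36]), (122, 31, [12, 11, 60, 10, 8, 2, 0]), (125, 35, [60, 54])]⟩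

/-- A4 -/
def rE7_24 : Rw := ⟨5070779361561834370392975, [0, 1, 2, 3], [(4, 39, []), (5, 26, []), (6, 26, [12, 5]), (11, 39, [5]), (12, 26, [6]), (18, 39, [12]), (39, 33, []), (44, 33, [6]), (48, 33, [12]), (58, 34, []), (68, 26, [5]), (69, 26, [12]), (75, 26, [6, 5]), (99, 39, [4, 60, 54, 36, 14, 13]), (104, 39, [5, 4, 60, 54, 36, 14, 13]), (109, 39, [12, 4, 60, 54, 36, 14, 13]), (115, 33, [6, 4, 60, 54, 36, 14, 13]), (118, 33, [4, 60, 54, 36, 14, 13]), (120, 33, [5, 4, 60, 54, 36, 14, 13]), (125, 34, [4, 60, 54, 36, 14, 13])]⟩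

/-- A3A2A1 -/
def rE7_25 : Rw := ⟨2476798209916797221869815, [0, 1, 2, 4, 5, 6], [(3, 46, []), (27, 44, [12, 11, 24, 22]), (49, 38, [6, 5, 4, 24, 23, 20]), (60, 31, []), (101, 46, [12, 11, 60, 54, 36, 2, 0]), (117, 44, [60, 54, 36, 24, 22, 48, 0]), (122, 38, [11, 4, 60, 41, 17, 15, 23, 20]), (125, 31, [12, 11, 60, 54, 36, 2, 0])]⟩

/-- A4A1 -/
def rE7_26 : Rw := ⟨5071074509467013723218863, [0, 1, 2, 3, 5], [(4, 45, []), (6, 30, []), (18, 40, [6, 5]), (39, 36, []), (44, 41, []), (58, 37, []), (75, 30, [6, 5]), (104, 45, [12, 5, 4, 60, 54, 36, 14, 13]), (109, 40, [6, 5, 4, 60, 54, 36, 14, 13]), (115, 36, [12, 5, 4, 60, 54, 36, 14, 13]), (120, 41, [12, 5, 4, 60, 54, 36, 14, 13]), (125, 37, [12, 5, 4, 60, 54, 36, 14, 13])]⟩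

/-- D4 -/
def rE7_27 : Rw := ⟨634169471080996792130168513043, [0, 1, 4, 9], [(5, 39, [36, 5, 49, 22, 14, 13]), (6, 29, [6, 36, 46, 5, 49, 22, 2, 0]), (12, 39, [6, 36, 5, 49, 22, 14, 13]), (17, 39, [41, 11, 8, 1, 14, 13]), (24, 39, [6, 41, 11, 8, 1, 14, 13]), (48, 39, [54, 2, 0]), (54, 29, [12, 11, 49, 22, 27, 0]), (60, 29, [36, 41, 11, 58, 3, 27, 0]), (69, 29, [36, 46, 5, 49, 22, 2, 0]), (70, 39, [2, 0]), (94, 39, [60, 54, 2, 0]), (108, 39, [54, 6, 36, 5, 49, 22, 14, 13]), (113, 39, [54, 36, 5, 49, 22, 14, 13]), (115, 39, [60, 6, 41, 11, 8, 1, 14, 13]), (117, 29, [54, 12, 11, 49, 22, 27, 0]), (118, 39, [60, 41, 11, 8, 1, 14, 13]), (123, 29, [60, 36, 41, 11, 58, 3, 27, 0]), (125, 39, [60, 2, 0])]⟩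

/-- A3A3 -/
def rE7_28 : Rw := ⟨9969210623257151222554759920380543127, [0, 1, 2, 4, 27, 56], [(6, 31, [12, 11, 36, 10, 8, 2, 0]), (69, 31, [6, 12, 11, 36, 10, 8, 2, 0]), (108, 42, [5, 36, 17, 15, 9, 7]), (113, 42, [6, 5, 36, 17, 15, 9, 7]), (115, 42, [5, 4, 49, 8, 9, 7]), (118, 42, [6, 5, 4, 49, 8, 9, 7]), (125, 32, [60, 54])]⟩

/-- D4A1 -/
def rE7_29 : Rw := ⟨74626287254162092126266947165296263303, [0, 1, 2, 27, 48], [(4, 32, []), (6, 32, [6, 18, 5]), (67, 32, [4]), (69, 32, [18, 5]), (104, 40, [4, 12, 41, 24, 22, 9, 7]), (108, 40, [12, 41, 24, 22, 9, 7]), (109, 40, [6, 4, 12, 41, 24, 22, 9, 7]), (113, 40, [6, 12, 41, 24, 22, 9, 7]), (115, 43, [6, 18, 5, 56, 8, 9, 7]), (118, 43, [18, 5, 56, 8, 9, 7]), (120, 43, [56, 8, 9, 7]), (122, 43, [4, 56, 8, 9, 7])]⟩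

/-- A4A2 -/
def rE7_30 : Rw := ⟨5109443737140329590584303, [0, 1, 2, 3, 5, 6], [(4, 46, []), (39, 42, []), (58, 38, []), (109, 46, [6, 5, 4, 60, 54, 36, 14, 13]), (120, 42, [6, 5, 4, 60, 54, 36, 14, 13]), (125, 38, [6, 5, 4, 60, 54, 36, 14, 13])]⟩

/-- A3A3A1 -/
def rE7_31 : Rw := ⟨74436767763957765688893562705169094903, [0, 1, 2, 4, 5, 6, 60], [(101, 46, [12, 11, 60, 54, 36, 2, 0]), (117, 44, [60, 54, 36, 24, 22, 48, 0]), (122, 38, [11, 4, 60, 41, 17, 15, 23, 20])]⟩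

/-- D4A1A1 -/
def rE7_32 : Rw := ⟨74626287254162092273840899754972676247, [0, 1, 2, 4, 27, 48], [(6, 35, []), (69, 35, [6]), (108, 44, [12, 41, 24, 22, 9, 7]), (113, 44, [6, 12, 41, 24, 22, 9, 7]), (115, 44, [12, 11, 56, 8, 9, 7]), (118, 44, [6, 12, 11, 56, 8, 9, 7]), (122, 43, [60, 36])]⟩

/-- A5 -/
def rE7_33 : Rw := ⟨47100825707150871008680020424549263, [0, 1, 2, 3, 39], [(5, 36, []), (6, 41, [5, 6]), (12, 41, [6]), (18, 43, [12]), (68, 36, [5]), (99, 45, [5, 6, 4, 60, 54, 17, 15, 2, 0]), (104, 45, [6, 4, 60, 54, 17, 15, 2, 0]), (118, 41, [6, 11, 60, 41, 53, 8, 9, 7]), (120, 41, [5, 6, 11, 60, 41, 53, 8, 9, 7]), (125, 43, [12, 4, 60, 36, 56, 8, 9, 7])]⟩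

/-- A5 -/
def rE7_34 : Rw := ⟨82412135738669854908332741232454820751, [0, 1, 2, 3, 58], [(5, 37, []), (6, 37, [12, 5]), (12, 37, [6]), (68, 37, [5]), (69, 37, [12]), (75, 37, [6, 5]), (99, 43, [4, 36, 10, 8, 16, 13]), (104, 43, [5, 4, 36, 10, 8, 16, 13]), (109, 43, [12, 4, 36, 10, 8, 16, 13]), (115, 43, [12, 54, 3, 1, 48, 0]), (118, 43, [5, 54, 3, 1, 48, 0]), (120, 43, [54, 3, 1, 48, 0])]⟩

/-- D4A1A1A1 -/
def rE7_35 : Rw := ⟨74626287254162092864136710113678328023, [0, 1, 2, 4, 6, 27, 48], [(113, 44, [12, 11, 60, 36, 24, 22]), (118, 44, [12, 11, 60, 36]), (122, 44, [60, 36])]⟩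

/-- A5A1 -/
def rE7_36 : Rw := ⟨47100825707151166156585199777375151, [0, 1, 2, 3, 5, 39], [(6, 42, []), (18, 44, [6, 5]), (104, 45, [12, 5, 4, 60, 54, 36, 14, 13]), (120, 42, [18, 60, 46, 49, 8, 9, 7]), (125, 44, [6, 5, 4, 60, 36, 56, 8, 9, 7])]⟩

/-- A5A1 -/
def rE7_37 : Rw := ⟨82412135738669855203480646411807646639, [0, 1, 2, 3, 5, 58], [(6, 38, []), (75, 38, [6, 5]), (104, 46, [45, 17, 15, 14, 13]), (109, 44, [6, 5, 4, 36, 10, 8, 16, 13]), (115, 44, [6, 5, 54, 3, 1, 48, 0]), (120, 46, [6, 5, 4, 36, 3, 1, 30, 26])]⟩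

/-- A5A2 -/
def rE7_38 : Rw := ⟨82412135738669893572708319727675012079, [0, 1, 2, 3, 5, 6, 58], [(109, 46, [6, 5, 4, 60, 54, 36, 14, 13]), (120, 42, [6, 5, 4, 60, 54, 36, 14, 13])]⟩

/-- D5 -/
def rE7_39 : Rw := ⟨655214767077491452796810684319, [0, 1, 2, 3, 4], [(5, 45, []), (6, 40, []), (12, 45, [6]), (48, 43, []), (69, 40, [6]), (115, 45, [6, 60, 54, 10, 8]), (118, 45, [60, 54, 10, 8]), (125, 43, [60, 54, 10, 8])]⟩

/-- D5A1 -/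
def rE7_40 : Rw := ⟨655214767667787263155516336095, [0, 1, 2, 3, 4, 6], [(5, 46, []), (48, 44, []), (118, 46, [60, 54, 10, 8]), (125, 44, [60, 54, 10, 8])]⟩

/-- A6 -/
def rE7_41 : Rw := ⟨2610589504910284878399606302517519279, [0, 1, 2, 3, 5, 44], [(75, 42, [6, 5]), (109, 46, [6, 5, 4, 36, 10, 8, 16, 13]), (115, 42, [6, 5, 4, 54, 24, 22, 2, 0]), (125, 46, [12, 11, 60, 46, 24, 22, 9, 7])]⟩

/-- A7 -/
def rE7_42 : Rw := ⟨2657690330612403339274397804439041007, [0, 1, 2, 3, 5, 6, 39], [(125, 44, [6, 5, 4, 60, 36, 56, 8, 9, 7])]⟩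

/-- D6 -/
def rE7_43 : Rw := ⟨84595497222893446224496426356745824159, [0, 1, 2, 3, 4, 48], [(6, 44, []), (69, 44, [6]), (115, 46, [41, 22, 23, 20]), (118, 46, [6, 41, 22, 23, 20])]⟩

/-- D6A1 -/
def rE7_44 : Rw := ⟨84595497222893446814792236715451475935, [0, 1, 2, 3, 4, 6, 48], [(118, 46, [60, 54, 10, 8])]⟩

/-- E6 -/
def rE7_45 : Rw := ⟨47123232259592422029149144092503999, [0, 1, 2, 3, 4, 5], [(6, 46, []), (125, 46, [18, 60, 46, 49, 8, 23, 20])]⟩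

/-- E7 -/
def rE7_46 : Rw := ⟨85070591730234615865843651857942052863, [0, 1, 2, 3, 4, 5, 6], []⟩

/-- the rows -/
def rwE7 : List Rw := [rE7_0, rE7_1, rE7_2, rE7_3, rE7_4, rE7_5, rE7_6, rE7_7, rE7_8, rE7_9, rE7_10, rE7_11, rE7_12, rE7_13, rE7_14, rE7_15, rE7_16, rE7_17, rE7_18, rE7_19, rE7_20, rE7_21, rE7_22, rE7_23, rE7_24, rE7_25, rE7_26, rE7_27, rE7_28, rE7_29, rE7_30, rE7_31, rE7_32, rE7_33, rE7_34, rE7_35, rE7_36, rE7_37, rE7_38, rE7_39, rE7_40, rE7_41, rE7_42, rE7_43, rE7_44, rE7_45, rE7_46]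

/-- the larger invariant sets -/
def kiE7 : List Ki := [⟨0, 0, 0, 0, [], 0⟩,
  ⟨9223372036854775809, 999, 2, 2, [0, 0, 1, 0, 0, 0, 0], 1⟩,
  ⟨27670116110564327427, 999, 4, 2, [0, 0, 1, 0, 0, 0, 0], 4⟩,
  ⟨1226708480901685182597, 999, 6, 3, [0, 0, 0, 1, 0, 0, 0], 1⟩,
  ⟨175244068700240740371, 999, 2, 2, [0, 0, 1, 0, 0, 1, 0], 3⟩,
  ⟨10633823966279327012053494097413931011, 999, 6, 2, [0, 0, 1, 0, 0, 0, 0], 4⟩,
  ⟨1245155224975394734215, 999, 6, 3, [0, 0, 0, 1, 0, 0, 0], 49⟩,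
  ⟨765539879058946392147, 999, 6, 2, [0, 0, 0, 1, 0, 0, 0], 2⟩,
  ⟨633825300289358769517311819795, 999, 8, 2, [0, 0, 1, 0, 0, 0, 0], 6⟩,
  ⟨1392729177565071147159, 999, 8, 3, [0, 0, 0, 1, 0, 0, 0], 5⟩,
  ⟨633825300879654579876017471571, 999, 6, 2, [0, 0, 0, 0, 0, 1, 0], 2⟩,
  ⟨5067126906235239879172611, 999, 4, 2, [0, 0, 1, 1, 0, 0, 0], 4⟩,
  ⟨46730671726814693817065991938506887, 999, 12, 2, [0, 0, 0, 0, 0, 0, 1], 4⟩,
  ⟨1226708480901685182597, 6, 6, 3, [0, 0, 0, 1, 0, 0, 0], 5⟩,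
  ⟨166154133298415363785570157061996627, 999, 4, 2, [0, 0, 1, 1, 0, 0, 0], 5⟩,
  ⟨654870282027121390468032626823, 999, 4, 2, [0, 0, 0, 0, 0, 1, 0], 3⟩,
  ⟨74436767763955290135838870883341959303, 999, 14, 2, [0, 0, 0, 1, 0, 0, 0], 4⟩,
  ⟨20577343014223004829879, 999, 8, 2, [0, 0, 0, 1, 0, 0, 1], 24⟩,
  ⟨0, 0, 0, 0, [], 0⟩,
  ⟨654870282174695343057709039767, 999, 4, 2, [0, 0, 0, 0, 0, 1, 0], 3⟩,
  ⟨189518835336522601191088354387558551, 999, 14, 2, [0, 0, 0, 1, 0, 1, 0], 49⟩,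
  ⟨9969209968386870440588594427742650519, 999, 12, 3, [0, 0, 0, 1, 0, 0, 0], 5⟩,
  ⟨46730671726834026004855239548602551, 999, 6, 2, [0, 0, 0, 0, 0, 0, 1], 3⟩,
  ⟨654870282764991153416414691543, 999, 6, 2, [0, 0, 0, 0, 0, 1, 0], 3⟩,
  ⟨5070779361561834370392975, 999, 20, 2, [0, 0, 0, 0, 1, 0, 0], 5⟩,
  ⟨2476798209916797221869815, 999, 12, 3, [0, 0, 0, 1, 0, 0, 0], 49⟩,
  ⟨5071074509467013723218863, 999, 8, 2, [0, 0, 0, 0, 0, 0, 1], 4⟩,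
  ⟨634169471080996792130168513043, 999, 24, 2, [0, 0, 1, 1, 0, 0, 0], 6⟩,
  ⟨9969210623257151222554759920380543127, 999, 8, 2, [0, 0, 0, 0, 0, 1, 0], 3⟩,
  ⟨74626287254162092126266947165296263303, 999, 26, 2, [0, 0, 0, 1, 0, 0, 0], 4⟩,
  ⟨5109443737140329590584303, 999, 14, 2, [0, 0, 0, 0, 1, 0, 0], 39⟩,
  ⟨74436767763957765688893562705169094903, 999, 10, 2, [0, 0, 0, 1, 0, 0, 0], 27⟩,
  ⟨74626287254162092273840899754972676247, 999, 12, 2, [0, 0, 0, 0, 0, 1, 0], 3⟩,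
  ⟨47100825707150871008680020424549263, 999, 12, 2, [0, 0, 0, 0, 0, 0, 1], 4⟩,
  ⟨82412135738669854908332741232454820751, 999, 30, 3, [0, 0, 0, 0, 1, 0, 0], 5⟩,
  ⟨0, 0, 0, 0, [], 0⟩,
  ⟨47100825707151166156585199777375151, 999, 12, 2, [0, 0, 0, 0, 0, 0, 1], 4⟩,
  ⟨82412135738669855203480646411807646639, 999, 30, 3, [0, 0, 0, 0, 1, 0, 0], 6⟩,
  ⟨0, 0, 0, 0, [], 0⟩,
  ⟨655214767077491452796810684319, 999, 40, 2, [0, 0, 0, 0, 0, 1, 0], 6⟩,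
  ⟨655214767667787263155516336095, 999, 26, 2, [0, 0, 0, 0, 0, 1, 0], 48⟩,
  ⟨2610589504910284878399606302517519279, 999, 30, 2, [0, 0, 0, 0, 1, 0, 0], 6⟩,
  ⟨0, 0, 0, 0, [], 0⟩,
  ⟨84595497222893446224496426356745824159, 999, 60, 2, [0, 0, 0, 0, 0, 1, 0], 6⟩,
  ⟨0, 0, 0, 0, [], 0⟩,
  ⟨0, 0, 0, 0, [], 0⟩,
  ⟨0, 0, 0, 0, [], 0⟩]

/-- sums of roots -/
def spE7 : List (ℕ × ℕ) := []

/-- the surviving masks -/
def smE7 : List ℕ := [0, 10799978099577742348168948143911600211, 74626287254162092864136710113678328023, 82412135738669893572708319727675012079, 2657690330612403339274397804439041007, 84595497222893446814792236715451475935, 47123232259592422029149144092503999]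

theorem rowE7_0 : aL (fun j => tbE7.row rwE7 (j + 0)) 16 = true := by decide +kernel

theorem rowE7_16 : aL (fun j => tbE7.row rwE7 (j + 16)) 16 = true := by decide +kernel

theorem rowE7_32 : aL (fun j => tbE7.row rwE7 (j + 32)) 15 = true := by decide +kernel

theorem rowE7 : ∀ j < rwE7.length, tbE7.row rwE7 j = true := fun j (hj : j < 47) => by
  by_cases h : j < 16
  · simpa only [Nat.sub_add_cancel (show 0 ≤ j by omega)] using aL_iff.1 rowE7_0 (j - 0) (by omega)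
  by_cases h : j < 32
  · simpa only [Nat.sub_add_cancel (show 16 ≤ j by omega)] using aL_iff.1 rowE7_16 (j - 16) (by omega)
  simpa only [Nat.sub_add_cancel (show 32 ≤ j by omega)] using aL_iff.1 rowE7_32 (j - 32) (by omega)

theorem staE7_0 : aL (fun j => tbE7.sta 7 rwE7 kiE7 spE7 smE7 (j + 0)) 16 = true := by decide +kernel

theorem staE7_16 : aL (fun j => tbE7.sta 7 rwE7 kiE7 spE7 smE7 (j + 16)) 16 = true := by decide +kernel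

theorem staE7_32 : aL (fun j => tbE7.sta 7 rwE7 kiE7 spE7 smE7 (j + 32)) 15 = true := by decide +kernel

theorem staE7 : ∀ j < rwE7.length, tbE7.sta 7 rwE7 kiE7 spE7 smE7 j = true := fun j (hj : j < 47) => by
  by_cases h : j < 16
  · simpa only [Nat.sub_add_cancel (show 0 ≤ j by omega)] using aL_iff.1 staE7_0 (j - 0) (by omega)
  by_cases h : j < 32
  · simpa only [Nat.sub_add_cancel (show 16 ≤ j by omega)] using aL_iff.1 staE7_16 (j - 16) (by omega)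
  simpa only [Nat.sub_add_cancel (show 32 ≤ j by omega)] using aL_iff.1 staE7_32 (j - 32) (by omega)

end Cfsg.Agent.N2.Ex.Al.Ck
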