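import Cfsg.Agent.N2.Ex.Al.Srv
import Cfsg.Agent.N2.Ex.Al.TbD

/-!
# N2, subgroups of maximal rank: the rows of `F4` (helper40, generated data)
-/

set_option autoImplicit false
set_option maxRecDepth 100000

namespace Cfsg.Agent.N2.Ex.Al.Ck

open Cfsg Cfsg.Lie Cfsg.Agent.Nodes.RGDChev

/-- T -/
def rF4_0 : Rw := ⟨0, [], [(0, 1, []), (1, 1, [4, 0]), (2, 2, []), (3, 2, [6, 2]), (4, 1, [1]), (5, 1, [7, 0]), (6, 2, [3]), (7, 1, [5]), (8, 2, [1]), (9, 1, [11, 0]), (10, 1, [8]), (11, 1, [9]), (12, 2, [3, 1]), (13, 2, [4]), (14, 1, [12]), (15, 2, [12]), (16, 2, [18, 2]), (17, 1, [15]), (18, 2, [16]), (19, 1, [20, 0]), (20, 1, [19]), (21, 2, [16, 1]), (22, 2, [21]), (23, 2, [14]), (24, 1, [0]), (25, 1, [4]), (26, 2, [2]), (27, 2, [6]), (28, 1, [1, 0]), (29, 1, [7]), (30, 2, [15, 1]), (31, 1, [5, 0]), (32, 2, [5]), (33, 1, [11]),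 (34, 1, [13]), (35, 1, [9, 0]), (36, 2, [15]), (37, 2, [7]), (38, 1, [16]), (39, 2, [12, 2]), (40, 2, [18]), (41, 1, [18]), (42, 2, [22, 1]), (43, 1, [20]), (44, 1, [19, 0]), (45, 2, [22]), (46, 2, [21, 2]), (47, 2, [17])]⟩

/-- A1~ -/
def rF4_1 : Rw := ⟨16777217, [0], [(1, 6, []), (2, 3, []), (3, 3, [6, 2]), (5, 6, [2]), (6, 3, [3]), (8, 12, []), (9, 6, [6]), (10, 4, []), (12, 12, [3]), (14, 4, [3]), (15, 12, [6]), (17, 4, [6]), (19, 6, [17]), (21, 3, [22, 2]), (22, 3, [21]), (23, 3, [14]), (26, 3, [2]), (27, 3, [6]), (28, 6, [10, 2]), (30, 3, [3, 2]), (31, 6, [10]), (34, 4, [10]), (35, 6, [14]), (37, 12, [10]), (38, 4, [21]), (40, 12, [21]), (41, 4, [22]), (42, 12, [22]), (44, 6, [21]), (45, 3, [22]), (46, 3, [21, 2]), (47, 3, [17])]⟩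

/-- A1 -/
def rF4_2 : Rw := ⟨67108868, [2], [(0, 3, []), (1, 12, [0, 1]), (3, 7, []), (4, 12, [1]), (8, 5, [1]), (9, 3, [11, 0]), (10, 3, [8]), (11, 3, [9]), (12, 7, [8]), (13, 5, [0, 1]), (14, 12, [9, 1]), (16, 7, [13]), (19, 3, [20, 0]), (20, 3, [19]), (21, 7, [10]), (23, 5, [11, 1]), (24, 3, [0]), (29, 12, [10, 1]), (30, 7, [9, 8]), (31, 12, [13, 1]), (32, 5, [8, 1]), (33, 3, [11]), (34, 3, [13]), (35, 3, [9, 0]), (37, 5, [10, 1]), (39, 7, [9]), (41, 12, [20, 1]), (42, 7, [11]), (43, 3, [20]), (44, 3, [19, 0]), (46, 7, [23]), (47, 5, [19, 1])]⟩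

/-- A1~A1 -/
def rF4_3 : Rw := ⟨83886085, [0, 2], [(1, 28, []), (3, 14, []), (8, 18, []), (9, 13, [3, 2]), (10, 8, []), (12, 29, []), (14, 19, []), (19, 13, [10, 3, 2]), (21, 14, [10]), (23, 9, []), (30, 14, [23, 10]), (31, 28, [10]), (34, 8, [10]), (35, 13, [23, 10, 3, 2]), (37, 18, [10]), (41, 19, [23]), (42, 29, [23]), (44, 13, [23, 3, 2]), (46, 14, [23]), (47, 9, [23])]⟩

/-- A1~A1~ -/
def rF4_4 : Rw := ⟨17196647425, [0, 10], [(2, 8, []), (3, 19, [2, 3]), (6, 19, [3]), (9, 20, [14, 1, 0]), (12, 19, [2, 3, 12]), (14, 10, []), (15, 19, [3, 12]), (17, 10, [2]), (23, 8, [14]), (26, 8, [2]), (28, 20, [1, 0]), (31, 20, [2, 1, 0]), (37, 12, [10]), (38, 10, [14]), (40, 19, [23, 3, 12]), (41, 10, [23]), (42, 19, [17, 3, 12]), (44, 20, [17, 1, 0]), (45, 19, [23, 3]), (46, 19, [17, 3]), (47, 8, [17])]⟩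

/-- A1A1 -/
def rF4_5 : Rw := ⟨4362076420, [8, 2], [(0, 18, []), (3, 21, [1]), (4, 18, [1]), (9, 9, [9, 14, 1]), (11, 18, [9]), (13, 11, [1]), (14, 18, [9, 1]), (16, 21, [13, 1]), (20, 9, [23, 14, 1]), (23, 11, [9, 1]), (29, 12, [7]), (31, 18, [13, 1]), (33, 9, [14, 1]), (34, 18, [13]), (37, 11, [13, 1]), (39, 21, [9, 1]), (41, 18, [20, 1]), (43, 18, [20]), (44, 9, [13, 14, 1]), (46, 21, [23, 1]), (47, 11, [20, 1])]⟩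

/-- A2~ -/
def rF4_6 : Rw := ⟨318767123, [0, 1], [(2, 28, []), (3, 13, []), (5, 20, []), (6, 28, [3]), (9, 20, [3]), (15, 28, [22, 10, 2, 1, 0]), (17, 20, [22, 10, 2, 1, 0]), (22, 13, [23, 3]), (23, 13, [22]), (27, 13, [3]), (34, 20, [10, 2, 1, 0]), (37, 28, [10, 2, 1, 0]), (38, 20, [3, 10, 2, 1, 0]), (40, 28, [3, 10, 2, 1, 0]), (44, 20, [22]), (45, 28, [22]), (46, 13, [23]), (47, 13, [22, 3])]⟩

/-- A2 -/
def rF4_7 : Rw := ⟨1275068492, [2, 3], [(0, 14, []), (1, 29, [0, 8, 3, 1]), (4, 29, [8, 3, 1]), (8, 21, []), (10, 29, [8]), (13, 21, [0]), (19, 14, [20, 0]), (20, 14, [19]), (21, 21, [19, 9, 8, 3, 2]), (24, 14, [0]), (33, 29, [19, 8]), (35, 29, [20, 8]), (39, 21, [9, 8, 3, 2]), (41, 29, [20, 8, 3, 1]), (42, 21, [0, 9, 8, 3, 2]), (43, 14, [20]), (44, 14, [19, 0]), (47, 21, [19])]⟩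

/-- A1~A1~A1 -/
def rF4_8 : Rw := ⟨17263756293, [0, 2, 10], [(3, 31, []), (9, 25, [3, 2]), (12, 31, [8]), (14, 24, []), (23, 15, []), (31, 28, [10]), (37, 18, [10]), (41, 24, [23]), (42, 31, [23, 8]), (44, 25, [23, 3, 2]), (46, 31, [23]), (47, 15, [23])]⟩

/-- A1~A1A1 -/
def rF4_9 : Rw := ⟨140737580630021, [0, 2, 23], [(1, 30, []), (8, 23, []), (10, 15, []), (30, 26, [3, 2]), (31, 30, [10]), (34, 15, [10]), (35, 30, [14]), (37, 23, [10]), (41, 19, [23]), (42, 29, [23]), (44, 30, [10, 14]), (46, 26, [10, 3, 2])]⟩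

/-- A1~A1~A1~ -/
def rF4_10 : Rw := ⟨292074570753, [0, 10, 14], [(2, 24, []), (6, 24, [3]), (15, 24, [3, 12]), (17, 16, []), (28, 32, [1, 0]), (37, 19, [22, 12]), (40, 19, [23, 3, 12]), (41, 16, [17]), (42, 24, [17, 3, 12]), (44, 32, [17, 1, 0]), (45, 19, [23, 3]), (46, 24, [17, 3]), (47, 24, [17])]⟩

/-- A1A1A1 -/
def rF4_11 : Rw := ⟨141801038084, [2, 8, 13], [(3, 33, []), (9, 23, [9, 11]), (11, 23, [9]), (14, 23, [9, 1]), (23, 17, []), (29, 18, [8, 0, 1]), (31, 18, [13, 1]), (34, 18, [13]), (41, 23, [23, 9, 1]), (43, 23, [23, 9]), (44, 23, [23, 9, 11]), (46, 33, [23]), (47, 17, [23])]⟩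

/-- B2 -/
def rF4_12 : Rw := ⟨158930576641, [0, 8], [(2, 18, []), (3, 29, [2, 3]), (6, 29, [3]), (9, 28, [14, 1, 0]), (14, 19, [6, 12]), (17, 19, [2, 6, 12]), (23, 18, [14]), (26, 18, [2]), (28, 28, [1, 0]), (31, 28, [2, 1, 0]), (38, 19, [14, 6, 12]), (41, 19, [23, 6, 12]), (44, 28, [17, 1, 0]), (45, 29, [23, 3]), (46, 29, [17, 3]), (47, 18, [17])]⟩

/-- A2~A1 -/
def rF4_13 : Rw := ⟨452984859, [0, 1, 3], [(2, 36, []), (5, 34, [3, 6]), (15, 30, [22, 10, 2, 1, 0]), (17, 25, []), (22, 22, []), (38, 34, [22, 14, 9, 0]), (40, 36, [22, 3, 10, 2, 1, 0]), (44, 25, [22, 3, 10, 2, 1, 0]), (45, 30, [22]), (47, 22, [22, 3])]⟩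

/-- A2A1~ -/
def rF4_14 : Rw := ⟨1291845709, [0, 2, 3], [(1, 36, []), (8, 35, []), (10, 31, []), (19, 22, [10, 3, 2]), (21, 26, []), (35, 36, [23, 10, 3, 2]), (41, 31, [23, 10, 3, 2]), (42, 35, [23, 10, 3, 2]), (44, 22, [21]), (47, 26, [23, 10, 3, 2])]⟩

/-- A1~A1~A1A1 -/
def rF4_15 : Rw := ⟨140754760500229, [0, 2, 10, 23], [(31, 30, [10]), (37, 23, [10]), (41, 24, [23]), (42, 31, [23, 8]), (44, 25, [23, 3, 2]), (46, 31, [23])]⟩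

/-- A1~A1~A1~A1~ -/
def rF4_16 : Rw := ⟨2491097957377, [0, 10, 14, 17], [(37, 24, [10, 6, 12]), (40, 24, [14, 2, 3, 12]), (42, 24, [17, 3, 12]), (44, 32, [17, 1, 0]), (45, 24, [14, 2, 3]), (46, 24, [17, 3]), (47, 24, [17])]⟩

/-- A1A1A1A1 -/
def rF4_17 : Rw := ⟨140879297782020, [2, 8, 13, 23], [(29, 23, [8, 0, 1]), (31, 23, [13, 1]), (34, 23, [13]), (41, 23, [23, 9, 1]), (43, 23, [23, 9]), (44, 23, [23, 9, 11]), (46, 33, [23])]⟩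

/-- B2A1 -/
def rF4_18 : Rw := ⟨158997685509, [0, 2, 8], [(3, 35, []), (9, 30, [14, 1, 0]), (14, 27, []), (23, 23, []), (31, 28, [10]), (41, 27, [23]), (44, 30, [23, 14, 1, 0]), (46, 35, [23]), (47, 23, [23])]⟩

/-- B2A1~ -/
def rF4_19 : Rw := ⟨143211481939973, [0, 2, 14], [(8, 27, []), (10, 24, []), (30, 31, [3, 2]), (34, 24, [10]), (35, 34, [9, 0]), (37, 27, [10]), (42, 29, [23]), (44, 34, [10, 9, 0]), (46, 31, [10, 3, 2])]⟩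

/-- A3~ -/
def rF4_20 : Rw := ⟨20182992051, [0, 1, 5], [(3, 34, [3, 6]), (6, 34, [3]), (9, 32, []), (23, 25, [3, 10, 2, 1, 0]), (37, 28, [10, 2, 1, 0]), (44, 32, [23]), (45, 34, [23, 3]), (46, 34, [23, 3, 6]), (47, 25, [23, 3, 10, 2, 1, 0])]⟩

/-- A3 -/
def rF4_21 : Rw := ⟨624045363532, [2, 3, 8], [(0, 35, []), (4, 35, [1]), (13, 33, []), (20, 26, [0, 9, 8, 3, 2]), (33, 29, [19, 8]), (41, 35, [20, 1]), (43, 35, [20]), (44, 26, [20, 0, 9, 8, 3, 2]), (47, 33, [20])]⟩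

/-- A2~A2 -/
def rF4_22 : Rw := ⟨211106698100763, [0, 1, 3, 22], [(38, 34, [22, 14, 9, 0]), (40, 36, [22, 3, 10, 2, 1, 0]), (44, 25, [22, 3, 10, 2, 1, 0]), (45, 30, [22])]⟩

/-- B2A1A1 -/
def rF4_23 : Rw := ⟨140896494429445, [0, 2, 8, 23], [(31, 30, [10]), (41, 27, [23]), (44, 30, [23, 14, 1, 0]), (46, 35, [23])]⟩

/-- B2A1~A1~ -/
def rF4_24 : Rw := ⟨143228661810181, [0, 2, 10, 14], [(37, 27, [10]), (42, 31, [23, 8]), (44, 25, [23, 3, 2]), (46, 31, [23])]⟩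

/-- A3~A1 -/
def rF4_25 : Rw := ⟨28587757010971, [0, 1, 3, 17], [(38, 34, [22, 14, 9, 0]), (40, 36, [22, 3, 10, 2, 1, 0]), (45, 30, [22]), (47, 34, [23, 14, 9, 0])]⟩

/-- A3A1~ -/
def rF4_26 : Rw := ⟨246291911147597, [0, 2, 3, 21], [(35, 36, [23, 10, 3, 2]), (41, 31, [23, 10, 3, 2]), (42, 35, [23, 10, 3, 2]), (44, 36, [23, 3, 2])]⟩

/-- B2B2 -/
def rF4_27 : Rw := ⟨143370395739397, [0, 2, 8, 14], [(44, 30, [23, 14, 1, 0]), (46, 35, [23])]⟩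

/-- C3 -/
def rF4_28 : Rw := ⟨161984030135, [0, 1, 2], [(3, 36, []), (9, 34, []), (23, 30, []), (44, 34, [23]), (46, 36, [23]), (47, 30, [23])]⟩

/-- B3 -/
def rF4_29 : Rw := ⟨149327515734021, [0, 2, 12], [(10, 31, [8]), (30, 35, [3, 2]), (34, 31, [10, 8]), (35, 36, [3, 2, 1, 0]), (44, 36, [10, 3, 2, 1, 0]), (46, 35, [10, 3, 2])]⟩

/-- C3A1 -/
def rF4_30 : Rw := ⟨140899480774071, [0, 1, 2, 23], [(44, 34, [23]), (46, 36, [23])]⟩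

/-- B3A1~ -/
def rF4_31 : Rw := ⟨248782992327757, [0, 2, 3, 10], [(42, 35, [23, 10, 3, 2]), (44, 34, [17, 6, 2, 9, 0])]⟩

/-- D4~ -/
def rF4_32 : Rw := ⟨28925314617011, [0, 1, 5, 9], [(45, 34, [23, 3]), (46, 34, [23, 3, 6]), (47, 34, [22, 6])]⟩

/-- D4 -/
def rF4_33 : Rw := ⟨252549662093644, [2, 3, 8, 13], [(41, 35, [20, 1]), (43, 35, [20]), (44, 35, [19, 0])]⟩

/-- C4 -/
def rF4_34 : Rw := ⟨169804612399031, [0, 1, 2, 9], [(46, 36, [23])]⟩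

/-- B4 -/
def rF4_35 : Rw := ⟨255040760051021, [0, 2, 3, 8], [(44, 36, [17, 1, 0])]⟩

/-- F4 -/
def rF4_36 : Rw := ⟨281474976710655, [0, 1, 2, 3], []⟩

/-- the rows -/
def rwF4 : List Rw := [rF4_0, rF4_1, rF4_2, rF4_3, rF4_4, rF4_5, rF4_6, rF4_7, rF4_8, rF4_9, rF4_10, rF4_11, rF4_12, rF4_13, rF4_14, rF4_15, rF4_16, rF4_17, rF4_18, rF4_19, rF4_20, rF4_21, rF4_22, rF4_23, rF4_24, rF4_25, rF4_26, rF4_27, rF4_28, rF4_29, rF4_30, rF4_31, rF4_32, rF4_33, rF4_34, rF4_35, rF4_36]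

/-- the larger invariant sets -/
def kiF4 : List Ki := [⟨0, 0, 0, 0, [], 0⟩,
  ⟨16777217, 999, 2, 2, [0, 1, 0, 0], 2⟩,
  ⟨67108868, 999, 2, 2, [0, 1, 0, 1], 0⟩,
  ⟨83886085, 999, 4, 2, [0, 1, 0, 0], 10⟩,
  ⟨17196647425, 999, 2, 2, [0, 1, 0, 0], 3⟩,
  ⟨4362076420, 999, 0, 2, [1, 0, 0, 0], 1⟩,
  ⟨318767123, 999, 6, 3, [0, 0, 1, 0], 3⟩,
  ⟨1275068492, 999, 6, 3, [0, 1, 0, 0], 0⟩,
  ⟨17263756293, 999, 4, 2, [0, 1, 0, 0], 14⟩,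
  ⟨140737580630021, 999, 4, 2, [0, 1, 0, 0], 8⟩,
  ⟨292074570753, 999, 4, 2, [0, 1, 0, 0], 2⟩,
  ⟨141801038084, 999, 2, 2, [0, 0, 0, 1], 0⟩,
  ⟨158930576641, 999, 8, 2, [0, 1, 0, 0], 2⟩,
  ⟨452984859, 999, 6, 3, [0, 0, 1, 0], 22⟩,
  ⟨1291845709, 999, 6, 3, [0, 1, 0, 0], 19⟩,
  ⟨140754760500229, 999, 4, 2, [0, 1, 0, 0], 8⟩,
  ⟨2491097957377, 999, 4, 2, [0, 1, 0, 0], 2⟩,
  ⟨140879297782020, 999, 0, 2, [1, 0, 0, 0], 3⟩,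
  ⟨158997685509, 999, 4, 2, [0, 1, 0, 1], 9⟩,
  ⟨143211481939973, 999, 8, 2, [0, 1, 0, 0], 8⟩,
  ⟨20182992051, 999, 12, 2, [0, 0, 0, 1], 23⟩,
  ⟨624045363532, 999, 4, 2, [1, 0, 0, 0], 1⟩,
  ⟨0, 0, 0, 0, [], 0⟩,
  ⟨140896494429445, 999, 2, 2, [0, 1, 0, 0], 3⟩,
  ⟨143228661810181, 999, 4, 2, [0, 1, 0, 0], 3⟩,
  ⟨134217736, 12, 2, 2, [0, 0, 1, 0], 15⟩,
  ⟨246291911147597, 999, 4, 2, [0, 1, 0, 0], 8⟩,
  ⟨0, 0, 0, 0, [], 0⟩,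
  ⟨161984030135, 999, 18, 2, [0, 0, 0, 1], 23⟩,
  ⟨149327515734021, 999, 8, 2, [0, 1, 0, 0], 3⟩,
  ⟨0, 0, 0, 0, [], 0⟩,
  ⟨248782992327757, 999, 8, 2, [0, 1, 0, 0], 8⟩,
  ⟨0, 0, 0, 0, [], 0⟩,
  ⟨0, 0, 0, 0, [], 0⟩,
  ⟨0, 0, 0, 0, [], 0⟩,
  ⟨0, 0, 0, 0, [], 0⟩,
  ⟨0, 0, 0, 0, [], 0⟩]

/-- sums of roots -/
def spF4 : List (ℕ × ℕ) := [(5, 25), (9, 29)]

/-- the surviving masks -/
def smF4 : List ℕ := [0, 211106698100763, 143370395739397, 140899480774071, 252549662093644, 255040760051021]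

theorem rowF4_0 : aL (fun j => tbF4.row rwF4 (j + 0)) 37 = true := by decide +kernel

theorem rowF4 : ∀ j < rwF4.length, tbF4.row rwF4 j = true := fun j (hj : j < 37) => by
  simpa only [Nat.sub_add_cancel (show 0 ≤ j by omega)] using aL_iff.1 rowF4_0 (j - 0) (by omega)

theorem staF4_0 : aL (fun j => tbF4.sta 4 rwF4 kiF4 spF4 smF4 (j + 0)) 37 = true := by decide +kernel

theorem staF4 : ∀ j < rwF4.length, tbF4.sta 4 rwF4 kiF4 spF4 smF4 j = true := fun j (hj : j < 37) => by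
  simpa only [Nat.sub_add_cancel (show 0 ≤ j by omega)] using aL_iff.1 staF4_0 (j - 0) (by omega)

/-- functionals -/
def shF4 : List (ℕ × List ℕ) := [(2, [1, 0, 0, 0]), (2, [0, 1, 0, 0]), (2, [1, 0, 0, 0]), (2, [0, 1, 0, 0]), (2, [0, 1, 0, 0]), (2, [1, 0, 0, 0]), (2, [0, 0, 1, 0]), (2, [1, 0, 0, 0]), (2, [0, 1, 0, 0]), (2, [0, 1, 0, 0]), (2, [0, 1, 0, 0]), (2, [1, 0, 0, 0]), (2, [0, 1, 0, 0]), (2, [0, 0, 1, 0]), (2, [0, 1, 0, 0]), (2, [0, 1, 0, 0]), (2, [0, 1, 0, 0]), (2, [1, 0, 0, 0]), (2, [0, 1, 0, 0]), (2, [0, 1, 0, 0]), (2, [0, 0, 0, 1]), (2, [1, 0, 0, 0]), (3, [0, 0, 1, 0]), (2, [0, 1, 0, 0]), (2, [0, 1, 0, 0]), (2, [0, 0, 1, 0]), (2, [0, 1, 0, 0]), (2, [0, 1, 0, 0]), (2, [0, 0, 0, 1]), (2, [0, 1, 0, 0]), (2, [0, 0, 0, 1]), (2, [0, 1, 0, 0]), (0, []), (2, [1, 0, 0, 0]), (0, []), (2, [0, 1, 0, 0]), (0, [])]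

theorem shsF4 : aL (fun j => tbF4.shs 4 (rw0 rwF4 j).m (shF4.getD j (0, []))) 37 = true := by decide +kernel

end Cfsg.Agent.N2.Ex.Al.Ck
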