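import Cfsg.Agent.N2.Ex.Al.Tab
import Cfsg.Agent.SB.Exc.NT.Ind

/-!
# N2, subgroups of maximal rank: averaging over the torus (helper40)

* `ordGe_pred` : a root has order at least `q - 1` modulo `(q - g) Λ`;
* `cert_avg` : the certificate for all `q ≥ q₁`.
-/

set_option autoImplicit false
set_option linter.unusedSectionVars false

namespace Cfsg.Agent.N2.Ex.Al.Ck

open CoxeterSystem Cfsg Cfsg.Lie Cfsg.Lie.ChevalleyDatum
open Cfsg.Agent.ChevalleyStructure Cfsg.Agent.ChevalleyStructure.CoxeterGeom Cfsg.Agent.ChevalleyStructure.CoxeterGeomTypes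
  Cfsg.Agent.Tits.Roots Cfsg.Agent.Nodes Cfsg.Agent.Nodes.BNOf Cfsg.Agent.Nodes.RGDChev Cfsg.Agent.Nodes.Coroot
  Cfsg.Agent.Nodes.SubComb
open Cfsg.Agent.BpExc.Fr Cfsg.Agent.DS.Ex Cfsg.Agent.DS.Nt
open Cfsg.Agent.DS.Ex.Tor (RT)
open Cfsg.Agent.H931.KC (nmk)
open Cfsg.Agent.SB.Exc (nP dM ordU degs)

/-- the Cartan integers are at most `2`; the value `-2` -/
noncomputable def Tb.ok4 (T : Tb) (r : ℕ) : Bool :=
  aL (fun s => and (Nat.ble (T.c r s) 4) (or (Nat.blt 0 (T.c r s)) (or (Nat.beq (T.c s r) 1) (Nat.beq s (T.ng r))))) T.n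

variable {D : ChevalleyDatum} {l : ℕ} {M : CoxeterMatrix (Fin l)} (hp : IsType D l M)

/-- the tables with the bounds for the Cartan integers -/
structure Gs (T : Tb) : Prop extends Gt hp T where
  ok4 : ∀ r < T.n, T.ok4 r = true
  nm : nmk D l = dM l

variable {hp} {T : Tb}

/-! ### the automorphisms `± w` -/

theorem gw_rt {g : LL l ≃+ LL l} (h : GW hp g) {a : LL l} (ha : RT hp a) : RT hp (g a) := by
  obtain ⟨w, h | ⟨-, h⟩⟩ := h
  · exact h a ▸ rt_ac hp w ha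
  · exact h a ▸ (rt_ac hp w ha).neg

theorem gw_cp {g : LL l ≃+ LL l} (h : GW hp g) (x : LL l) {a : LL l} (ha : RT hp a) : cp hp (g x) (g a) = cp hp x a := by
  obtain ⟨w, h | ⟨-, h⟩⟩ := h
  · rw [h, h, cp_ac hp w x ha]
  · rw [h, h, cp_neg hp _ (rt_ac hp w ha).neg, cp_neg' hp _ (rt_ac hp w ha), neg_neg, cp_ac hp w x ha]

theorem gw_surj {g : LL l ≃+ LL l} (h : GW hp g) {a : LL l} (ha : RT hp a) : ∃ b, RT hp b ∧ g b = a := by
  obtain ⟨w, h | ⟨-, h⟩⟩ := h
  · exact ⟨_, rt_ac hp w⁻¹ ha, by rw [h, ac_inv']⟩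
  · exact ⟨_, (rt_ac hp w⁻¹ ha).neg, by rw [h, map_neg, neg_neg, ac_inv']⟩

theorem gw_ac (w : M.Group) : GW hp (ac hp w) := ⟨w, Or.inl fun _ => rfl⟩

theorem gw_mul {g : LL l ≃+ LL l} (h : GW hp g) (v w : M.Group) {g' : LL l ≃+ LL l}
    (e : ∀ x, g' x = ac hp v (g (ac hp w x))) : GW hp g' := by
  obtain ⟨u, h | ⟨hD, h⟩⟩ := h
  · exact ⟨v * u * w, Or.inl fun a => by rw [e, h, ac_mul, ac_mul]⟩
  · exact ⟨v * u * w, Or.inr ⟨hD, fun a => by rw [e, h, ac_mul, ac_mul, map_neg]⟩⟩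

theorem cp_sum (s : Multiset (LL l)) {a : LL l} (ha : RT hp a) : cp hp s.sum a = (s.map fun x => cp hp x a).sum := by
  induction s using Multiset.induction_on with
  | empty => simpa using cp_smul hp 0 0 ha
  | cons x s ih => rw [Multiset.sum_cons, Multiset.map_cons, Multiset.sum_cons, cp_add hp _ _ ha, ih]

theorem exists_sum (y : LL l) : ∃ s : Multiset (LL l), (∀ a ∈ s, RT hp a) ∧ s.sum = y := by
  refine AddSubmonoid.exists_multiset_of_mem_closure (s := {a | RT hp a}) ?_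
  rw [← Finset.univ_sum_single y]
  refine sum_mem fun i _ => ?_
  have e : (Pi.single i (y i) : LL l) = y i • sr i := by rw [sr, ← Pi.single_smul, smul_eq_mul, mul_one]
  have h : RT hp (sr i) := isRoot_sr _ _ i
  rw [e]
  obtain ⟨n, hn | hn⟩ := Int.eq_nat_or_neg (y i)
  · rw [hn, natCast_zsmul]
    exact nsmul_mem (AddSubmonoid.subset_closure (s := {a | RT hp a}) h) n
  · rw [hn, neg_smul, ← smul_neg, natCast_zsmul]
    exact nsmul_mem (AddSubmonoid.subset_closure (s := {a | RT hp a}) h.neg) n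

namespace Gs

variable (G : Gs hp T)
include G

theorem cp_le {a b : LL l} (ha : RT hp a) (hb : RT hp b) : cp hp a b ≤ 2 := by
  obtain ⟨r, hr, rfl⟩ := G.surj a ha
  obtain ⟨s, hs, rfl⟩ := G.surj b hb
  have h := aL_iff.1 (G.ok4 r hr) s hs
  simp only [Bool.and_eq_true, Nat.ble_eq] at h
  rw [G.cpe r hr s hs]
  omega

theorem add_rt {a b : LL l} (ha : RT hp a) (hb : RT hp b) (h : cp hp a b < 0) : RT hp (a + b) ∨ a + b = 0 := by
  have k : ∀ {a b : LL l}, RT hp a → RT hp b → cp hp a b = -1 → RT hp (a + b) := fun {a b} ha hb h => by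
    have := rt_ac hp (rw' hp b) ha
    rwa [ac_rw hp hb, h, neg_smul, one_smul, sub_neg_eq_add] at this
  obtain ⟨r, hr, rfl⟩ := G.surj a ha
  obtain ⟨s, hs, rfl⟩ := G.surj b hb
  have h1 := aL_iff.1 (G.ok4 r hr) s hs
  simp only [Bool.and_eq_true, Bool.or_eq_true, Nat.ble_eq, Nat.blt_eq, Nat.beq_eq] at h1
  have h2 := G.cpe r hr s hs
  rcases h1.2 with h1 | h1 | rfl
  · exact Or.inl (k ha hb (by omega))
  · exact Or.inl (add_comm (T.vec l s) _ ▸ k hb ha (by rw [G.cpe s hs r hr, h1]; rfl))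
  · exact Or.inr (by rw [(G.ng hr).2, add_neg_cancel])

/-- no minuscule weight lies in the root lattice -/
theorem eq_zero {y : LL l} (h : ∀ a, RT hp a → cp hp y a ≤ 1) : y = 0 := by
  obtain ⟨s, h1, h2⟩ := exists_sum (hp := hp) y
  induction hn : s.card using Nat.strong_induction_on generalizing s with
  | _ n ih =>
    rcases s.empty_or_exists_mem with rfl | ⟨a, ha⟩
    · exact h2.symm
    obtain ⟨t, rfl⟩ := Multiset.exists_cons_of_mem ha
    by_cases h3 : ∃ b ∈ t, cp hp b a < 0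
    · obtain ⟨b, hb, h3⟩ := h3
      obtain ⟨t, rfl⟩ := Multiset.exists_cons_of_mem hb
      simp only [Multiset.forall_mem_cons, Multiset.sum_cons, Multiset.card_cons] at h1 h2 hn
      rcases G.add_rt h1.2.1 h1.1 h3 with h4 | h4
      · exact ih _ (by rw [Multiset.card_cons]; omega) ((b + a) ::ₘ t) (Multiset.forall_mem_cons.2 ⟨h4, h1.2.2⟩)
          (by rw [Multiset.sum_cons, ← h2]; abel) rfl
      · exact ih _ (by omega) t h1.2.2 (by rw [← h2, ← add_assoc, add_comm a, h4, zero_add]) rfl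
    · push Not at h3
      have h4 := h a (h1 a ha)
      rw [← h2, Multiset.sum_cons, cp_add hp _ _ (h1 a ha), cp_self hp (h1 a ha), cp_sum t (h1 a ha)] at h4
      have h5 : 0 ≤ (t.map fun x => cp hp x a).sum := Multiset.sum_nonneg (by simpa using h3)
      omega

theorem fin_rt : {a | RT hp a}.Finite :=
  ((Set.finite_lt_nat T.n).image (T.vec l)).subset fun a ha => G.surj a ha

/-- **a root has order at least `q - 1`** -/
theorem ordGe_pred {g : LL l ≃+ LL l} (hg : GW hp g) (q : ℕ) {b : LL l} (hb : RT hp b) : OrdGe q g b (q - 1) := by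
  intro j y hj e
  obtain ⟨c, hc, h1⟩ := Set.exists_max_image {a | RT hp a} (fun a => cp hp y a) G.fin_rt ⟨b, hb⟩
  have h2 : 2 ≤ cp hp y c := by
    by_contra h2
    obtain rfl : y = 0 := G.eq_zero fun a ha => by have := h1 a ha; omega
    have h3 := congrArg (fun x => cp hp x b) e
    rw [smul_zero, map_zero, sub_zero, ← natCast_zsmul, cp_smul hp _ _ hb, cp_self hp hb, ← zero_smul ℤ (0 : LL l),
      cp_smul hp _ _ hb] at h3
    omega
  obtain ⟨d, hd, rfl⟩ := gw_surj hg hc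
  have h3 := congrArg (fun x => cp hp x (g d)) e
  rw [sub_eq_add_neg, cp_add hp _ _ hc, cp_neg hp _ hc, gw_cp hg y hd, ← natCast_zsmul, ← natCast_zsmul,
    cp_smul hp _ _ hc, cp_smul hp _ _ hc] at h3
  have h4 := G.cp_le hb hc
  have h5 := h1 d hd
  rcases Nat.eq_zero_or_pos q with rfl | hq
  · omega
  have h6 : (0 : ℤ) ≤ (q : ℤ) - 1 := by omega
  have h7 : (j : ℤ) * cp hp b (g d) ≤ j * 2 := mul_le_mul_of_nonneg_left h4 (Int.natCast_nonneg j)
  have h8 := mul_le_mul_of_nonneg_left h2 h6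
  zify [hq]
  nlinarith

theorem card_rt : G.fin_rt.toFinset.card = T.n := by
  rw [← Set.ncard_eq_toFinset_card _ G.fin_rt]
  have h := G.ncard_eq (P := fun _ => True) (f := fun _ => true) fun _ _ => by simp
  simpa [cL_eq] using h

/-- averaging over the torus -/
theorem elA_avg {g : LL l ≃+ LL l} (hg : GW hp g) (R : Set (LL l)) {q k : ℕ} (h : dM l * T.n < (k + 1) * (q - 1)) :
    ElA hp q g R (dM l * (q ^ k * (q + 1) ^ l)) := by
  refine ⟨1, 1, 1, q - 1, k, G.fin_rt.toFinset, fun _ => 1, fun _ => q - 1, fun _ => dM l,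
    fun b hb => by rwa [ac_one], fun x => by rw [ac_one, ac_one], Or.inl (one_pow _).symm, one_pow _,
    Nat.coprime_one_left _, fun b hb => by simpa using hb, fun x hx => ⟨x, by simpa using hx, 0, by rw [pow_zero, ac_one]⟩,
    fun b hb => Or.inr ⟨by rw [one_pow, ac_one], (mul_comm _ _).le, ?_⟩, ?_, Or.inl (G.nm ▸ le_rfl)⟩
  · rw [Finset.sum_range_one, pow_zero, ac_one]
    exact G.ordGe_pred hg q (by simpa using hb)
  · rwa [Finset.sum_const, G.card_rt, smul_eq_mul, mul_comm]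

end Gs

/-- the numerical conditions of `cert_avg` -/
def avg (l n s ω k q₁ : ℕ) : Bool :=
  decide (dM l * n < (k + 1) * (q₁ - 1) ∧ 3 * k + s + 4 * l ≤ nP l + (degs l).sum ∧ 0 < l ∧
    dM l ^ 4 * ω * (q₁ ^ (3 * k + s) * (q₁ + 1) ^ (4 * l)) ≤ ordU l q₁)

/-- **the certificate for all `q ≥ q₁`** -/
theorem Gs.cert_avg (G : Gs hp T) {g : LL l ≃+ LL l} (hg : GW hp g) {R : Set (LL l)} {ω s k q₁ q : ℕ} (hω : Om hp R ω)
    (hs : R.ncard = s) (h : avg l T.n s ω k q₁ = true) (hq : q₁ ≤ q) : Cert hp q g R := by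
  obtain ⟨h1, h2, h3, h4⟩ := of_decide_eq_true h
  have h0 : 2 ≤ q₁ := by
    by_contra h0
    rw [show q₁ - 1 = 0 by omega] at h1
    omega
  refine ⟨_, _, ⟨ω, hω, Or.inl le_rfl⟩, Or.inr (Or.inl (G.elA_avg hg R (k := k)
    (h1.trans_le (Nat.mul_le_mul_left _ (Nat.sub_le_sub_right hq 1))))), ?_, ?_⟩
  · have a1 := dM_pos l
    have a2 : 0 < q ^ k := pow_pos (by omega) _
    have a3 : (q + 1) ^ 1 ≤ (q + 1) ^ l := Nat.pow_le_pow_right (by omega) h3
    have a4 := Nat.mul_le_mul a1 (Nat.mul_le_mul a2 a3)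
    rw [pow_one] at a4
    omega
  · refine le_of_eq_of_le ?_ (SB.Exc.NT.scale (by omega) hq h2 h4)
    rw [hs]
    ring

end Cfsg.Agent.N2.Ex.Al.Ck
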