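import Cfsg.Agent.N2.Ex.Al.Crt

/-!
# N2, subgroups of maximal rank: classification of the sets of roots closed under reflections (helper40)

* `Gt.cls_of` : every such set is conjugate to a row of a checked table;
* `lm_move` : transport of `LM`;
* `Gs.kil`, `Gs.lng`, `Gt.spn` : rows which do not occur.
-/

set_option autoImplicit false
set_option linter.unusedSectionVars false

namespace Cfsg.Agent.N2.Ex.Al.Ck

open CoxeterSystem Cfsg Cfsg.Lie Cfsg.Lie.ChevalleyDatum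
open Cfsg.Agent.ChevalleyStructure Cfsg.Agent.ChevalleyStructure.CoxeterGeom Cfsg.Agent.ChevalleyStructure.CoxeterGeomTypes
  Cfsg.Agent.Tits.Roots Cfsg.Agent.Nodes Cfsg.Agent.Nodes.BNOf Cfsg.Agent.Nodes.RGDChev Cfsg.Agent.Nodes.Coroot
  Cfsg.Agent.Nodes.SubComb
open Cfsg.Agent.BpExc.Fr Cfsg.Agent.DS.Ex Cfsg.Agent.DS.Nt
open Cfsg.Agent.DS.Ex.Tor (RT)

/-- a row: the mask, the base, the extensions -/
structure Rw where
  m : ℕ
  Δ : List ℕ
  X : List (ℕ × ℕ × List ℕ)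

/-- the row number `j` -/
def rw0 (L : List Rw) (j : ℕ) : Rw := L.getD j ⟨0, [], []⟩

/-- a larger invariant set of roots -/
structure Ki where
  qm : ℕ
  n₁ : ℕ
  n₂ : ℕ
  N : ℕ
  f : List ℕ
  β : ℕ

namespace Tb

variable (T : Tb) (l : ℕ)

/-- refines the height -/
def key (r : ℕ) : ℕ := cond (Nat.blt (Nat.mul 2 r) T.n) (Nat.add T.n r) (Nat.sub T.n r)

/-- the mask is generated by `Δ` -/
noncomputable def rch (m : ℕ) (Δ : List ℕ) : Bool :=
  and (lA (fun d => and (Nat.blt d T.n) (m.testBit d)) Δ)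
    (aL (fun r => or (not (m.testBit r)) (or (and (Nat.blt (T.ng r) r) (m.testBit (T.ng r)))
      (lE (fun d => or (Nat.beq d r) (and (Nat.blt (T.f d r) r) (m.testBit (T.f d r)))) Δ))) T.n)

/-- the check of a row -/
noncomputable def row (L : List Rw) (j : ℕ) : Bool :=
  and (T.rch (rw0 L j).m (rw0 L j).Δ)
    (aL (fun b => or ((rw0 L j).m.testBit b) (or
      (lE (fun d => and (Nat.blt (T.key (T.f d b)) (T.key b)) (not ((rw0 L j).m.testBit (T.f d b)))) (rw0 L j).Δ)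
      (lE (fun e => and (Nat.beq e.1 b) (and (Nat.blt j e.2.1) (and (Nat.blt e.2.1 L.length) (and (T.lt e.2.2)
        (lA (fun d => or ((rw0 L j).m.testBit (T.aw e.2.2 d)) (Nat.beq (T.aw e.2.2 d) b)) (rw0 L e.2.1).Δ)))))
        (rw0 L j).X))) T.n)

/-- the number of roots of the mask orthogonal to `b` -/
noncomputable def cnt (m b : ℕ) : ℕ := cL (fun a => and (m.testBit a) (Nat.beq (T.c a b) 2)) T.n

/-- a functional which does not vanish modulo `N` -/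
noncomputable def nz (N : ℕ) (f : List ℕ) : Bool :=
  and (Nat.blt 0 N) (and (Nat.beq f.length l) (eL (fun i => Nat.blt 0 (T.ev N f i)) l))

/-- the check of a larger invariant set -/
noncomputable def kil (m : ℕ) (k : Ki) : Bool :=
  T.nz l k.N k.f && Nat.blt k.β T.n && !m.testBit k.β && Nat.beq (T.cnt k.qm k.β) k.n₂ &&
    (Nat.beq k.qm m || aL (fun a => k.qm.testBit a == (m.testBit a && Nat.beq (T.cnt m a) k.n₁)) T.n) &&
    aL (fun b => Nat.beq (T.ev k.N k.f b) 0 || (!m.testBit b && !Nat.beq (T.cnt k.qm b) k.n₂)) T.n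

/-- the long roots enlarge the mask -/
noncomputable def lng (m N : ℕ) (f : List ℕ) (β : ℕ) : Bool :=
  T.nz l N f && Nat.blt β T.n && !m.testBit β && aL (fun b => Nat.beq b β || Nat.ble (T.c b β) 3) T.n &&
    aL (fun a => Nat.beq (T.ev N f a) 0 || (!m.testBit a && eL (fun b => !Nat.beq b a && Nat.beq (T.c b a) 4) T.n)) T.n

/-- the mask spans the lattice -/
noncomputable def spn (m : ℕ) (L : List (ℕ × ℕ)) : Bool :=
  aL (fun i => m.testBit i || lE (fun e => Nat.blt e.1 T.n && Nat.blt e.2 T.n && m.testBit e.1 && m.testBit e.2 &&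
    decide (T.vec l i = T.vec l e.1 + T.vec l e.2)) L) l

/-- the mask does not span the lattice, or contains the short roots -/
noncomputable def shs (m : ℕ) (e : ℕ × List ℕ) : Bool :=
  (T.nz l e.1 e.2 && aL (fun a => !m.testBit a || Nat.beq (T.ev e.1 e.2 a) 0) T.n) ||
    aL (fun a => m.testBit a || aL (fun b => Nat.beq b a || !Nat.beq (T.c b a) 4) T.n) T.n

end Tb

variable {D : ChevalleyDatum} {l : ℕ} {M : CoxeterMatrix (Fin l)} {hp : IsType D l M} {T : Tb}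

theorem sy_image {R : Set (LL l)} (h : Sy hp R) (v : M.Group) : Sy hp (ac hp v '' R) :=
  ⟨by rintro _ ⟨a, ha, rfl⟩; exact rt_ac hp v (h.root a ha), by
    rintro _ ⟨a, ha, rfl⟩; exact ⟨-a, h.neg a ha, map_neg _ _⟩⟩

theorem rc_image {R : Set (LL l)} (h : Sy hp R) (h' : Rc hp R) (v : M.Group) : Rc hp (ac hp v '' R) := by
  rintro _ ⟨a, ha, rfl⟩ _ ⟨b, hb, rfl⟩
  exact ⟨_, h' a ha b hb, by rw [cp_ac hp v b (h.root a ha), map_sub, map_zsmul]⟩

theorem pp_image {R : Set (LL l)} (h : Pp hp R) (v : M.Group) : Pp hp (ac hp v '' R) := by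
  obtain ⟨a, h1, h2⟩ := h
  refine ⟨ac hp v a, rt_ac hp v h1, fun k => h2 ?_⟩
  have := (AddSubgroup.closure_le ((AddSubgroup.closure R).comap (ac hp v⁻¹).toAddMonoidHom)).2 (by
    rintro _ ⟨x, hx, rfl⟩
    show ac hp v⁻¹ (ac hp v x) ∈ AddSubgroup.closure R
    rw [ac_inv]
    exact AddSubgroup.subset_closure hx : ac hp v '' R ⊆ _) k
  exact ac_inv hp v a ▸ this

theorem image_inv (v : M.Group) (R : Set (LL l)) : ac hp v⁻¹ '' (ac hp v '' R) = R := by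
  simp only [Set.image_image, ac_inv, Set.image_id']

theorem image_inv' (v : M.Group) (R : Set (LL l)) : ac hp v '' (ac hp v⁻¹ '' R) = R := by
  simp only [Set.image_image, ac_inv', Set.image_id']

variable (hp) in
/-- conjugation -/
noncomputable def cj (v : M.Group) (g : LL l ≃+ LL l) : LL l ≃+ LL l := (ac hp v⁻¹).trans (g.trans (ac hp v))

theorem cj_apply (v : M.Group) (g : LL l ≃+ LL l) (x : LL l) : cj hp v g x = ac hp v (g (ac hp v⁻¹ x)) := rfl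

theorem mv_cj (v : M.Group) (g : LL l ≃+ LL l) (R : Set (LL l)) : Mv hp g R (cj hp v g) (ac hp v '' R) :=
  ⟨v, 1, rfl, one_mem _, fun x => by rw [cj_apply, ac_inv, ac_one]⟩

theorem ok_cj {o : Prop} {h : LL l → LL l} (k : Ok hp o h) (v : M.Group) : Ok hp o fun x => ac hp v (h (ac hp v⁻¹ x)) := by
  have b : ∀ w : M.Group, Set.BijOn (ac hp w) {a | RT hp a} {a | RT hp a} := fun w =>
    ⟨fun a ha => rt_ac hp w ha, (ac hp w).injective.injOn, fun a ha => ⟨_, rt_ac hp w⁻¹ ha, ac_inv' hp w a⟩⟩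
  refine ⟨(b v).comp (k.bij.comp (b v⁻¹)), fun a ha => by rw [map_neg, k.neg _ (rt_ac hp _ ha), map_neg],
    fun a c ha hc => ?_, k.lin.imp_right fun ⟨θ, hθ⟩ => ⟨cj hp v θ, fun a ha => by rw [hθ _ (rt_ac hp _ ha), cj_apply]⟩⟩
  rw [cp_ac hp v _ (k.bij.mapsTo (rt_ac hp _ hc)), k.ort _ _ (rt_ac hp _ ha) (rt_ac hp _ hc), cp_ac hp _ _ hc]

/-- **transport of `LM`** -/
theorem lm_move {o : Prop} {g : LL l ≃+ LL l} {R : Set (LL l)} (h : LM hp o g R) (v : M.Group) :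
    LM hp o (cj hp v g) (ac hp v '' R) := by
  refine ⟨gw_mul h.gw v v⁻¹ fun _ => rfl, sy_image h.sy v, pp_image h.pp v, rc_image h.sy h.rc v, ?_,
    fun R' a1 a2 a3 a4 => ?_⟩
  · rintro _ ⟨a, ha, rfl⟩
    exact ⟨_, h.inv a ha, by rw [cj_apply, ac_inv]⟩
  · rw [← image_inv' (hp := hp) v R']
    refine Set.image_mono (h.kill _ (image_inv (hp := hp) v R ▸ Set.image_mono a1) (sy_image a2 _) (pp_image a3 _)
      fun k b1 b2 b3 => ?_)
    rintro _ ⟨x, hx, rfl⟩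
    refine ⟨_, a4 _ (ok_cj b1 v) ?_ (fun e a ha => ?_) hx, ac_inv hp v _⟩
    · rintro _ ⟨y, hy, rfl⟩
      exact ⟨_, b2 hy, by simp only [ac_inv]⟩
    · rw [cj_apply, cj_apply, ac_inv, ac_inv, b3 (Set.image_eq_empty.1 e) _ (rt_ac hp _ ha)]

variable (hp) in
/-- the number of roots of `R` orthogonal to `b` -/
noncomputable def ct (R : Set (LL l)) (b : LL l) : ℕ := {a | RT hp a ∧ a ∈ R ∧ cp hp a b = 0}.ncard

theorem ct_neg (R : Set (LL l)) {b : LL l} (hb : RT hp b) : ct hp R (-b) = ct hp R b := by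
  simp only [ct, cp_neg' hp _ hb, neg_eq_zero]

theorem ct_map {o : Prop} {h : LL l → LL l} (k : Ok hp o h) {R : Set (LL l)} (hR : ∀ a ∈ R, RT hp a) (hf : R.Finite)
    (hm : Set.MapsTo h R R) {b : LL l} (hb : RT hp b) : ct hp R (h b) = ct hp R b := by
  have h1 := (hf.injOn_iff_bijOn_of_mapsTo hm).1 (k.bij.injOn.mono hR)
  rw [ct, ct, ← Set.InjOn.ncard_image (s := {a | RT hp a ∧ a ∈ R ∧ cp hp a b = 0}) (k.bij.injOn.mono fun a ha => ha.1)]
  refine congrArg Set.ncard (Set.ext fun x => ⟨fun ⟨_, h2, h3⟩ => ?_, ?_⟩)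
  · obtain ⟨y, hy, rfl⟩ := h1.surjOn h2
    exact ⟨y, ⟨hR y hy, hy, (k.ort _ _ (hR y hy) hb).1 h3⟩, rfl⟩
  · rintro ⟨y, ⟨h2, h3, h4⟩, rfl⟩
    exact ⟨k.bij.mapsTo h2, hm h3, (k.ort _ _ h2 hb).2 h4⟩

namespace Gt

variable (G : Gt hp T)
include G

theorem ff {s r : ℕ} (hs : s < T.n) (hr : r < T.n) :
    T.vec l r = T.vec l (T.f s r) - cp hp (T.vec l (T.f s r)) (T.vec l s) • T.vec l s := by
  rw [← ac_rw hp (G.root s hs), G.fe s hs r hr, rw_rw hp (G.root s hs)]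

theorem rch_lt {m : ℕ} {Δ : List ℕ} (h : T.rch m Δ = true) : ∀ d ∈ Δ, d < T.n ∧ m.testBit d = true := by
  simp only [Tb.rch, Bool.and_eq_true, lA_iff, Nat.blt_eq] at h
  exact h.1

/-- the base generates the mask -/
theorem rch {m : ℕ} {Δ : List ℕ} (h : T.rch m Δ = true) {S : Set (LL l)} (h1 : Sy hp S) (h2 : Rc hp S) (v : M.Group)
    (hv : ∀ d ∈ Δ, ac hp v (T.vec l d) ∈ S) : ac hp v '' St T l m ⊆ S := by
  simp only [Tb.rch, Bool.and_eq_true, Bool.or_eq_true, lA_iff, lE_iff, aL_iff, Nat.blt_eq, Nat.beq_eq, Bool.not_eq_true',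
    ← Bool.not_eq_true] at h
  rintro _ ⟨_, ⟨r, hr, hm, rfl⟩, rfl⟩
  induction r using Nat.strong_induction_on with
  | _ r ih =>
    rcases (h.2 r hr).resolve_left (not_not.2 hm) with ⟨a1, a2⟩ | ⟨d, hd, rfl | ⟨a1, a2⟩⟩
    · have := h1.neg _ (ih _ a1 (a1.trans hr) a2)
      rwa [(G.ng hr).2, map_neg, neg_neg] at this
    · exact hv d hd
    · rw [G.ff (h.1 d hd).1 hr, map_sub, map_zsmul, ← cp_ac hp v _ (G.root d (h.1 d hd).1)]
      exact h2 _ (hv d hd) _ (ih _ a1 (a1.trans hr) a2)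

/-- **the classification** -/
theorem cls_of {L : List Rw} (hL : ∀ j < L.length, T.row L j = true) (h0 : 0 < L.length) (h0' : (rw0 L 0).m = 0)
    {S : Set (LL l)} (h1 : Sy hp S) (h2 : Rc hp S) : ∃ j < L.length, ∃ v : M.Group, ac hp v '' S = St T l (rw0 L j).m := by
  classical
  obtain ⟨j, ⟨hj, v, hv⟩, hmax⟩ := Set.exists_max_image {j | j < L.length ∧ ∃ v : M.Group, ac hp v '' St T l (rw0 L j).m ⊆ S}
    id ((Set.finite_lt_nat _).subset fun _ h => h.1) ⟨0, h0, 1, by rw [h0', St_zero, Set.image_empty]; exact Set.empty_subset _⟩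
  have s1 := sy_image h1 v⁻¹
  have s2 := rc_image h1 h2 v⁻¹
  have s3 : St T l (rw0 L j).m ⊆ ac hp v⁻¹ '' S := image_inv (hp := hp) v (St T l (rw0 L j).m) ▸ Set.image_mono hv
  refine ⟨j, hj, v⁻¹, Set.Subset.antisymm (fun a ha => ?_) s3⟩
  obtain ⟨b, hb, rfl⟩ := G.surj a (s1.root a ha)
  have h := hL j hj
  simp only [Tb.row, Bool.and_eq_true, Bool.or_eq_true, lA_iff, lE_iff, aL_iff, Nat.blt_eq, Nat.beq_eq, Bool.not_eq_true',
    ← Bool.not_eq_true] at h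
  have hΔ := G.rch_lt h.1
  rw [G.mem_St hb]
  induction hk : T.key b using Nat.strong_induction_on generalizing b with
  | _ k ih =>
    rcases h.2 b hb with a1 | ⟨d, hd, a1, a2⟩ | ⟨e, -, rfl, a1, a2, a3, a4⟩
    · exact a1
    · refine absurd (ih _ (hk ▸ a1) _ (G.flt d (hΔ d hd).1 b hb) ?_ rfl) a2
      rw [G.fe d (hΔ d hd).1 b hb, ac_rw hp (G.root d (hΔ d hd).1)]
      exact s2 _ (s3 ⟨d, (hΔ d hd).1, (hΔ d hd).2, rfl⟩) _ ha
    · have h' := hL _ a2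
      rw [Tb.row, Bool.and_eq_true] at h'
      have k1 := G.rch h'.1 s1 s2 (wd hp T e.2.2) fun d hd => by
        have k2 := G.aw a3 (G.rch_lt h'.1 d hd).1
        rw [← k2.2]
        rcases a4 d hd with k3 | k3
        · exact s3 ⟨_, k2.1, k3, rfl⟩
        · rwa [k3]
      refine absurd (hmax e.2.1 ⟨a2, v * wd hp T e.2.2, ?_⟩) (not_le.2 a1)
      rw [← image_inv' (hp := hp) v S]
      rintro _ ⟨x, hx, rfl⟩
      exact ⟨_, k1 ⟨x, hx, rfl⟩, (ac_mul hp _ _ _).symm⟩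

theorem cnt (m : ℕ) {b : ℕ} (hb : b < T.n) : ct hp (St T l m) (T.vec l b) = T.cnt m b :=
  G.ncard_eq fun r hr => by
    rw [G.mem_St hr, G.cpe r hr b hb, Bool.and_eq_true, Nat.beq_eq]
    exact and_congr_right' (by omega)

theorem pp_nz {N : ℕ} {f : List ℕ} (h : T.nz l N f = true) {R : Set (LL l)} (hR : ∀ a ∈ R, RT hp a)
    (h1 : ∀ r < T.n, T.vec l r ∈ R → T.ev N f r = 0) : Pp hp R := by
  simp only [Tb.nz, Bool.and_eq_true, eL_iff, Nat.blt_eq, Nat.beq_eq] at h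
  obtain ⟨a1, a2, i, hi, a3⟩ := h
  refine pp_of (N := N) (f := fn l f) (i := ⟨i, hi⟩) (fun a ha => ?_) ?_
  · obtain ⟨r, hr, rfl⟩ := G.surj a (hR a ha)
    exact (dvd_iff_ev a1.ne' a2 r).2 (h1 r hr ha)
  · rw [← G.sim, dvd_iff_ev a1.ne' a2]
    exact a3.ne'

theorem fin_St (m : ℕ) : (St T l m).Finite :=
  ((Set.finite_lt_nat T.n).image (T.vec l)).subset fun _ ⟨r, h, _, e⟩ => ⟨r, h, e⟩

/-- **rows with a larger invariant set** -/
theorem kil {m : ℕ} {k : Ki} (h : T.kil l m k = true) {o : Prop} {g : LL l ≃+ LL l} : ¬ LM hp o g (St T l m) := fun H => by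
  simp only [Tb.kil, Bool.and_eq_true, Bool.or_eq_true, aL_iff, Nat.blt_eq, Nat.beq_eq, Bool.not_eq_true', beq_iff_eq,
    ← Bool.not_eq_true] at h
  obtain ⟨⟨⟨⟨⟨a1, a2⟩, a3⟩, a4⟩, a5⟩, a6⟩ := h
  have k1 : ∀ a ∈ St T l m ∪ {b | RT hp b ∧ ct hp (St T l k.qm) b = k.n₂}, RT hp a := fun a ha =>
    ha.elim (G.St_root a) fun h => h.1
  refine a3 ((G.mem_St a2).1 (H.kill _ Set.subset_union_left ⟨k1, fun a ha => ?_⟩ (G.pp_nz a1 k1 fun r hr h => ?_)
    (fun h b1 b2 _ => ?_) (Or.inr ⟨G.root _ a2, (G.cnt _ a2).trans a4⟩)))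
  · exact ha.imp (H.sy.neg a) fun h => ⟨h.1.neg, (ct_neg _ h.1).trans h.2⟩
  · exact (a6 r hr).resolve_right fun h' => h.elim (fun h => h'.1 ((G.mem_St hr).1 h))
      fun h => h'.2 ((G.cnt _ hr).symm.trans h.2)
  · have k2 : Set.MapsTo h (St T l k.qm) (St T l k.qm) := by
      rcases a5 with a5 | a5
      · rwa [a5]
      have k3 : ∀ a, RT hp a → (a ∈ St T l k.qm ↔ a ∈ St T l m ∧ ct hp (St T l m) a = k.n₁) := fun a ha => by
        obtain ⟨r, hr, rfl⟩ := G.surj a ha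
        rw [G.mem_St hr, G.mem_St hr, a5 r hr, G.cnt m hr, Bool.and_eq_true, Nat.beq_eq]
      intro a ha
      have k4 := G.St_root a ha
      rw [k3 a k4] at ha
      exact (k3 _ (b1.bij.mapsTo k4)).2 ⟨b2 ha.1, (ct_map b1 G.St_root (G.fin_St _) b2 k4).trans ha.2⟩
    exact fun a ha => ha.imp (fun ha => b2 ha) fun ha =>
      ⟨b1.bij.mapsTo ha.1, (ct_map b1 G.St_root (G.fin_St _) k2 ha.1).trans ha.2⟩

/-- **rows which span the lattice** -/
theorem spn {m : ℕ} {L : List (ℕ × ℕ)} (h : T.spn l m L = true) : ¬ Pp hp (St T l m) := by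
  simp only [Tb.spn, Bool.and_eq_true, Bool.or_eq_true, aL_iff, lE_iff, Nat.blt_eq, decide_eq_true_eq] at h
  rintro ⟨a, -, ha⟩
  refine ha ?_
  rw [← Finset.univ_sum_single a]
  refine sum_mem fun i _ => ?_
  rw [show (Pi.single i (a i) : LL l) = a i • sr i by rw [sr, ← Pi.single_smul, smul_eq_mul, mul_one], ← G.sim]
  refine zsmul_mem ?_ _
  rcases h i i.2 with h | ⟨e, -, ⟨⟨⟨a1, a2⟩, a3⟩, a4⟩, a5⟩
  · exact AddSubgroup.subset_closure ⟨i, G.lt_n i, h, rfl⟩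
  · rw [a5]
    exact add_mem (AddSubgroup.subset_closure ⟨_, a1, a3, rfl⟩) (AddSubgroup.subset_closure ⟨_, a2, a4, rfl⟩)

theorem shs {m : ℕ} {e : ℕ × List ℕ} (h : T.shs l m e = true) (h1 : ¬ Pp hp (St T l m)) {a : LL l} (ha : RT hp a)
    (h2 : ∃ b, RT hp b ∧ b ≠ a ∧ cp hp b a = 2) : a ∈ St T l m := by
  simp only [Tb.shs, Bool.and_eq_true, Bool.or_eq_true, aL_iff, Nat.beq_eq, Bool.not_eq_true', ← Bool.not_eq_true] at h
  rcases h with ⟨a1, a2⟩ | h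
  · exact absurd (G.pp_nz a1 G.St_root fun r hr h => (a2 r hr).resolve_left (not_not.2 ((G.mem_St hr).1 h))) h1
  obtain ⟨b, b1, b2, b3⟩ := h2
  obtain ⟨r, hr, rfl⟩ := G.surj a ha
  obtain ⟨s, hs, rfl⟩ := G.surj b b1
  rw [G.cpe s hs r hr] at b3
  exact (G.mem_St hr).2 ((h r hr).resolve_right fun h => (h s hs).elim (fun e => b2 (e ▸ rfl)) fun e => e (by omega))

end Gt

/-- **rows enlarged by the long roots** -/
theorem Gs.lng (G : Gs hp T) {m N : ℕ} {f : List ℕ} {β : ℕ} (h : T.lng l m N f β = true) {o : Prop} {g : LL l ≃+ LL l}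
    (H : LM hp o g (St T l m)) : o := by
  by_contra ho
  simp only [Tb.lng, Bool.and_eq_true, Bool.or_eq_true, aL_iff, eL_iff, Nat.blt_eq, Nat.ble_eq, Nat.beq_eq,
    Bool.not_eq_true', ← Bool.not_eq_true] at h
  obtain ⟨⟨⟨⟨a1, a2⟩, a3⟩, a4⟩, a5⟩ := h
  have k1 : ∀ a ∈ St T l m ∪ {a | RT hp a ∧ ∀ b, RT hp b → RT hp (a + a - b) → b = a}, RT hp a := fun a ha =>
    ha.elim (G.St_root a) fun h => h.1
  refine a3 ((G.mem_St a2).1 (H.kill _ Set.subset_union_left ⟨k1, fun a ha => ?_⟩ (G.pp_nz a1 k1 fun r hr h => ?_)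
    (fun h b1 b2 _ a ha => ?_) (Or.inr ⟨G.root _ a2, fun b b1 b2 => ?_⟩)))
  · refine ha.imp (H.sy.neg a) fun h => ⟨h.1.neg, fun b b1 b2 => neg_eq_iff_eq_neg.1 (h.2 _ b1.neg ?_)⟩
    exact (show -(-a + -a - b) = a + a - -b by abel) ▸ b2.neg
  · refine (a5 r hr).resolve_right fun ⟨c1, s, hs, c2, c3⟩ => h.elim (fun h => c1 ((G.mem_St hr).1 h)) fun h => ?_
    refine c2 (G.inj s hs r hr (h.2 _ (G.root s hs) ?_))
    have c4 := (rt_ac hp (rw' hp (T.vec l r)) (G.root s hs)).neg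
    rw [ac_rw hp h.1, G.cpe s hs r hr, c3] at c4
    exact (show -(T.vec l s - (((4 : ℕ) : ℤ) - 2) • T.vec l r) = T.vec l r + T.vec l r - T.vec l s by
      push_cast; module) ▸ c4
  · refine ha.imp (fun ha => b2 ha) fun ha => ⟨b1.bij.mapsTo ha.1, fun b c1 c2 => ?_⟩
    obtain ⟨θ, hθ⟩ := b1.lin.resolve_left ho
    obtain ⟨b', d1, rfl⟩ := b1.bij.surjOn c1
    obtain ⟨c, d2, d3⟩ := b1.bij.surjOn c2
    rw [hθ a ha.1, hθ b' d1, hθ c d2, ← map_add, ← map_sub] at d3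
    rw [ha.2 b' d1 (θ.injective d3 ▸ d2)]
  · obtain ⟨s, hs, rfl⟩ := G.surj b b1
    have c1 := G.cp_le b2 (G.root _ a2)
    rw [sub_eq_add_neg, cp_add hp _ _ (G.root _ a2), cp_add hp _ _ (G.root _ a2), cp_neg hp _ (G.root _ a2),
      cp_self hp (G.root _ a2), G.cpe s hs β a2] at c1
    rw [(a4 s hs).resolve_right (by omega)]

end Cfsg.Agent.N2.Ex.Al.Ck
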