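import Cfsg.Agent.N2.Ex.Al.RedA
import Cfsg.Agent.SB.Exc.Max.Inst
import Cfsg.Agent.H123.ExcComb

/-!
# N2 (S3519), box [CO]: the context of a frame (helper94)

* `lift` : the lifts normalise the frame up to an inner automorphism;
* `cmt_mem` : commutators lie in a normal subgroup of index at most three;
* `boxCo`.
-/

set_option autoImplicit false
set_option linter.unusedSectionVars false

namespace Cfsg.Agent.N2.Ex.Al

open CoxeterSystem Cfsg Cfsg.Lie Cfsg.Lie.ChevalleyDatum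
open Cfsg.Agent.ChevalleyStructure Cfsg.Agent.ChevalleyStructure.CoxeterGeom Cfsg.Agent.Tits.Roots Cfsg.Agent.Nodes
  Cfsg.Agent.Nodes.BNOf Cfsg.Agent.Nodes.RGDChev Cfsg.Agent.Nodes.Coroot
open Cfsg.Agent.KFacts.RgdChevCoord Cfsg.Agent.BpExc.Fr Cfsg.Agent.BpExc.LangFr Cfsg.Agent.BpExc.Zc
open Cfsg.Agent.H469.Exc Cfsg.Agent.H129.TorusChar Cfsg.Agent.DS.Ex Cfsg.Agent.DS.Nt
open Cfsg.Agent.DS.Ex.Tor (RT FR)
open Cfsg.Agent.SB.Exc (XF nP dM ordU)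

namespace CoB

section Grp

/-- a normal subgroup of index at most three contains the commutators -/
theorem cmt_mem {Y : Type} [Group Y] {K Φ : Subgroup Y} [Finite Φ] (hK : K ≤ Φ)
    (hn : ∀ y ∈ Φ, ∀ x ∈ K, y * x * y⁻¹ ∈ K) (hc : Nat.card Φ ≤ 3 * Nat.card K) {y z : Y} (hy : y ∈ Φ) (hz : z ∈ Φ) :
    y * z * y⁻¹ * z⁻¹ ∈ K := by
  have hN : (K.subgroupOf Φ).Normal := ⟨fun x hx g => hn g g.2 x hx⟩
  have h1 : Nat.card (K.subgroupOf Φ) = Nat.card K := Nat.card_congr (Subgroup.subgroupOfEquivOfLe hK).toEquiv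
  have h2 := (K.subgroupOf Φ).card_eq_card_quotient_mul_card_subgroup
  have h3 : 0 < Nat.card (K.subgroupOf Φ) := Nat.card_pos
  have h4 : Nat.card (Φ ⧸ K.subgroupOf Φ) ≤ 3 := Nat.le_of_mul_le_mul_right (by rwa [← h2, h1]) h3
  have h5 : 0 < Nat.card (Φ ⧸ K.subgroupOf Φ) := Nat.card_pos
  have h6 : IsCyclic (Φ ⧸ K.subgroupOf Φ) := by
    by_cases h : Nat.card (Φ ⧸ K.subgroupOf Φ) = 2
    · have := Fact.mk Nat.prime_two
      exact isCyclic_of_prime_card h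
    · have := Fact.mk Nat.prime_three
      exact isCyclic_of_card_dvd_prime (p := 3) (by
        obtain h | h : Nat.card (Φ ⧸ K.subgroupOf Φ) = 1 ∨ Nat.card (Φ ⧸ K.subgroupOf Φ) = 3 := by omega
        all_goals rw [h]
        exact one_dvd _)
  have h7 : IsMulCommutative (Φ ⧸ K.subgroupOf Φ) := inferInstance
  have h8 : ((⟨y, hy⟩ * ⟨z, hz⟩ * ⟨y, hy⟩⁻¹ * ⟨z, hz⟩⁻¹ : Φ) : Φ ⧸ K.subgroupOf Φ) = 1 := by
    rw [QuotientGroup.mk_mul, QuotientGroup.mk_mul, QuotientGroup.mk_mul, QuotientGroup.mk_inv, QuotientGroup.mk_inv,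
      h7.1.1 (QuotientGroup.mk ⟨y, hy⟩), mul_inv_cancel_right, mul_inv_cancel]
  exact Subgroup.mem_subgroupOf.1 ((QuotientGroup.eq_one_iff _).1 h8)

theorem cK_range {T Y : Type} [Group T] [Group Y] {ι : T →* Y} (hι : Function.Injective ι) (a : T) :
    cK ι.range (ι a) = cn a := by
  rw [cK, cn, ← Subgroup.card_map_of_injective (K := Subgroup.centralizer {a}) hι]
  congr 2
  ext y
  constructor
  · rintro ⟨⟨x, rfl⟩, h⟩
    refine ⟨x, Subgroup.mem_centralizer_singleton_iff.2 (hι ?_), rfl⟩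
    rw [map_mul, map_mul]
    exact Subgroup.mem_centralizer_singleton_iff.1 h
  · rintro ⟨x, h, rfl⟩
    refine ⟨⟨x, rfl⟩, Subgroup.mem_centralizer_singleton_iff.2 ?_⟩
    rw [← map_mul, ← map_mul, Subgroup.mem_centralizer_singleton_iff.1 h]

theorem cn_equiv {T T' : Type} [Group T] [Group T'] (e : T ≃* T') (a : T) : cn (e a) = cn a := by
  rw [← cK_range (ι := e.toMonoidHom) e.injective, cK, MonoidHom.range_eq_top.2 e.surjective, top_inf_eq]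
  rfl

end Grp

section Dat

variable {p : ℕ} [Fact p.Prime] {k : Type} [Field k] [CharP k p] {Y : Type} [Group Y] {N : Type} [Fintype N]
  [DecidableEq N] {ρ : Y →* GL N k} {F : MulAut Y} {G : Subgroup Y} [IsAlgClosed k]

theorem ort_dat (E : DL.Datum p ρ F G) {a b : E.I → ℤ} (ha : E.Rt a) (hb : E.Rt b) :
    cpr E.cs E.h (E.g a) (E.g b) = 0 ↔ cpr E.cs E.h a b = 0 := by
  refine ⟨fun h => ?_, SB.Exc.Max.cpr_g_zero ha hb⟩
  have k : ∀ n, cpr E.cs E.h (E.g^[n + 1] a) (E.g^[n + 1] b) = 0 := fun n => by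
    induction n with
    | zero => exact h
    | succ n ih =>
      rw [Function.iterate_succ_apply', Function.iterate_succ_apply' (x := b)]
      exact SB.Exc.Max.cpr_g_zero (E.iterate_g_root _ ha) (E.iterate_g_root _ hb) ih
  obtain ⟨d, hd, h1⟩ := SB.Exc.Max.periodic ha
  obtain ⟨e, he, h2⟩ := SB.Exc.Max.periodic hb
  have h3 := k (d * e - 1)
  rwa [Nat.sub_add_cancel (Nat.mul_pos hd he), (h1.mul_const e).eq, (h2.const_mul d).eq] at h3

end Dat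

variable {D : ChevalleyDatum} {l : ℕ} {M : CoxeterMatrix (Fin l)} {hp : IsType D l M} {p : ℕ} [Fact p.Prime]

theorem of_fr (o : Prop) {β : MulAut (YY D p)} {g : LL l ≃+ LL l} (Φ : FR hp p β g) : WF hp p β g ∧ Ok hp o g := by
  have := finW hp
  refine ⟨⟨Φ.tor, Φ.map⟩, ⟨fun a ha => (Φ.root a).2 ha, g.injective.injOn, fun a ha => ⟨g.symm a, ?_, g.apply_symm_apply a⟩⟩,
    fun a _ => map_neg g a, fun a b ha hb => ?_, Or.inr ⟨g, fun _ _ => rfl⟩⟩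
  · exact (Φ.root _).1 (by rwa [g.apply_symm_apply])
  · rw [cp, H123.ExcComb.cpr_g Φ.root ha hb]

variable {q : ℕ} {G : Type} [Group G] [Finite G] {T H : Subgroup G} (F : XF hp p q T)

theorem lift (φ : F.L.Γ) :
    ∃ y h, WF hp p (MulAut.conj y * (φ : MulAut (YY D p))) h ∧ Ok hp (D = chevF4 ∧ p = 2) h := by
  by_cases ho : D = chevF4 ∧ p = 2
  · obtain ⟨n, hn, -⟩ := SB.Exc.Max.deg_pos F φ
    obtain ⟨ex, y, β, h, Φ, e⟩ := SB.Exc.Max.isFA_pos F hn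
    rw [SB.Exc.Max.coe_sg] at e
    obtain ⟨g, h1, -⟩ := F.m.fr.pow n
    obtain ⟨h2, h3⟩ := of_fr (D = chevF4 ∧ p = 2) h1.inv
    have h4 : WF hp p β h := ⟨Φ.dat.F_mem_T_iff, fun a ha => Φ.dat.F_mem_X_iff ha⟩
    have h5 : Ok hp (D = chevF4 ∧ p = 2) h :=
      ⟨Φ.dat.g_bijOn (A := {a | RT hp a}) (fun _ h => h) Φ.root, fun a ha => Φ.dat.g_neg ha,
        fun a b ha hb => ort_dat Φ.dat ha hb, Or.inl ho⟩
    refine ⟨y⁻¹, _, ?_, Red.ok_comp ho h5 h3⟩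
    have e' : MulAut.conj y⁻¹ * (φ : MulAut (YY D p)) = β * (F.m.σ ^ n)⁻¹ := by
      rw [eq_mul_inv_iff_mul_eq, mul_assoc, e, map_inv, inv_mul_cancel_left]
    rw [e']
    exact Red.wf_mul h4 h2 fun a ha => h3.bij.mapsTo ha
  · obtain ⟨y, g, Φ, -⟩ := F.L.sfr (fun h1 h2 => ho ⟨h1, h2⟩) φ φ.2
    exact ⟨y, g, of_fr _ Φ⟩

theorem dd_dvd : F.L.dd ∣ dM l := by
  rcases F.L.hdd with h | ⟨h1, h⟩ | ⟨h1, h⟩ <;> rw [h]
  · exact one_dvd _
  · rw [(typ_l hp).2.1 h1]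
    exact dvd_rfl
  · rw [(typ_l hp).2.2.1 h1]
    exact dvd_rfl

theorem card_range : Nat.card F.L.ι.range = Nat.card T := (Nat.card_congr (MonoidHom.ofInjective F.L.inj).toEquiv).symm

end CoB

open CoB in
/-- **[CO]** -/
theorem boxCo : BoxCo := by
  intro h0 D l M hp p _ tw f G _ _ T H F C
  have hS := C.cx.setup
  have he : F.m.e = f := Nat.pow_right_injective (Fact.out : p.Prime).two_le F.m.hq
  have hf : Finite (DL.fix F.L.σ) := F.L.fin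
  have hK : F.L.ι.range ≤ DL.fix F.L.σ := by
    rintro _ ⟨x, rfl⟩
    exact F.L.fix x
  have hF : IsFrob p f F.L.σ := by
    have h := F.m.frob
    rwa [he, ← F.hσ] at h
  refine ⟨⟨C.typ, F.m.he.trans_eq he, hF, ⟨1, F.m.g, ?_, F.gW⟩, hf, F.L.σ_mem_GH hS.normal hS.cent H,
    fun φ hφ => F.L.comm_σ φ (F.L.GH_le H hφ), hK, fun y hy => ?_, fun y z hy hz => cmt_mem hK ?_ ?_ hy hz,
    Subgroup.map_le_range _ _, ?_, fun N hN hN' => ?_, card_range F ▸ F.ord,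
    fun φ hφ => lift F ⟨φ, F.L.GH_le H hφ⟩, ?_⟩, ?_⟩
  · rw [map_one, one_mul, F.hσ]
    exact F.m.fr
  · obtain ⟨c, hc⟩ := dd_dvd F
    rw [hc, pow_mul]
    exact pow_mem (F.L.pow_dd y hy) c
  · rintro u hu _ ⟨x, rfl⟩
    exact F.L.norm u hu x
  · rw [card_range]
    exact F.idx.trans (Nat.mul_le_mul_right _ (by unfold dM; split_ifs <;> norm_num))
  · rintro _ ⟨x, hx, rfl⟩
    exact F.L.conj_mem_GH hS.normal hS.cent hx
  · rintro _ ⟨⟨x, rfl⟩, hx⟩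
    refine ι_mem_im.2 (le_of_inv hS (pb_le N) (fun e => hN' ?_) (fun a ha y hy => ?_) (coe_mem_pb.2 hx))
    · rintro _ ⟨x, rfl⟩
      exact coe_mem_pb.1 (e.ge x.2)
    · exact (Subgroup.mem_normalizer_iff.1 (norm_pb hS.normal (F.L.inv_iff.2 hN) ha) y).1 hy
  · rintro hD hq _ ⟨a, rfl⟩ t ht hd
    obtain ⟨-, K, _, _, _, ⟨-, h1, ⟨e⟩⟩ | ⟨-, h1, -⟩⟩ := C.iso
    · subst hD
      rw [cK_range F.L.inj, ← cn_equiv e]
      refine h0 K (h1.trans hq) (e a) t ht ?_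
      rwa [orderOf_injective _ F.L.inj, ← e.orderOf_eq] at hd
    · have h2 := ((typ_l hp).1 hD).symm.trans ((typ_l hp).2.1 h1)
      omega
  · rintro ⟨_, ⟨a, ha, rfl⟩, h⟩
    refine gd_of_cn ha (cK_range F.L.inj a).ge ?_
    rwa [card_range, im, Subgroup.card_map_of_injective F.L.inj, card_A] at h

end Cfsg.Agent.N2.Ex.Al
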