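import Cfsg.Agent.N2.Ex.Al.Avg

/-!
# N2, subgroups of maximal rank: checkers for the certificates (helper40)

`Tb.chkT`, `Tb.chkA`, `Tb.chkU` give `ElT`, `ElA`, `ElU` for `g = gE T G`; `Tb.tk` bounds `tord`; `Tb.chk` gives `Fin'`.
-/

set_option autoImplicit false
set_option linter.unusedSectionVars false

namespace Cfsg.Agent.N2.Ex.Al.Ck

open CoxeterSystem Cfsg Cfsg.Lie Cfsg.Lie.ChevalleyDatum
open Cfsg.Agent.ChevalleyStructure Cfsg.Agent.ChevalleyStructure.CoxeterGeom Cfsg.Agent.ChevalleyStructure.CoxeterGeomTypes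
  Cfsg.Agent.Tits.Roots Cfsg.Agent.Nodes Cfsg.Agent.Nodes.BNOf Cfsg.Agent.Nodes.RGDChev Cfsg.Agent.Nodes.Coroot
  Cfsg.Agent.Nodes.SubComb
open Cfsg.Agent.BpExc.Fr Cfsg.Agent.DS.Ex Cfsg.Agent.DS.Nt
open Cfsg.Agent.DS.Ex.Tor (RT)
open Cfsg.Agent.H931.KC (nmk)
open Cfsg.Agent.SB.Exc (nP dM ordU degs)
open Cfsg.Agent.N2.Ex.Cb (tord mat)

/-- bounded sum -/
noncomputable def sL (f : ℕ → ℕ) (n : ℕ) : ℕ := Nat.rec (motive := fun _ => ℕ) 0 (fun k ih => Nat.add (f k) ih) n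

theorem sL_eq (f : ℕ → ℕ) (n : ℕ) : sL f n = ∑ i ∈ Finset.range n, f i := by
  induction n with
  | zero => rfl
  | succ n ih =>
    show f n + sL f n = _
    rw [Finset.sum_range_succ, ih, add_comm]

/-- bounded existential quantifier -/
noncomputable def eL (f : ℕ → Bool) (n : ℕ) : Bool :=
  Nat.rec (motive := fun _ => Bool) false (fun k ih => or (f k) ih) n

theorem eL_iff {f : ℕ → Bool} {n : ℕ} : eL f n = true ↔ ∃ i < n, f i = true := by
  induction n with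
  | zero => exact ⟨fun h => absurd h Bool.false_ne_true, fun ⟨_, h, _⟩ => absurd h (Nat.not_lt_zero _)⟩
  | succ n ih =>
    show or (f n) (eL f n) = true ↔ _
    rw [Bool.or_eq_true, ih, Nat.exists_lt_succ_right, or_comm]

/-- an element of the torus -/
structure CT where
  N : ℕ
  f : List ℕ
  f₀ : List ℕ
  f₁ : List ℕ
  u : List ℕ
  md : ℕ
  B : ℕ
  L : List (List ℕ × List (List ℤ))

/-- the weight of an orbit -/
structure En where
  b : ℕ
  a : ℕ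
  m : ℕ
  K : ℕ
  N : ℕ
  f : List ℕ

/-- averaging over a coset -/
structure CA where
  u : List ℕ
  fl : Bool
  n : ℕ
  L : ℕ
  k : ℕ
  J : List En

/-- a lift -/
structure CU where
  u : List ℕ
  r : ℕ
  e : ℕ × ℕ

/-- a certificate -/
structure Ce where
  c : ℕ
  w : List ℕ
  B : ℕ
  P : List (List ℤ)
  x : CT ⊕ CA ⊕ CU

/-- a lower triangular matrix -/
def lo (l : ℕ) (P : List (List ℤ)) : Matrix (Fin l) (Fin l) ℤ := fun i j => if j ≤ i then (P.getD i []).getD j 0 else 0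

/-- an upper unitriangular matrix -/
def up (l : ℕ) (P : List (List ℤ)) : Matrix (Fin l) (Fin l) ℤ :=
  fun i j => if i < j then (P.getD i []).getD j 0 else if i = j then 1 else 0

namespace Tb

variable (T : Tb) (l q : ℕ)

/-- iteration of a word -/
noncomputable def it (v : List ℕ) (r i : ℕ) : ℕ := Nat.rec (motive := fun _ => ℕ) r (fun _ ih => T.aw v ih) i

/-- `u` commutes with `G` -/
noncomputable def com (u : List ℕ) (G : Bool × List ℕ) : Bool :=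
  aL (fun i => Nat.beq (T.aw u (T.ag G i)) (T.ag G (T.aw u i))) l

/-- `u` stabilises the mask -/
noncomputable def sb (u : List ℕ) (m : ℕ) : Bool := aL (fun r => or (not (m.testBit r)) (m.testBit (T.aw u r))) T.n

/-- a rational character -/
noncomputable def ch (G : Bool × List ℕ) (N : ℕ) (f : List ℕ) : Bool :=
  and (Nat.beq f.length l) (aL (fun i => Nat.beq (T.ev N f (T.ag G i)) (Nat.mod (Nat.mul q (f.getD i 0)) N)) l)

/-- `q - G` -/
noncomputable def am (G : Bool × List ℕ) : Matrix (Fin l) (Fin l) ℤ :=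
  fun i j => (if i = j then (q : ℤ) else 0) - T.vec l (T.ag G i) j

/-- `tord ≤ B` -/
noncomputable def tk (G : Bool × List ℕ) (P : List (List ℤ)) (B : ℕ) : Bool :=
  decide ((∀ i j : Fin l, j < i → ∑ k, lo l P i k * ∑ r, up l P k r * T.am l q G r j = 0) ∧ (∏ i, lo l P i i).natAbs ≠ 0 ∧
    (∏ i, ∑ k, lo l P i k * ∑ r, up l P k r * T.am l q G r i).natAbs ≤ B * (∏ i, lo l P i i).natAbs)

/-- the list contains the Weyl group of the roots killed by `f` -/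
noncomputable def cls (N : ℕ) (f : List ℕ) (L : List (List ℕ × List (List ℤ))) : Bool :=
  and (lE (fun y => aL (fun i => Nat.beq (T.aw y.1 i) i) l) L)
    (aL (fun r => or (Nat.blt 0 (T.ev N f r))
      (lA (fun y => lE (fun z => aL (fun i => Nat.beq (T.aw z.1 i) (T.f r (T.aw y.1 i))) l) L) L)) T.n)

/-- the check of `ElT` -/
noncomputable def chkT (G : Bool × List ℕ) (c : ℕ) (x : CT) : Bool :=
  decide (x.N ≠ 0 ∧ Nat.gcd x.N q = 1 ∧ x.f.length = l) && T.ch l q G x.N x.f₀ && T.ch l q G x.N x.f₁ && T.lt x.u &&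
    T.com l x.u G &&
    aL (fun i => Nat.beq ((x.f.getD i 0 + x.f₁.getD i 0) % x.N) ((dM l * x.f₀.getD i 0 + T.ev x.N x.f₁ (T.aw x.u i)) % x.N)) l &&
    ((Nat.beq x.md 0 && Nat.ble ((if Nat.gcd x.N (dM l) = 1 then 1 else dM l) *
        (q ^ cL (fun r => Nat.beq (T.ev x.N x.f r) 0) T.n * (q + 1) ^ l)) c) ||
      (Nat.beq x.md 1 && Nat.ble ((if Nat.gcd x.N (dM l) = 1 then 1 else dM l) *
        (q ^ cL (fun r => Nat.beq (T.ev x.N x.f r) 0) T.n * x.B)) c && T.cls l x.N x.f x.L &&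
        lA (fun y => T.lt y.1 && T.tk l q (G.1, y.1 ++ G.2) y.2 x.B) x.L) ||
      (decide (l = 4 ∧ q = 2 ∧ ∃ e ∈ tab42, e.1 ∣ x.N ∧ e.2 ≤ c) && eL (fun r => Nat.beq (Nat.gcd (T.ev x.N x.f r) x.N) 1) T.n))

/-- the check of one orbit -/
noncomputable def en (G : Bool × List ℕ) (v : List ℕ) (L : ℕ) (e : En) : Bool :=
  Nat.blt e.b T.n && (Nat.ble L e.a || (Nat.beq (T.it v e.b e.m) e.b && Nat.ble (L * dM l) (e.a * e.K) && Nat.blt 0 e.N &&
    T.ch l q G e.N e.f &&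
    aL (fun j => Nat.beq j 0 || Nat.blt 0 (j * sL (fun i => T.ev e.N e.f (T.it v e.b i)) e.m % e.N)) e.K))

/-- the check of `ElA` for the word `v` -/
noncomputable def chkV (G : Bool × List ℕ) (c : ℕ) (x : CA) (v : List ℕ) : Bool :=
  aL (fun i => Nat.beq (T.it v i x.n) i) l && lA (T.en l q G v x.L) x.J &&
    aL (fun r => eL (fun i => lE (fun e => Nat.beq e.b (T.it v r i)) x.J) x.n) T.n &&
    decide (Nat.gcd x.n q = 1 ∧ (x.J.map En.a).sum < (x.k + 1) * x.L ∧ dM l * (q ^ x.k * (q + 1) ^ l) ≤ c)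

/-- the check of `ElA` -/
noncomputable def chkA (G : Bool × List ℕ) (m c : ℕ) (x : CA) : Bool :=
  T.lt x.u && T.sb x.u m && T.com l x.u G &&
    cond x.fl (Nat.beq (Nat.gcd (dM l) q) 1 && T.chkV l q G c x x.u) (T.chkV l q G c x (List.replicate (dM l) x.u).flatten)

/-- the check of `ElU` -/
noncomputable def chkU (G : Bool × List ℕ) (m c : ℕ) (x : CU) : Bool :=
  decide (l = 4 ∧ q = 2 ∧ x.e ∈ tab42 ∧ x.e.2 ≤ c ∧ x.r < T.n ∧ 0 < x.e.1) && T.lt x.u && T.sb x.u m && T.com l x.u G &&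
    Nat.beq (T.it x.u x.r x.e.1) x.r && aL (fun i => Nat.beq i 0 || !Nat.beq (T.it x.u x.r i) x.r) x.e.1

/-- the check of a certificate -/
noncomputable def chk (m s ω : ℕ) (G : Bool × List ℕ) (e : Ce) : Bool :=
  lA (fun a => Nat.blt a T.n && m.testBit a) e.w &&
    Sum.elim (T.chkT l q (G.1, e.w ++ G.2) e.c)
      (Sum.elim (T.chkA l q (G.1, e.w ++ G.2) m e.c) (T.chkU l q (G.1, e.w ++ G.2) m e.c)) e.x && Nat.ble 2 e.c &&
    (Nat.ble (dM l * (e.c ^ 3 * (ω * (q ^ s * (q + 1) ^ l)))) (ordU l q) ||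
      (Nat.beq m 0 && T.tk l q (G.1, e.w ++ G.2) e.P e.B && Nat.ble (dM l * (e.c ^ 3 * (ω * e.B))) (ordU l q)))

end Tb

variable {D : ChevalleyDatum} {l : ℕ} {M : CoxeterMatrix (Fin l)} {hp : IsType D l M} {T : Tb} {q : ℕ}

theorem mv_refl (g : LL l ≃+ LL l) (R : Set (LL l)) : Mv hp g R g R :=
  ⟨1, 1, by simp only [ac_one, Set.image_id'], one_mem _, fun x => by simp only [ac_one]⟩

theorem mv_trans {g g₁ g₂ : LL l ≃+ LL l} {R R₁ R₂ : Set (LL l)} (h₁ : Mv hp g R g₁ R₁) (h₂ : Mv hp g₁ R₁ g₂ R₂) :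
    Mv hp g R g₂ R₂ := by
  obtain ⟨v₁, w₁, a1, a2, a3⟩ := h₁
  obtain ⟨v₂, w₂, b1, b2, b3⟩ := h₂
  refine ⟨v₂ * v₁, w₂ * (v₂ * w₁ * v₂⁻¹), by rw [b1, a1, Set.image_image]; simp only [ac_mul],
    mul_mem b2 (b1 ▸ conj_mem_WR hp v₂ a2), fun x => ?_⟩
  simp only [ac_mul, b3, a3, ac_inv]

theorem fin_of_mv {g g₁ : LL l ≃+ LL l} {R R₁ : Set (LL l)} (h₁ : Mv hp g R g₁ R₁) (h : Fin' hp q g₁ R₁) :
    Fin' hp q g R := by
  obtain ⟨g₂, R₂, h₂, h⟩ := h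
  exact ⟨g₂, R₂, mv_trans h₁ h₂, h⟩

theorem gE_append (G : Bool × List ℕ) (w : List ℕ) (x : LL l) :
    gE hp T (G.1, w ++ G.2) x = ac hp (wd hp T w) (gE hp T G x) := by
  obtain ⟨b, v⟩ := G
  cases b
  · exact (congrArg (ac hp · x) (wd_append w v)).trans (ac_mul hp _ _ x)
  · show -ac hp (wd hp T (w ++ v)) x = ac hp (wd hp T w) (-ac hp (wd hp T v) x)
    rw [wd_append, ac_mul, map_neg]

theorem lt_append {v w : List ℕ} (hv : T.lt v = true) (hw : T.lt w = true) : T.lt (v ++ w) = true :=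
  lt_iff.2 fun s hs => (List.mem_append.1 hs).elim (lt_iff.1 hv s) (lt_iff.1 hw s)

theorem wd_rep (u : List ℕ) (d : ℕ) : wd hp T (List.replicate d u).flatten = wd hp T u ^ d := by
  induction d with
  | zero => exact (pow_zero _).symm
  | succ d ih => rw [List.replicate_succ, List.flatten_cons, wd_append, ih, pow_succ']

theorem lt_rep {u : List ℕ} (hu : T.lt u = true) (d : ℕ) : T.lt (List.replicate d u).flatten = true := by
  induction d with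
  | zero => rfl
  | succ d ih => rw [List.replicate_succ, List.flatten_cons]; exact lt_append hu ih

theorem equiv_ext {f g : LL l ≃+ LL l} (h : ∀ i, f (sr i) = g (sr i)) (x : LL l) : f x = g x :=
  DFunLike.congr_fun (hom_ext (f := f.toAddMonoidHom) (g := g.toAddMonoidHom) h) x

namespace Gt

variable (G : Gt hp T)
include G

theorem it {v : List ℕ} (hv : T.lt v = true) {r : ℕ} (hr : r < T.n) (i : ℕ) :
    T.it v r i < T.n ∧ T.vec l (T.it v r i) = ac hp (wd hp T v ^ i) (T.vec l r) := by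
  induction i with
  | zero => exact ⟨hr, by rw [pow_zero, ac_one]; rfl⟩
  | succ i ih => exact ⟨(G.aw hv ih.1).1, by rw [pow_succ', ac_mul, ← ih.2]; exact (G.aw hv ih.1).2⟩

theorem com {u : List ℕ} {g : Bool × List ℕ} (hu : T.lt u = true) (hg : T.lt g.2 = true) (h : T.com l u g = true)
    (x : LL l) : ac hp (wd hp T u) (gE hp T g x) = gE hp T g (ac hp (wd hp T u) x) :=
  equiv_ext (f := (gE hp T g).trans (ac hp (wd hp T u))) (g := (ac hp (wd hp T u)).trans (gE hp T g)) (fun i => by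
    have h1 := Nat.eq_of_beq_eq_true (aL_iff.1 h i i.2)
    rw [AddEquiv.trans_apply, AddEquiv.trans_apply, ← G.sim, ← (G.ag hg (G.lt_n i)).2, ← (G.aw hu (G.lt_n i)).2,
      ← (G.aw hu (G.ag hg (G.lt_n i)).1).2, ← (G.ag hg (G.aw hu (G.lt_n i)).1).2, h1]) x

theorem sb {u : List ℕ} {m : ℕ} (hu : T.lt u = true) (h : T.sb u m = true) :
    ∀ b ∈ St T l m, ac hp (wd hp T u) b ∈ St T l m := by
  rintro _ ⟨r, hr, h1, rfl⟩
  have h2 := aL_iff.1 h r hr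
  rw [h1] at h2
  exact ⟨_, (G.aw hu hr).1, h2, (G.aw hu hr).2⟩

theorem ch {g : Bool × List ℕ} (hg : T.lt g.2 = true) {N : ℕ} (hN : N ≠ 0) {f : List ℕ} (h : T.ch l q g N f = true) :
    f.length = l ∧ Ch q (gE hp T g) N (fn l f) := by
  simp only [Tb.ch, Bool.and_eq_true, Nat.beq_eq, aL_iff] at h
  refine ⟨h.1, dvd_of_sr (f := (fn l f).comp (gE hp T g).toAddMonoidHom - (q : ℤ) • fn l f) fun i => ?_⟩
  have h1 := ev_modEq (T := T) hN h.1 (T.ag g i)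
  rw [h.2 i i.2, (G.ag hg (G.lt_n i)).2, G.sim] at h1
  show (N : ℤ) ∣ fn l f (gE hp T g (sr i)) - q * fn l f (sr i)
  rw [fn_sr]
  exact ((Int.mod_modEq ((q : ℤ) * (f.getD i 0 : ℕ)) N).symm.trans (by exact_mod_cast h1)).dvd

theorem tk {g : Bool × List ℕ} (hg : T.lt g.2 = true) {P : List (List ℤ)} {B : ℕ} (h : T.tk l q g P B = true) :
    tord q (gE hp T g) ≤ B := by
  obtain ⟨h1, h2, h3⟩ := of_decide_eq_true h
  have e : (q : ℤ) • (1 : Matrix (Fin l) (Fin l) ℤ) - mat (gE hp T g) = T.am l q g := by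
    ext i j
    show (q : ℤ) * (1 : Matrix (Fin l) (Fin l) ℤ) i j - gE hp T g (sr i) j = (if i = j then (q : ℤ) else 0) - T.vec l (T.ag g i) j
    rw [(G.ag hg (G.lt_n i)).2, G.sim, Matrix.one_apply, mul_ite, mul_one, mul_zero]
  have a1 : (lo l P).det = ∏ i, lo l P i i := Matrix.det_of_isLowerTriangular _ fun i j h => if_neg (not_le.2 h)
  have a2 : (lo l P * (up l P * T.am l q g)).det = ∏ i, ∑ k, lo l P i k * ∑ r, up l P k r * T.am l q g r i :=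
    Matrix.det_of_isUpperTriangular fun i j h => h1 i j h
  have a3 : (up l P).det = 1 := (Matrix.det_of_isUpperTriangular fun i j (h : j < i) =>
    (if_neg h.not_gt).trans (if_neg h.ne')).trans (Finset.prod_eq_one fun i _ => (if_neg (lt_irrefl i)).trans (if_pos rfl))
  rw [← a2, Matrix.det_mul, Matrix.det_mul, a3, one_mul, Int.natAbs_mul, a1, mul_comm] at h3
  rw [tord, e]
  exact Nat.le_of_mul_le_mul_right h3 (Nat.pos_of_ne_zero h2)

theorem wd_ext {v w : List ℕ} (hv : T.lt v = true) (hw : T.lt w = true) (h : ∀ i < l, T.aw v i = T.aw w i) :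
    wd hp T v = wd hp T w :=
  W_ext hp fun i => by rw [← G.sim, ← (G.aw hv (G.lt_n i)).2, ← (G.aw hw (G.lt_n i)).2, h i i.2]

theorem cls {N : ℕ} (hN : N ≠ 0) {f : List ℕ} (hf : f.length = l) {L : List (List ℕ × List (List ℤ))}
    (hL : ∀ y ∈ L, T.lt y.1 = true) (h : T.cls l N f L = true) {w : M.Group} (hw : w ∈ WR hp (Kl hp N (fn l f))) :
    ∃ y ∈ L, w = wd hp T y.1 := by
  simp only [Tb.cls, Bool.and_eq_true, Bool.or_eq_true, lE_iff, lA_iff, aL_iff, Nat.beq_eq, Nat.blt_eq] at h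
  refine WR_ind hp (P := fun w => ∃ y ∈ L, w = wd hp T y.1) ?_ ?_ hw
  · obtain ⟨y, hy, h1⟩ := h.1
    exact ⟨y, hy, G.wd_ext (v := []) rfl (hL y hy) fun i hi => (h1 i hi).symm⟩
  · rintro a ha hr _ ⟨y, hy, rfl⟩
    obtain ⟨r, hr', rfl⟩ := G.surj a hr
    obtain ⟨z, hz, h1⟩ := (h.2 r hr').resolve_left (by rw [(dvd_iff_ev hN hf r).1 ha.2]; exact lt_irrefl 0) y hy
    exact ⟨z, hz, G.wd_ext (v := r :: y.1) (lt_iff.2 (List.forall_mem_cons.2 ⟨hr', lt_iff.1 (hL y hy)⟩)) (hL z hz)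
      fun i hi => (h1 i hi).symm⟩

theorem chkU (hF : l = 4 → D = chevF4) {g : Bool × List ℕ} (hg : T.lt g.2 = true) {m c : ℕ} {x : CU}
    (h : T.chkU l q g m c x = true) : ElU hp q (gE hp T g) (St T l m) c := by
  simp only [Tb.chkU, Bool.and_eq_true, Bool.or_eq_true, decide_eq_true_eq, aL_iff, Nat.beq_eq, Bool.not_eq_true',
    ← Bool.not_eq_true] at h
  obtain ⟨⟨⟨⟨⟨⟨a1, a2, a3, a4, a5, a6⟩, b1⟩, b2⟩, b3⟩, b4⟩, b5⟩ := h
  refine ⟨hF a1, a2, wd hp T x.u, G.sb b1 b2, G.com b1 hg b3, x.e, a3, ?_, a4⟩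
  have h1 : ac hp (wd hp T x.u ^ x.e.1) (T.vec l x.r) = T.vec l x.r := by rw [← (G.it b1 a5 _).2, b4]
  have h2 : ∀ k, ac hp (wd hp T x.u ^ (x.e.1 * k)) (T.vec l x.r) = T.vec l x.r := fun k => by
    induction k with
    | zero => rw [mul_zero, pow_zero, ac_one]
    | succ k ih => rw [Nat.mul_succ, pow_add, ac_mul, h1, ih]
  have h3 := ac_one hp (T.vec l x.r)
  rw [← pow_orderOf_eq_one (wd hp T x.u), ← Nat.mod_add_div (orderOf _) x.e.1, pow_add, ac_mul, h2,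
    ← (G.it b1 a5 _).2] at h3
  exact Nat.dvd_of_mod_eq_zero ((b5 _ (Nat.mod_lt _ a6)).resolve_right
    (not_not.2 (G.inj _ (G.it b1 a5 _).1 _ a5 h3)))

theorem en {g : Bool × List ℕ} (hg : T.lt g.2 = true) {v : List ℕ} (hv : T.lt v = true) {L : ℕ} {e : En}
    (h : T.en l q g v L e = true) : e.b < T.n ∧ (L ≤ e.a ∨ (ac hp (wd hp T v ^ e.m) (T.vec l e.b) = T.vec l e.b ∧
      L * dM l ≤ e.a * e.K ∧ OrdGe q (gE hp T g) (∑ i ∈ Finset.range e.m, ac hp (wd hp T v ^ i) (T.vec l e.b)) e.K)) := by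
  simp only [Tb.en, Bool.and_eq_true, Bool.or_eq_true, aL_iff, Nat.beq_eq, Nat.blt_eq, Nat.ble_eq] at h
  refine ⟨h.1, h.2.imp_right fun ⟨⟨⟨⟨a1, a2⟩, a3⟩, a4⟩, a5⟩ => ⟨by rw [← (G.it hv h.1 _).2, a1], a2, fun j y hj e1 => ?_⟩⟩
  obtain ⟨b1, b2⟩ := G.ch hg a3.ne' a4
  by_contra hc
  have h1 := (a5 j (not_le.1 hc)).resolve_left hj.ne'
  have h2 := congrArg (fn l e.f) e1
  have h3 := (b2 y).neg_right
  rw [map_sub, map_nsmul, map_nsmul, map_sum, nsmul_eq_mul, nsmul_eq_mul] at h2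
  rw [neg_sub, ← h2] at h3
  have h4 : ((sL (fun i => T.ev e.N e.f (T.it v e.b i)) e.m : ℕ) : ℤ) ≡
      ∑ i ∈ Finset.range e.m, fn l e.f (ac hp (wd hp T v ^ i) (T.vec l e.b)) [ZMOD e.N] := by
    rw [sL_eq, Nat.cast_sum]
    exact Int.ModEq.sum fun i _ => (G.it hv h.1 i).2 ▸ ev_modEq a3.ne' b1 _
  have h5 := (h4.mul_left j).dvd_iff.2 h3
  rw [Nat.mod_eq_zero_of_dvd (by exact_mod_cast h5)] at h1
  exact lt_irrefl 0 h1

end Gt

namespace Gs

variable (G : Gs hp T)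
include G

theorem chkT (hF : l = 4 → D = chevF4) {g : Bool × List ℕ} (hg : T.lt g.2 = true) {c : ℕ} {x : CT}
    (h : T.chkT l q g c x = true) : ElT hp q (gE hp T g) c := by
  simp only [Tb.chkT, Bool.and_eq_true, Bool.or_eq_true, decide_eq_true_eq, aL_iff, lA_iff, eL_iff, Nat.beq_eq,
    Nat.ble_eq] at h
  obtain ⟨⟨⟨⟨⟨⟨⟨a1, a2, a3⟩, b1⟩, b2⟩, b3⟩, b4⟩, b5⟩, b6⟩ := h
  obtain ⟨c1, c2⟩ := G.ch hg a1 b1
  obtain ⟨c3, c4⟩ := G.ch hg a1 b2
  let F : LL l →+ ℤ := (dM l : ℤ) • fn l x.f₀ + (fn l x.f₁).comp (ac hp (wd hp T x.u)).toAddMonoidHom - fn l x.f₁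
  have k1 : ∀ y, F y ≡ fn l x.f y [ZMOD x.N] := fun y => (Int.modEq_iff_dvd.2 (dvd_of_sr (f := fn l x.f - F) (fun i => by
    have h1 := ev_modEq (T := T) a1 c3 (T.aw x.u i)
    rw [(G.aw b3 (G.lt_n i)).2, G.sim] at h1
    have h2 : ((x.f.getD i 0 + x.f₁.getD i 0 : ℕ) : ℤ) ≡ (dM l * x.f₀.getD i 0 + T.ev x.N x.f₁ (T.aw x.u i) : ℕ) [ZMOD x.N] :=
      Int.natCast_modEq_iff.2 (b5 i i.2)
    show (x.N : ℤ) ∣ fn l x.f (sr i) - (dM l * fn l x.f₀ (sr i) + fn l x.f₁ (ac hp (wd hp T x.u) (sr i)) - fn l x.f₁ (sr i))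
    rw [fn_sr, fn_sr, fn_sr]
    push_cast at h2
    convert (h2.trans (h1.add_left _)).symm.dvd using 1
    ring) y))
  have k2 : Kl hp x.N F = Kl hp x.N (fn l x.f) := Set.ext fun a => and_congr_right' (k1 a).dvd_iff
  have k3 : (Kl hp x.N F).ncard = cL (fun r => Nat.beq (T.ev x.N x.f r) 0) T.n := by
    rw [k2]
    exact G.ncard_eq fun r _ => by rw [dvd_iff_ev a1 a3, Nat.beq_eq]
  have k4 : nk D l x.N = if Nat.gcd x.N (dM l) = 1 then 1 else dM l := by rw [nk, G.nm]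
  refine ⟨x.N, F, _, _, _, a2, c2, c4, G.com b3 hg b4, fun _ => rfl, ?_⟩
  rw [k3, k4]
  rcases b6 with (b6 | ⟨⟨⟨-, d1⟩, d2⟩, d3⟩) | ⟨⟨d1, d2, d3⟩, r, -, d4⟩
  · exact Or.inl b6.2
  · refine Or.inr (Or.inl ⟨x.B, fun w hw => ?_, d1⟩)
    obtain ⟨y, hy, rfl⟩ := G.cls a1 a3 (fun y hy => (d3 y hy).1) d2 (k2 ▸ hw)
    exact le_of_eq_of_le (congrArg (tord q) (funext fun z => (gE_append g y.1 z).symm))
      (G.tk (lt_append (d3 y hy).1 hg) (d3 y hy).2)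
  · refine Or.inr (Or.inr ⟨hF d1, d2, ⟨T.vec l r, ?_⟩, d3⟩)
    obtain ⟨t, ht⟩ := ((ev_modEq (T := T) a1 a3 r).trans (k1 _).symm).dvd
    rw [eq_add_of_sub_eq' ht]
    exact (Nat.isCoprime_iff_coprime.2 d4).add_mul_left_left t

theorem chkV {g : Bool × List ℕ} (hg : T.lt g.2 = true) {c : ℕ} {x : CA} {v : List ℕ} (hv : T.lt v = true)
    (h : T.chkV l q g c x v = true) {R : Set (LL l)} {u : M.Group} (h1 : ∀ b ∈ R, ac hp u b ∈ R)
    (h2 : ∀ y, ac hp u (gE hp T g y) = gE hp T g (ac hp u y))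
    (h3 : wd hp T v = u ^ dM l ∨ ((dM l).Coprime q ∧ wd hp T v = u)) : ElA hp q (gE hp T g) R c := by
  classical
  simp only [Tb.chkV, Bool.and_eq_true, decide_eq_true_eq, aL_iff, lA_iff, eL_iff, lE_iff, Nat.beq_eq] at h
  obtain ⟨⟨⟨a1, a2⟩, a3⟩, a4, a5, a6⟩ := h
  have k1 : wd hp T v ^ x.n = 1 := W_ext hp fun i => by rw [← G.sim, ← (G.it hv (G.lt_n i) _).2, a1 i i.2, ac_one]
  have k2 : ∀ b : LL l, ∃ e : En, (∃ e ∈ x.J, T.vec l e.b = b) → e ∈ x.J ∧ T.vec l e.b = b := fun b => by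
    by_cases h : ∃ e ∈ x.J, T.vec l e.b = b
    · exact ⟨h.choose, fun _ => h.choose_spec⟩
    · exact ⟨⟨0, 0, 0, 0, 0, []⟩, fun h' => absurd h' h⟩
  choose E hE using k2
  have k3 : ∀ b ∈ x.J.toFinset.image fun e => T.vec l e.b, E b ∈ x.J ∧ T.vec l (E b).b = b := fun b hb => hE b (by
    simpa using hb)
  refine ⟨u, wd hp T v, x.n, x.L, x.k, x.J.toFinset.image fun e => T.vec l e.b, fun b => (E b).m, fun b => (E b).K,
    fun b => (E b).a, h1, h2, h3, k1, a4, fun b hb => (k3 b hb).2 ▸ G.root _ (G.en hg hv (a2 _ (k3 b hb).1)).1,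
    fun y hy => ?_, fun b hb => ?_, lt_of_le_of_lt ?_ a5, Or.inl (G.nm ▸ a6)⟩
  · obtain ⟨r, hr, rfl⟩ := G.surj y hy
    obtain ⟨i, hi, e, he, h4⟩ := a3 r hr
    refine ⟨_, Finset.mem_image_of_mem _ (List.mem_toFinset.2 he), x.n - i, ?_⟩
    rw [h4, (G.it hv hr i).2, ← ac_mul, ← pow_add, Nat.sub_add_cancel hi.le, k1, ac_one]
  · have h4 := (G.en hg hv (a2 _ (k3 b hb).1)).2
    rwa [(k3 b hb).2] at h4
  · rw [← Finset.sum_image (g := E) (f := En.a) fun b hb b' hb' e => by rw [← (k3 b hb).2, e, (k3 b' hb').2]]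
    refine (Finset.sum_le_sum_of_subset (t := x.J.toFinset) fun e he => ?_).trans ?_
    · obtain ⟨b, hb, rfl⟩ := Finset.mem_image.1 he
      exact List.mem_toFinset.2 (k3 b hb).1
    · rw [show x.J.toFinset = x.J.dedup.toFinset from by ext; simp, List.sum_toFinset _ (List.nodup_dedup _)]
      exact ((List.dedup_sublist _).map _).sum_le_sum fun _ _ => Nat.zero_le _

theorem chkA {g : Bool × List ℕ} (hg : T.lt g.2 = true) {m c : ℕ} {x : CA} (h : T.chkA l q g m c x = true) :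
    ElA hp q (gE hp T g) (St T l m) c := by
  simp only [Tb.chkA, Bool.and_eq_true] at h
  obtain ⟨⟨⟨a1, a2⟩, a3⟩, a4⟩ := h
  cases hx : x.fl <;> rw [hx] at a4
  · exact G.chkV hg (lt_rep a1 _) a4 (G.sb a1 a2) (G.com a1 hg a3) (Or.inl (wd_rep _ _))
  · simp only [cond_true, Bool.and_eq_true, Nat.beq_eq] at a4
    exact G.chkV hg a1 a4.2 (G.sb a1 a2) (G.com a1 hg a3) (Or.inr ⟨a4.1, rfl⟩)

/-- **the certificates** -/
theorem chk (hF : l = 4 → D = chevF4) {g : Bool × List ℕ} (hg : T.lt g.2 = true) {m s ω : ℕ} {e : Ce}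
    (hω : Om hp (St T l m) ω) (hs : (St T l m).ncard = s) (h : T.chk l q m s ω g e = true) :
    Fin' hp q (gE hp T g) (St T l m) := by
  simp only [Tb.chk, Bool.and_eq_true, Bool.or_eq_true, lA_iff, Nat.blt_eq, Nat.ble_eq, Nat.beq_eq] at h
  obtain ⟨⟨⟨a1, a2⟩, a3⟩, a4⟩ := h
  have hg' : T.lt (g.1, e.w ++ g.2).2 = true := lt_append (lt_iff.2 fun s hs => (a1 s hs).1) hg
  have k : ElT hp q (gE hp T (g.1, e.w ++ g.2)) e.c ∨ ElA hp q (gE hp T (g.1, e.w ++ g.2)) (St T l m) e.c ∨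
      ElU hp q (gE hp T (g.1, e.w ++ g.2)) (St T l m) e.c := by
    rcases hx : e.x with x | x | x <;> rw [hx] at a2
    exacts [Or.inl (G.chkT hF hg' a2), Or.inr (Or.inl (G.chkA hg' a2)), Or.inr (Or.inr (G.chkU hF hg' a2))]
  refine ⟨gE hp T (g.1, e.w ++ g.2), St T l m, ⟨1, wd hp T e.w, by simp only [ac_one, Set.image_id'],
    G.wd_mem fun s hs => ⟨(a1 s hs).1, (G.mem_St (a1 s hs).1).2 (a1 s hs).2⟩, fun x => by rw [ac_one, ac_one, gE_append]⟩, ?_⟩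
  rcases a4 with a4 | ⟨⟨rfl, a4⟩, a5⟩
  · exact ⟨_, _, ⟨ω, hω, Or.inl (hs ▸ le_rfl)⟩, k, a3, a4⟩
  · exact ⟨_, _, ⟨ω, hω, Or.inr ⟨St_zero, Nat.mul_le_mul_left _ (G.tk hg' a4)⟩⟩, k, a3, a5⟩

end Gs

end Cfsg.Agent.N2.Ex.Al.Ck
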