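import Cfsg.Agent.N2.Ex.Defs
import Cfsg.Agent.N2.Ex.Cb.Ref
import Cfsg.Agent.DS.Ex.TorFrame

/-!
# N2 (S3519), subgroups of maximal rank in `F₄, E₆, ²E₆, E₇, E₈`: interface (helper40)

* lattice level: `LM o g R` (a maximal invariant set of roots), `Mv` (change of frame), `Bd`, `El`, `Cert` (certificates);
* group level: `Co` (the context), `Sit` (framed, at a maximal set of roots), `Gb` (the conclusion);
* boxes and the assembly `boxAl_of`.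
-/

set_option autoImplicit false
set_option linter.unusedSectionVars false

namespace Cfsg.Agent.N2.Ex.Al

open CoxeterSystem Cfsg Cfsg.Lie Cfsg.Lie.ChevalleyDatum
open Cfsg.Agent.ChevalleyStructure Cfsg.Agent.ChevalleyStructure.CoxeterGeom Cfsg.Agent.Tits.Roots Cfsg.Agent.Nodes
  Cfsg.Agent.Nodes.BNOf Cfsg.Agent.Nodes.RGDChev Cfsg.Agent.Nodes.Coroot
open Cfsg.Agent.KFacts.RgdChevCoord Cfsg.Agent.BpExc.Fr Cfsg.Agent.BpExc.LangFr Cfsg.Agent.BpExc.Zc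
open Cfsg.Agent.H469.Exc Cfsg.Agent.H316.U6 Cfsg.Agent.H129.TorusChar Cfsg.Agent.DS.Ex Cfsg.Agent.DS.Nt
open Cfsg.Agent.DS.Ex.Tor (RT FR)
open Cfsg.Agent.H931.KC (nmk)
open Cfsg.Agent.SB.Exc (XF nP dM ordU)
open Cfsg.Agent.N2.Ex.Cb (tord)

/-- the root lattice -/
abbrev LL (l : ℕ) : Type := Fin l → ℤ

/-- bounds for the centralisers in `F₄(2)`: `(n, c)` means that `|C(a)| ≤ c` if `n` divides the order of `a` -/
def tab42 : List (ℕ × ℕ) := [(5, 3600), (7, 1176), (8, 2048), (9, 54), (12, 1152), (13, 13), (15, 90), (17, 17), (21, 21)]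

section Lattice

variable {D : ChevalleyDatum} {l : ℕ} {M : CoxeterMatrix (Fin l)} (hp : IsType D l M)

/-- the Cartan integers -/
noncomputable abbrev cp (x a : LL l) : ℤ := cpr M.toCoxeterSystem hp.isCartan x a

/-- the action of the Weyl group -/
noncomputable abbrev ac (w : M.Group) : LL l ≃+ LL l := repAut M.toCoxeterSystem hp.isCartan w

/-- the Weyl group of a set of roots -/
abbrev WR (R : Set (LL l)) : Subgroup M.Group := BpExc.SubBN.WS M.toCoxeterSystem hp.isCartan R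

/-- symmetric sets of roots -/
structure Sy (R : Set (LL l)) : Prop where
  root : ∀ a ∈ R, RT hp a
  neg : ∀ a ∈ R, -a ∈ R

/-- `R` does not span the root lattice -/
def Pp (R : Set (LL l)) : Prop := ∃ a, RT hp a ∧ a ∉ AddSubgroup.closure R

/-- closed under its reflections -/
def Rc (R : Set (LL l)) : Prop := ∀ a ∈ R, ∀ b ∈ R, b - cp hp b a • a ∈ R

/-- the roots in the span of `R` lie in `R` -/
def Cl (R : Set (LL l)) : Prop := ∀ a, RT hp a → a ∈ AddSubgroup.closure R → a ∈ R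

/-- the permutations of the roots induced by the lifts; they are linear unless `o` -/
structure Ok (o : Prop) (h : LL l → LL l) : Prop where
  bij : Set.BijOn h {a | RT hp a} {a | RT hp a}
  neg : ∀ a, RT hp a → h (-a) = -h a
  ort : ∀ a b, RT hp a → RT hp b → (cp hp (h a) (h b) = 0 ↔ cp hp a b = 0)
  lin : o ∨ ∃ θ : LL l ≃+ LL l, ∀ a, RT hp a → h a = θ a

/-- `g = ± w` -/
def GW (g : LL l ≃+ LL l) : Prop := ∃ w : M.Group, (∀ a, g a = ac hp w a) ∨ (D = chevE6 ∧ ∀ a, g a = -ac hp w a)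

/-- **a maximal invariant set of roots** -/
structure LM (o : Prop) (g : LL l ≃+ LL l) (R : Set (LL l)) : Prop where
  gw : GW hp g
  sy : Sy hp R
  pp : Pp hp R
  rc : Rc hp R
  inv : ∀ a ∈ R, g a ∈ R
  kill : ∀ R', R ⊆ R' → Sy hp R' → Pp hp R' →
    (∀ h, Ok hp o h → Set.MapsTo h R R → (R = ∅ → ∀ a, RT hp a → h (g a) = g (h a)) → Set.MapsTo h R' R') → R' ⊆ R

/-- change of frame: conjugation by `v ∈ W` and twisting by `w ∈ W(R')` -/
def Mv (g : LL l ≃+ LL l) (R : Set (LL l)) (g' : LL l ≃+ LL l) (R' : Set (LL l)) : Prop :=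
  ∃ v w : M.Group, R' = ac hp v '' R ∧ w ∈ WR hp R' ∧ ∀ x, g' (ac hp v x) = ac hp w (ac hp v (g x))

/-- `ω` bounds the index of `W(R)` in the stabiliser of `R` -/
def Om (R : Set (LL l)) (ω : ℕ) : Prop :=
  ∃ L : Set M.Group, L.ncard ≤ ω ∧ ∀ u : M.Group, (∀ a ∈ R, ac hp u a ∈ R) → ∃ w ∈ WR hp R, w * u ∈ L

/-- `n` bounds the order of the finite normaliser -/
def Bd (q : ℕ) (g : LL l ≃+ LL l) (R : Set (LL l)) (n : ℕ) : Prop :=
  ∃ ω, Om hp R ω ∧ (ω * (q ^ R.ncard * (q + 1) ^ l) ≤ n ∨ (R = ∅ ∧ ω * tord q g ≤ n))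

/-- `f` modulo `N` is the character of a rational element of the torus -/
def Ch (q : ℕ) (g : LL l ≃+ LL l) (N : ℕ) (f : LL l →+ ℤ) : Prop := ∀ x, (N : ℤ) ∣ f (g x) - q * f x

/-- the roots killed by `f` -/
def Kl (N : ℕ) (f : LL l →+ ℤ) : Set (LL l) := {a | RT hp a ∧ (N : ℤ) ∣ f a}

/-- the index of the connected centraliser -/
def nk (D : ChevalleyDatum) (l N : ℕ) : ℕ := if N.Coprime (dM l) then 1 else nmk D l

/-- **an element of the torus**; `c` bounds its centraliser -/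
def ElT (q : ℕ) (g : LL l ≃+ LL l) (c : ℕ) : Prop :=
  ∃ (N : ℕ) (f f₀ f₁ : LL l →+ ℤ) (u : M.Group), N.Coprime q ∧ Ch q g N f₀ ∧ Ch q g N f₁ ∧
    (∀ x, ac hp u (g x) = g (ac hp u x)) ∧ (∀ x, f x = dM l * f₀ x + f₁ (ac hp u x) - f₁ x) ∧
    (nk D l N * (q ^ (Kl hp N f).ncard * (q + 1) ^ l) ≤ c ∨
      (∃ B, (∀ w ∈ WR hp (Kl hp N f), tord q (fun x => ac hp w (g x)) ≤ B) ∧
        nk D l N * (q ^ (Kl hp N f).ncard * B) ≤ c) ∨
      (D = chevF4 ∧ q = 2 ∧ (∃ x, IsCoprime (f x) N) ∧ ∃ e ∈ tab42, e.1 ∣ N ∧ e.2 ≤ c))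

/-- the order of `x` modulo `(q - g) Λ` is at least `K` -/
def OrdGe (q : ℕ) (g : LL l ≃+ LL l) (x : LL l) (K : ℕ) : Prop :=
  ∀ (j : ℕ) (y : LL l), 0 < j → j • x = q • y - g y → K ≤ j

/-- **averaging over a coset of the torus**: `J` contains representatives of the orbits of `v = u ^ dM` on the roots,
the orbit of `b` has weight `a b / L` -/
def ElA (q : ℕ) (g : LL l ≃+ LL l) (R : Set (LL l)) (c : ℕ) : Prop :=
  ∃ (u v : M.Group) (n L k : ℕ) (J : Finset (LL l)) (m K a : LL l → ℕ), (∀ b ∈ R, ac hp u b ∈ R) ∧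
    (∀ x, ac hp u (g x) = g (ac hp u x)) ∧ (v = u ^ dM l ∨ ((dM l).Coprime q ∧ v = u)) ∧ v ^ n = 1 ∧ n.Coprime q ∧ (∀ b ∈ J, RT hp b) ∧
    (∀ x, RT hp x → ∃ b ∈ J, ∃ i : ℕ, x = ac hp (v ^ i) b) ∧
    (∀ b ∈ J, L ≤ a b ∨ (ac hp (v ^ m b) b = b ∧ L * dM l ≤ a b * K b ∧
      OrdGe q g (∑ i ∈ Finset.range (m b), ac hp (v ^ i) b) (K b))) ∧
    ∑ b ∈ J, a b < (k + 1) * L ∧
    (nmk D l * (q ^ k * (q + 1) ^ l) ≤ c ∨
      (D = chevE6 ∧ ¬ 3 ∣ q ∧ (∀ x, ∑ i ∈ Finset.range n, ac hp (v ^ i) x = 0) ∧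
        nmk D l * (q ^ (k - l) * (q + 1) ^ l) ≤ c))

/-- **`F₄(2)`: a lift of an element of the Weyl group** -/
def ElU (q : ℕ) (g : LL l ≃+ LL l) (R : Set (LL l)) (c : ℕ) : Prop :=
  D = chevF4 ∧ q = 2 ∧ ∃ u : M.Group, (∀ b ∈ R, ac hp u b ∈ R) ∧ (∀ x, ac hp u (g x) = g (ac hp u x)) ∧
    ∃ e ∈ tab42, e.1 ∣ orderOf u ∧ e.2 ≤ c

/-- **the certificate** -/
def Cert (q : ℕ) (g : LL l ≃+ LL l) (R : Set (LL l)) : Prop :=
  ∃ n c, Bd hp q g R n ∧ (ElT hp q g c ∨ ElA hp q g R c ∨ ElU hp q g R c) ∧ 2 ≤ c ∧ dM l * (c ^ 3 * n) ≤ ordU l q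

/-- the conclusion on the lattice -/
def Fin' (q : ℕ) (g : LL l ≃+ LL l) (R : Set (LL l)) : Prop := ∃ g' R', Mv hp g R g' R' ∧ Cert hp q g' R'

end Lattice

section Group

variable {D : ChevalleyDatum} {l : ℕ} {M : CoxeterMatrix (Fin l)} (hp : IsType D l M) (p : ℕ) [Fact p.Prime]

/-- `β` normalises the torus and permutes the root groups as `h` -/
structure WF (β : MulAut (YY D p)) (h : LL l → LL l) : Prop where
  tor : ∀ t, β t ∈ TT D (KK p) ↔ t ∈ TT D (KK p)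
  map : ∀ a, RT hp a → ∀ y, β y ∈ XX D l (KK p) (h a) ↔ y ∈ XX D l (KK p) a

variable {p} in
/-- `N` is invariant under `Γ` -/
def Iv (Γ : Subgroup (MulAut (YY D p))) (N : Subgroup (YY D p)) : Prop := ∀ φ ∈ Γ, ∀ y ∈ N, φ y ∈ N

/-- the order of the centraliser of `b` in `K` -/
noncomputable def cK {Y : Type} [Group Y] (K : Subgroup Y) (b : Y) : ℕ := Nat.card ↥(K ⊓ Subgroup.centralizer {b})

/-- **the conclusion** -/
def Gb {Y : Type} [Group Y] (K B : Subgroup Y) : Prop := ∃ b ∈ B, cK K b ^ 3 * Nat.card B ≤ Nat.card K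

/-- **the context**: `K = ι T`, `B = ι (H ⊓ T)`, `Γ` = the lifts of `H` -/
structure Co (e : ℕ) (σ : MulAut (YY D p)) (Γ : Subgroup (MulAut (YY D p))) (K B : Subgroup (YY D p)) : Prop where
  typ : Typ D
  he : 0 < e
  frob : IsFrob p e σ
  fr : ∃ y g, FR hp p (MulAut.conj y * σ) g ∧ GW hp g
  fin : Finite (DL.fix σ)
  mem : σ ∈ Γ
  comm : ∀ φ ∈ Γ, φ * σ = σ * φ
  K_le : K ≤ DL.fix σ
  pow : ∀ y, σ y = y → y ^ dM l ∈ K
  cmt : ∀ y z, σ y = y → σ z = z → y * z * y⁻¹ * z⁻¹ ∈ K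
  B_le : B ≤ K
  conj : ∀ b ∈ B, MulAut.conj b ∈ Γ
  max : ∀ N, Iv Γ N → ¬ K ≤ N → K ⊓ N ≤ B
  ord : ordU l (p ^ e) ≤ dM l * Nat.card K
  lift : ∀ φ ∈ Γ, ∃ y h, WF hp p (MulAut.conj y * φ) h ∧ Ok hp (D = chevF4 ∧ p = 2) h
  f42 : D = chevF4 → p ^ e = 2 → ∀ b ∈ K, ∀ t ∈ tab42, t.1 ∣ orderOf b → cK K b ≤ t.2

/-- an invariant conjugate of `MR R`, `R` not spanning the lattice -/
def HasR (Γ : Subgroup (MulAut (YY D p))) : Prop :=
  ∃ (x : YY D p) (R : Set (LL l)), Sy hp R ∧ Pp hp R ∧ Iv Γ (TH.cj x (MR D p R))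

/-- **the framed context at a maximal set of roots** -/
structure Sit (e : ℕ) (σ : MulAut (YY D p)) (g : LL l ≃+ LL l) (Γ : Subgroup (MulAut (YY D p)))
    (K B : Subgroup (YY D p)) (R : Set (LL l)) : Prop where
  co : Co hp p e σ Γ K B
  fr : FR hp p σ g
  gw : GW hp g
  sy : Sy hp R
  pp : Pp hp R
  inv : Iv Γ (MR D p R)
  max : ∀ R', R ⊆ R' → Sy hp R' → Pp hp R' → Iv Γ (MR D p R') → R' ⊆ R

end Group

/-- a property of a framed context -/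
abbrev PS : Type := ∀ (D : ChevalleyDatum) (l : ℕ) (M : CoxeterMatrix (Fin l)) (_ : IsType D l M) (p : ℕ) [Fact p.Prime]
  (_ : ℕ) (_ : MulAut (YY D p)) (_ : LL l ≃+ LL l) (_ : Subgroup (MulAut (YY D p))) (_ _ : Subgroup (YY D p)),
  Set (LL l) → Prop

/-- `P` holds in every framed context -/
def OnS (P : PS) : Prop := ∀ (D : ChevalleyDatum) (l : ℕ) (M : CoxeterMatrix (Fin l)) (hp : IsType D l M) (p : ℕ)
  [Fact p.Prime] (e : ℕ) (σ : MulAut (YY D p)) (g : LL l ≃+ LL l) (Γ : Subgroup (MulAut (YY D p)))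
  (K B : Subgroup (YY D p)) (R : Set (LL l)), Sit hp p e σ g Γ K B R → P D l M hp p e σ g Γ K B R

/-- [F42] the centralisers in `F₄(2)` -/
def BoxF42 : Prop := ∀ (F : Type) [Field F] [Fintype F], Fintype.card F = 2 →
  ∀ a : chevF4.group F, ∀ t ∈ tab42, t.1 ∣ orderOf a → cn a ≤ t.2

/-- [CO] the context of a frame -/
def BoxCo : Prop := BoxF42 → On0 fun _ _ _ hp p _ f _ _ T F H =>
  Co hp p f F.L.σ (F.L.GH H) F.L.ι.range (im F.L H) ∧ (Gb F.L.ι.range (im F.L H) → Gd T H)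

/-- the statement on `F₄`: a set of roots closed under its reflections which spans the lattice contains the short roots -/
def F4S : Prop := ∀ (M : CoxeterMatrix (Fin 4)) (hp : IsType chevF4 4 M) (R : Set (LL 4)), Sy hp R → Rc hp R → ¬ Pp hp R →
  ∀ a, RT hp a → (∃ b, RT hp b ∧ b ≠ a ∧ cp hp b a = 2) → a ∈ R

/-- [RED] reduction to a set of roots which does not span the lattice (exceptional isogeny for `F₄`, `p = 2`) -/
def BoxRed : Prop := F4S → ∀ (D : ChevalleyDatum) (l : ℕ) (M : CoxeterMatrix (Fin l)) (hp : IsType D l M) (p : ℕ)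
  [Fact p.Prime] (e : ℕ) (σ : MulAut (YY D p)) (Γ : Subgroup (MulAut (YY D p))) (K B : Subgroup (YY D p)),
  Co hp p e σ Γ K B → ∀ (x : YY D p) (Ψ : Set (LL l)), RC hp Ψ → MR D p Ψ ≠ ⊤ → Iv Γ (TH.cj x (MR D p Ψ)) →
    ∃ σ' Γ' K' B', Co hp p e σ' Γ' K' B' ∧ HasR hp p Γ' ∧ (Gb K' B' → Gb K B)

/-- [NRM] normalisation -/
def BoxNrm : Prop := ∀ (D : ChevalleyDatum) (l : ℕ) (M : CoxeterMatrix (Fin l)) (hp : IsType D l M) (p : ℕ)
  [Fact p.Prime] (e : ℕ) (σ : MulAut (YY D p)) (Γ : Subgroup (MulAut (YY D p))) (K B : Subgroup (YY D p)),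
  Co hp p e σ Γ K B → HasR hp p Γ → ∃ σ' g Γ' K' B' R, Sit hp p e σ' g Γ' K' B' R ∧ (Gb K' B' → Gb K B)

/-- [LM] the maximality on the lattice -/
def BoxLM : Prop := OnS fun D _ _ hp p _ _ _ g _ _ _ R => LM hp (D = chevF4 ∧ p = 2) g R

/-- [MV] change of frame -/
def BoxMv : Prop := OnS fun _ _ _ hp p _ e _ g _ K B R => ∀ g' R', Mv hp g R g' R' →
  ∃ σ' Γ' K' B', Sit hp p e σ' g' Γ' K' B' R' ∧ (Gb K' B' → Gb K B)

/-- [SUB] the order of the finite subsystem subgroup -/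
def BoxSub : Prop := ∀ (D : ChevalleyDatum) (l : ℕ) (M : CoxeterMatrix (Fin l)) (hp : IsType D l M) (p : ℕ)
  [Fact p.Prime] (e : ℕ) (σ : MulAut (YY D p)) (g : LL l ≃+ LL l) (R : Set (LL l)), 0 < e → IsFrob p e σ →
  FR hp p σ g → Sy hp R → Rc hp R → (Cl hp R ∨ (D = chevF4 ∧ p = 2)) → (∀ a ∈ R, g a ∈ R) →
    Nat.card ↥(DL.fix σ ⊓ MR D p R) ≤ (p ^ e) ^ R.ncard * (p ^ e + 1) ^ l

/-- [BD] the order of the finite normaliser -/
def BoxBd : Prop := OnS fun D _ _ hp p _ e σ g _ _ _ R => ∀ n, Bd hp (p ^ e) g R n →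
  Nat.card ↥(DL.fix σ ⊓ Subgroup.normalizer (MR D p R : Set (YY D p))) ≤ n

/-- there is an element of `K` normalising `MR R` with a centraliser of order at most `c` -/
def HasE {D : ChevalleyDatum} {l : ℕ} (p : ℕ) [Fact p.Prime] (K : Subgroup (YY D p)) (R : Set (LL l)) (c : ℕ) : Prop :=
  ∃ y ∈ K, y ∈ Subgroup.normalizer (MR D p R : Set (YY D p)) ∧ cK K y ≤ c

/-- [ELT] elements of the torus; lifts in `F₄(2)` -/
def BoxElT : Prop := OnS fun _ _ _ hp p _ e _ g _ K _ R => ∀ c,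
  ElT hp (p ^ e) g c ∨ ElU hp (p ^ e) g R c → HasE p K R c

/-- [ELA] averaging -/
def BoxElA : Prop := OnS fun _ _ _ hp p _ e _ g _ K _ R => ∀ c, ElA hp (p ^ e) g R c → HasE p K R c

/-- [KT] `Y^σ = K T^σ` -/
def BoxKT : Prop := OnS fun D l _ _ p _ _ σ _ _ K _ _ => (dM l).Coprime p → ∀ y, σ y = y →
  ∃ t ∈ TT D (KK p), σ t = t ∧ y * t ∈ K

/-- [LAT] the classification and the certificates, `R ≠ ∅` or `F₄` -/
def BoxLat : Prop := ∀ (D : ChevalleyDatum) (l : ℕ) (M : CoxeterMatrix (Fin l)) (hp : IsType D l M), Typ D →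
  ∀ (p e : ℕ), p.Prime → 0 < e → ∀ (g : LL l ≃+ LL l) (R : Set (LL l)), LM hp (D = chevF4 ∧ p = 2) g R →
    (R = ∅ → D = chevF4) → Fin' hp (p ^ e) g R

/-- [TOR] maximal tori of `E₆, E₇, E₈` -/
def BoxTor : Prop := ∀ (D : ChevalleyDatum) (l : ℕ) (M : CoxeterMatrix (Fin l)) (hp : IsType D l M), Typ D →
  D ≠ chevF4 → ∀ (p e : ℕ), p.Prime → 0 < e → ∀ (g : LL l ≃+ LL l), LM hp False g ∅ → Fin' hp (p ^ e) g ∅

theorem iv_normalizer {D : ChevalleyDatum} {p : ℕ} [Fact p.Prime] {Γ : Subgroup (MulAut (YY D p))}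
    {N : Subgroup (YY D p)} (h : Iv Γ N) : Iv Γ (Subgroup.normalizer (N : Set (YY D p))) := by
  intro φ hφ y hy
  rw [Subgroup.mem_normalizer_iff] at hy ⊢
  intro x
  have e : φ y * x * (φ y)⁻¹ = φ (y * φ⁻¹ x * y⁻¹) := by simp
  constructor
  · intro hx
    rw [e]
    exact h φ hφ _ ((hy _).1 (h φ⁻¹ (inv_mem hφ) x hx))
  · intro hx
    have h1 := h φ⁻¹ (inv_mem hφ) _ hx
    rw [e] at h1
    have h2 := h φ hφ _ ((hy _).2 (by simpa using h1))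
    simpa using h2

theorem dM_pos (l : ℕ) : 0 < dM l := by unfold dM; split_ifs <;> norm_num

theorem gb_of (h6 : BoxBd) (h7 : BoxElT) (h8 : BoxElA) :
    OnS fun _ _ _ hp p _ e _ g _ K B R => Cert hp (p ^ e) g R → Gb K B := by
  rintro D l M hp p _ e σ g Γ K B R S ⟨n, c, hn, hc, h2, hi⟩
  have k1 := h6 D l M hp p e σ g Γ K B R S n hn
  obtain ⟨y, hy, hy', k2⟩ : HasE p K R c := by
    rcases hc with hc | hc | hc
    · exact h7 D l M hp p e σ g Γ K B R S c (Or.inl hc)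
    · exact h8 D l M hp p e σ g Γ K B R S c hc
    · exact h7 D l M hp p e σ g Γ K B R S c (Or.inr hc)
  have hf := S.co.fin
  have hfN : Finite ↥(DL.fix σ ⊓ Subgroup.normalizer (MR D p R : Set (YY D p))) :=
    Finite.of_injective _ (Subgroup.inclusion_injective inf_le_left)
  have k3 : c ^ 3 * n ≤ Nat.card K := Nat.le_of_mul_le_mul_left (hi.trans S.co.ord) (dM_pos l)
  have k4 : ¬ K ≤ Subgroup.normalizer (MR D p R : Set (YY D p)) := fun h => by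
    have h1 := (Subgroup.card_le_of_le (le_inf S.co.K_le h)).trans k1
    have hK : Finite K := Finite.of_injective _ (Subgroup.inclusion_injective S.co.K_le)
    have h3 : 0 < Nat.card K := Nat.card_pos
    have h4 : 2 ^ 3 ≤ c ^ 3 := Nat.pow_le_pow_left h2 3
    have h5 : 2 ^ 3 * n ≤ c ^ 3 * n := Nat.mul_le_mul_right _ h4
    omega
  have k5 : B ≤ Subgroup.normalizer (MR D p R : Set (YY D p)) := fun b hb => by
    rw [Subgroup.mem_normalizer_iff]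
    refine fun x => ⟨fun hx => S.inv _ (S.co.conj b hb) x hx, fun hx => ?_⟩
    simpa [mul_assoc] using S.inv _ (S.co.conj _ (inv_mem hb)) _ hx
  refine ⟨y, S.co.max _ (iv_normalizer S.inv) k4 ⟨hy, hy'⟩, le_trans ?_ k3⟩
  exact Nat.mul_le_mul (Nat.pow_le_pow_left k2 3)
    ((Subgroup.card_le_of_le (le_inf (S.co.B_le.trans S.co.K_le) k5)).trans k1)

/-- **assembly** -/
theorem boxAl_of (h0 : BoxF42) (h1 : BoxCo) (hS : F4S) (h2 : BoxRed) (h3 : BoxNrm) (h4 : BoxLM) (h5 : BoxMv) (h6 : BoxBd)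
    (h7 : BoxElT) (h8 : BoxElA) (h9 : BoxLat) (h10 : BoxTor) : BoxAl := by
  rintro D l M hp p _ tw f G _ _ T H F C ⟨x, Ψ, a1, a2, a3⟩
  obtain ⟨c1, c2⟩ := h1 h0 D l M hp p tw f G T H F C
  obtain ⟨σ₁, Γ₁, K₁, B₁, d1, d2, d3⟩ := h2 hS D l M hp p f _ _ _ _ c1 x Ψ a1 a2 (F.L.inv_iff.1 a3)
  obtain ⟨σ₂, g, Γ₂, K₂, B₂, R, S, e2⟩ := h3 D l M hp p f _ _ _ _ d1 d2
  have k := h4 D l M hp p f _ _ _ _ _ _ S
  obtain ⟨g', R', m1, m2⟩ : Fin' hp (p ^ f) g R := by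
    by_cases h : R = ∅ → D = chevF4
    · exact h9 D l M hp C.typ p f Fact.out c1.he g R k h
    · push Not at h
      obtain ⟨rfl, h⟩ := h
      refine h10 D l M hp C.typ h p f Fact.out c1.he g ?_
      simpa only [h, false_and] using k
  obtain ⟨σ₃, Γ₃, K₃, B₃, S', e3⟩ := h5 D l M hp p f _ _ _ _ _ _ S g' R' m1
  exact c2 (d3 (e2 (e3 (gb_of h6 h7 h8 D l M hp p f _ _ _ _ _ _ S' m2))))

end Cfsg.Agent.N2.Ex.Al
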