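import Cfsg.Agent.N2.Ex.Al.Defs
import Cfsg.Agent.TAB.F42.G.Out
import Cfsg.Agent.Characters.Core

/-!
# N2, subgroups of maximal rank: the centralisers in `F₄(2)` (helper67)

The 95 classes lie in 92 types; the types `68`, `74`, `77` consist of two classes, so every other type is one class.
-/

set_option autoImplicit false
set_option maxRecDepth 100000
set_option maxHeartbeats 400000

namespace Cfsg.Agent.N2.Ex.Al.F42

open Cfsg Cfsg.Lie Cfsg.Agent.FourTwo.Base Cfsg.Agent.TAB.Eng Cfsg.Agent.TAB.Co Cfsg.Agent.TAB.Use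
open Cfsg.Agent.TAB.F42 Cfsg.Agent.TAB.F42.G
open Cfsg.Agent.H123.Cls
open Cfsg.Agent.Lib.BitNetSimple (force force_eq)
open Cfsg.Agent.Lib.BitNet (value)

/-- the group `F₄(2)` of the table -/
abbrev GG : Type := FourTwo.Base.LL

/-- a type with two classes -/
def Two (t c : ℕ) : Prop := ∃ x y : GG, Ty key D val t x ∧ Ty key D val t y ∧
  D.cnt t ≤ Nat.card {g : GG // IsConj x g ∨ IsConj y g} ∧ ¬ IsConj x y ∧ cn x ≤ c ∧ cn y ≤ c

theorem two_of {t : ℕ} (ht : t < 92) {r : RD} (he : r.e ≠ 1) (h : chkR t r = true) : Two t (r.st.map St.c).prod := by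
  have := finite_LL
  obtain ⟨h0, h⟩ := band_true h
  obtain ⟨W, hW, e1⟩ := wdF_spec r.w
  obtain ⟨R, hR, e2⟩ := pwF_spec hW r.k
  obtain ⟨W', hW', e3⟩ := wdF_spec (r.w.map bar)
  obtain ⟨R', hR', e4⟩ := pwF_spec hW' r.k
  rw [e1, e2, e3, e4] at h
  rw [← gam_wd r.w fun a ha => Nat.blt_eq.mp (allL_spec h0 a ha), ← map_pow] at hR'
  obtain ⟨x, hx⟩ : ∃ x, x = wd r.w ^ r.k := ⟨_, rfl⟩
  rw [← hx] at hR hR'
  obtain ⟨h1, h⟩ := band_true h
  obtain ⟨h2, h⟩ := band_true h
  obtain ⟨h3, h⟩ := band_true h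
  obtain ⟨h4, h⟩ := band_true h
  obtain ⟨O, hO, e5⟩ := pwF_spec hR (D.ord t)
  rw [e5] at h1
  have h5 : x ^ D.ord t = 1 := (oneB_iff hO).1 h1
  have h6 : Ty key D val t x := ty_of_vals okOrd_D key_one ht h5 fun p hp => by
    have h7 := allL_spec h2 p hp
    obtain ⟨A, hA, e6⟩ := pwF_spec hR p.1
    obtain ⟨A', hA', e7⟩ := pwF_spec hR' p.1
    rw [e6, e7] at h7
    rw [← map_pow] at hA'
    exact keyB_spec hA hA' h7
  have h8 := cent_le' lanesX (by norm_num) hR h4
  have hN : Nat.card GG = D.N := card_LL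
  rw [cnd_beq, if_neg he] at h
  obtain ⟨S, hS, e6⟩ := pwF_spec hR r.e
  obtain ⟨S', hS', e7⟩ := pwF_spec hR' r.e
  rw [e6, e7] at h
  obtain ⟨g1, h⟩ := band_true h
  obtain ⟨g2, h⟩ := band_true h
  obtain ⟨g3, h⟩ := band_true h
  obtain ⟨g4, h⟩ := band_true h
  obtain ⟨g5, h⟩ := band_true h
  obtain ⟨g6, g7⟩ := band_true h
  have g8 : r.e * r.f % D.ord t = 1 := Nat.eq_of_beq_eq_true g3
  have g9 : (x ^ r.e) ^ r.f = x := by
    rw [← pow_mul, ← Nat.div_add_mod (r.e * r.f) (D.ord t), g8, pow_add, pow_mul, h5, one_pow, one_mul, pow_one]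
  have g10 : Nat.Coprime r.e (orderOf x) := by
    rw [h6.1]
    exact Nat.Coprime.coprime_mul_right (k := r.f) (Nat.coprime_of_mul_modEq_one 1 (by
      rw [mul_one, Nat.ModEq, g8]
      have : D.ord t ≠ 1 := fun h => by rw [h, Nat.mod_one] at g8; exact zero_ne_one g8
      have : D.ord t ≠ 0 := h6.1 ▸ (orderOf_pos x).ne'
      exact (Nat.mod_eq_of_lt (by omega)).symm))
  have g11 := Nat.eq_of_beq_eq_true g7
  rw [cX] at g11
  have g12 := not_conj' lanesX (by norm_num) hR hS (Nat.blt_eq.mp g4) g5 g6 g11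
  refine ⟨x, x ^ r.e, h6, ty_rc h6 ⟨r.e, g10, IsConj.refl _⟩, ?_, g12, h8, ?_⟩
  · refine (Nat.le_of_ble_eq_true g2).trans ?_
    rw [← hN]
    exact le_two h8 g9 g12
  · refine (Subgroup.card_le_of_le fun g hg => ?_).trans h8
    rw [Subgroup.mem_centralizer_singleton_iff] at hg ⊢
    rw [← g9]
    exact (Commute.pow_right hg r.f).eq

theorem t68 : Two 68 48 := two_of (by norm_num) (r :=
  ⟨[22, 38, 9, 26, 21, 13], 1, [⟨15286150, [80, 8243, 208, 24595, 208, 41011, 208, 57363, 208, 73779, 65939, 66739,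
   82867], [80, 80, 16595, 208, 24915, 41427, 33235, 464, 41555, 58067, 74579, 91091, 66515, 107603, 83027, 91219,
   1104, 83155, 107859, 124371, 140883, 157395, 182099, 132947, 74707], 48⟩], [32341351, 2822830, 40669071,
   37910192, 6571183, 4729243, 55554956, 31681206, 12225434, 61644775, 44053796, 26106835, 2521015, 32853618,
   60566737, 55836262, 32521044, 11702066, 7748261, 16234793, 41240635, 3046162, 46905757, 61731882, 66449033,
   11677471], 11, 11, 53113920, [80, 80, 80, 24787, 8275, 385089]⟩)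
  (by decide) (by decide +kernel)

theorem t74 : Two 74 64 := two_of (by norm_num) (r :=
  ⟨[14, 44, 2, 43, 21], 1, [⟨12145621, [80, 8211, 208, 24595, 208, 41011, 208, 57395, 208, 73779, 58419, 74515,
   82355], [80, 80, 16595, 208, 24915, 41427, 33235, 464, 41555, 58067, 74579, 91091, 66515, 107603, 83027, 976,
   74835, 91347, 107859, 124371, 140883, 157395, 173907, 141139, 182227], 64⟩], [2541575, 4640024, 31574489,
   25503064, 2184668, 41032084, 29410541, 44318101, 49802669, 65457791, 29071596, 44621517, 45973830, 57233679,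
   20634949, 42416189, 1442117, 29311048, 38048, 67017644, 20682916, 28547480, 28858604, 24398206, 48976195,
   32870708], 15, 15, 11302897, [80, 80, 80, 80, 80, 41555, 32851, 339, 532545]⟩)
  (by decide) (by decide +kernel)

theorem t77 : Two 77 17 := two_of (by norm_num) (r :=
  ⟨[14, 20, 4, 22, 47, 23], 1, [⟨2785572, [80, 8211, 208, 24595, 208, 40979, 208, 57395, 49587, 57651, 58419, 592,
   81971, 106643, 82195], [80, 80, 16595, 208, 24915, 41427, 33235, 464, 41555, 58067, 74579, 91091, 66515, 107603,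
   83027, 91219, 1104, 83155, 99667, 116179, 132691, 149203, 165715, 190419, 133075], 17⟩], [55311864, 1193681,
   16669166, 32004607, 20028496, 11972289, 56732185, 54557769, 47508553, 15005507, 30281185, 59014217, 8658258,
   17637376, 20658848, 6032906, 6281401, 51969839, 50305257, 12158852, 40093071, 56716743, 63960314, 12850514,
   20971520, 62975049], 3, 6, 28634430, [80, 80, 16467, 16595, 32851, 464, 211, 1187905]⟩)
  (by decide) (by decide +kernel)

/-- the number of the classes -/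
theorem le_classes {G : Type} [Group G] [Finite G] {E : Dat} (T : TD G E) (hI : Inh T) (S : Finset ℕ)
    (hS : S ⊆ Finset.range E.n) (h2 : ∀ t ∈ S, ∃ x y, T.ty x = t ∧ T.ty y = t ∧ ¬ IsConj x y) :
    E.n + S.card ≤ Nat.card (ConjClasses G) := by
  classical
  have := Fintype.ofFinite (ConjClasses G)
  have hc : ∀ a b : G, IsConj a b → T.ty a = T.ty b := fun a b h => by
    obtain ⟨c, rfl⟩ := isConj_iff.1 h
    exact (T.conj a c).symm
  let f : ConjClasses G → ℕ := Quotient.lift T.ty hc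
  have hf : ∀ a : G, f (ConjClasses.mk a) = T.ty a := fun _ => rfl
  have h1 : (Finset.univ : Finset (ConjClasses G)).card =
      ∑ t ∈ Finset.range E.n, (Finset.univ.filter fun c => f c = t).card :=
    Finset.card_eq_sum_card_fiberwise fun c _ => by
      obtain ⟨a, rfl⟩ := ConjClasses.exists_rep c
      exact Finset.mem_coe.2 (Finset.mem_range.2 (T.lt a))
  rw [Nat.card_eq_fintype_card, ← Finset.card_univ, h1]
  have h3 : E.n + S.card = ∑ t ∈ Finset.range E.n, (1 + if t ∈ S then 1 else 0) := by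
    rw [Finset.sum_add_distrib, Finset.sum_const, Finset.card_range, smul_eq_mul, mul_one, Finset.sum_boole,
      Finset.filter_mem_eq_inter, Finset.inter_eq_right.2 hS, Nat.cast_id]
  rw [h3]
  refine Finset.sum_le_sum fun t ht => ?_
  split_ifs with h
  · obtain ⟨x, y, hx, hy, hxy⟩ := h2 t h
    refine Finset.one_lt_card.2 ⟨ConjClasses.mk x, by simp [hf, hx], ConjClasses.mk y, by simp [hf, hy], fun e => ?_⟩
    exact hxy (ConjClasses.mk_eq_mk_iff_isConj.1 e)
  · obtain ⟨x, hx⟩ := hI t (Finset.mem_range.1 ht)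
    exact Finset.card_pos.2 ⟨ConjClasses.mk x, by simp [hf, hx]⟩

theorem card_enum {G : Type} [Group G] [Finite G] {L : List ℕ} (h : DegList G L) :
    Nat.card (ConjClasses G) ≤ L.length := by
  obtain ⟨χ, h⟩ := h
  rw [← Characters.Core.card_irr]
  refine (Nat.card_le_card_of_surjective (fun j : Fin L.length => (⟨χ j, h.irr j j.2⟩ : IrrCharacter G))
    fun ψ => ?_).trans (by simp)
  obtain ⟨j, hj, e⟩ := h.all ψ ψ.2
  exact ⟨⟨j, hj⟩, Subtype.ext e.symm⟩

/-- the bound for the types with two classes -/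
def bd (t : ℕ) : ℕ := if t = 68 then 48 else if t = 74 then 64 else 17

theorem cn_conj {G : Type} [Group G] [Finite G] {x g : G} (h : IsConj x g) : cn g = cn x := by
  have h1 := card_class x
  have h2 := card_class g
  have h3 : Nat.card {y : G // IsConj g y} = Nat.card {y : G // IsConj x y} :=
    Nat.card_congr (Equiv.subtypeEquivRight fun y => ⟨h.trans, h.symm.trans⟩)
  have h4 : 0 < Nat.card {y : G // IsConj x y} := Nat.card_pos_iff.2 ⟨⟨⟨x, IsConj.refl _⟩⟩, inferInstance⟩
  rw [h3, ← h1] at h2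
  exact Nat.eq_of_mul_eq_mul_left h4 h2

theorem num : ∀ t < 92, ∀ s ∈ tab42, s.1 ∣ D.ord t →
    if t = 68 ∨ t = 74 ∨ t = 77 then bd t ≤ s.2 else D.N ≤ D.cnt t * s.2 ∧ 0 < D.cnt t := by
  decide +kernel

theorem main (a : GG) : ∀ s ∈ tab42, s.1 ∣ orderOf a → cn a ≤ s.2 := by
  have := finite_LL
  have hsep : D.okSep val = true := by decide +kernel
  have h2 : ∀ t, t = 68 ∨ t = 74 ∨ t = 77 → Two t (bd t) := by
    rintro t (rfl | rfl | rfl)
    exacts [t68, t74, t77]
  obtain ⟨T, hm, hV⟩ := exists_cls (K := key) (D := D) (val := val) (by decide +kernel) hsep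
    (by decide +kernel) card_LL (V := fun t g => Ty key D val t g ∧ (t = 68 ∨ t = 74 ∨ t = 77 → cn g ≤ bd t))
    (fun _ _ _ hv hc => ⟨hv.1.isConj hc, fun h => (cn_conj hc).le.trans (hv.2 h)⟩) fun t ht => by
      by_cases h : t = 68 ∨ t = 74 ∨ t = 77
      · obtain ⟨x, y, a1, a2, a3, -, a4, a5⟩ := h2 t h
        exact ⟨x, y, a1, a2, a3, ⟨a1, fun _ => a4⟩, a2, fun _ => a5⟩
      · obtain ⟨x, y, a1, a2, a3, -⟩ := good_all t ht
        exact ⟨x, y, a1, a2, a3, ⟨a1, fun k => absurd k h⟩, a2, fun k => absurd k h⟩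
  have hty : ∀ t < D.n, ∀ g, Ty key D val t g → T.ty g = t := fun t ht g hg => Ty.unique hsep (T.lt g) ht (hV g).1 hg
  have hI : Inh T := inh_of_mass hm fun i hi => (one_spec i hi).2
  have hk : Nat.card (ConjClasses FourTwo.Base.LL) ≤ 95 := card_enum (deg (ZMod 2) (ZMod.card 2))
  intro s hs ho
  have h3 := num _ (T.lt a) s hs (T.ord a ▸ ho)
  split_ifs at h3 with h
  · exact ((hV a).2 h).trans h3
  have h4 : ∀ g, T.ty g = T.ty a → IsConj a g := fun g hg => by
    by_contra hc
    have h5 := le_classes T hI (insert (T.ty a) {68, 74, 77}) (by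
      intro t ht
      simp only [Finset.mem_insert, Finset.mem_singleton] at ht
      rcases ht with rfl | rfl | rfl | rfl
      · exact Finset.mem_range.2 (T.lt a)
      all_goals decide) (by
      intro t ht
      simp only [Finset.mem_insert, Finset.mem_singleton] at ht
      rcases ht with rfl | ht
      · exact ⟨a, g, rfl, hg, hc⟩
      · obtain ⟨x, y, a1, a2, -, a3, -⟩ := h2 t ht
        have h6 : t < D.n := by rcases ht with rfl | rfl | rfl <;> decide
        exact ⟨x, y, hty t h6 x a1, hty t h6 y a2, a3⟩)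
    rw [Finset.card_insert_of_notMem (by simpa using h)] at h5
    have h6 : D.n = 92 := rfl
    have h7 : ({68, 74, 77} : Finset ℕ).card = 3 := rfl
    omega
  have h5 : D.cnt (T.ty a) ≤ Nat.card {g : GG // IsConj a g} := by
    rw [← hm.2 _ (T.lt a)]
    exact Nat.card_le_card_of_injective (fun g => ⟨g.1, h4 g.1 g.2⟩) fun _ _ e => Subtype.ext (congrArg Subtype.val e :)
  have h6 := card_class a
  rw [hm.1] at h6
  refine Nat.le_of_mul_le_mul_left (le_trans ?_ h3.1) h3.2
  rw [← h6]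
  exact Nat.mul_le_mul_right _ h5

end Cfsg.Agent.N2.Ex.Al.F42

/-- **the centralisers in `F₄(2)`** -/
theorem Cfsg.Agent.N2.Ex.Al.boxF42 : Cfsg.Agent.N2.Ex.Al.BoxF42 := by
  intro F _ _ hF a t ht ho
  obtain ⟨e⟩ := Cfsg.Agent.TAB.F42.iso F hF
  obtain ⟨b, rfl⟩ := e.surjective a
  rw [MulEquiv.orderOf_eq] at ho
  refine le_trans (le_of_eq ?_) (Cfsg.Agent.N2.Ex.Al.F42.main b t ht ho)
  refine (Nat.card_congr (e.toEquiv.subtypeEquiv fun g => ?_)).symm
  simp only [Subgroup.mem_centralizer_singleton_iff, MulEquiv.toEquiv_eq_coe, MulEquiv.coe_toEquiv, ← map_mul,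
    e.injective.eq_iff]
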