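import Cfsg.Agent.N2.Ex.Al.Defs
import Cfsg.Agent.KZ.Mts.Main
import Cfsg.Agent.KZ.Lie.Cen

/-!
# N2 (S3519), subgroups of maximal rank: `Y ^ σ = K T ^ σ` (helper90)
-/

set_option autoImplicit false
set_option linter.unusedSectionVars false

namespace Cfsg.Agent.N2.Ex.Al.KT

section Dat

open Cfsg.Agent.Nodes.Reps Cfsg.Agent.DL Cfsg.Agent.DL.PP Cfsg.Agent.DL.Uni Cfsg.Agent.DL.Asm Cfsg.Agent.KZ.Lie Cfsg.Agent.KZ.Lie.ApiE

theorem exists_lin {H : Type} [Group H] [Finite H] {K : Subgroup H} (hK : ∀ x y : H, x * y * x⁻¹ * y⁻¹ ∈ K) {x : H}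
    (hx : x ∉ K) : ∃ l : H →* ℂˣ, (∀ n ∈ K, l n = 1) ∧ l x ≠ 1 := by
  have : K.Normal := ⟨fun n hn g => by
    have := K.mul_mem (hK g n) hn
    rwa [inv_mul_cancel_right] at this⟩
  let _ : CommGroup (H ⧸ K) := { (inferInstance : Group (H ⧸ K)) with
    mul_comm := fun a b => by
      obtain ⟨a, rfl⟩ := QuotientGroup.mk_surjective a
      obtain ⟨b, rfl⟩ := QuotientGroup.mk_surjective b
      rw [← QuotientGroup.mk_mul, ← QuotientGroup.mk_mul, QuotientGroup.eq]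
      simpa [mul_assoc] using hK b⁻¹ a⁻¹ }
  have : NeZero (Monoid.exponent (H ⧸ K)) := ⟨Monoid.exponent_ne_zero_of_finite⟩
  obtain ⟨φ, hφ⟩ := CommGroup.exists_apply_ne_one_of_hasEnoughRootsOfUnity (H ⧸ K) ℂ (a := (x : H ⧸ K))
    (mt (QuotientGroup.eq_one_iff x).1 hx)
  exact ⟨φ.comp (QuotientGroup.mk' K), fun n hn => by
    rw [MonoidHom.comp_apply, QuotientGroup.mk'_apply, (QuotientGroup.eq_one_iff n).2 hn, map_one], hφ⟩

variable {p : ℕ} [Fact p.Prime] {k : Type} [Field k] [CharP k p] {Y : Type} [Group Y] {N : Type} [Fintype N]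
  [DecidableEq N] {ρ : Y →* GL N k} {F : MulAut Y} {G : Subgroup Y} [IsAlgClosed k] (D : Datum p ρ F G)

/-- generation by the commutators, the `p`-elements and any torus -/
theorem eq_top (K : Subgroup ↥(GF F G)) (hK : ∀ x y, x * y * x⁻¹ * y⁻¹ ∈ K) (hU : ∀ u : ↥(GF F G), IsUni p (u : Y) → u ∈ K)
    (hT : ∀ t : ↥(GF F G), (t : Y) ∈ D.T → t ∈ K) : K = ⊤ := by
  have := finite_GF D
  refine eq_top_iff.2 fun x _ => by_contra fun hx => ?_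
  obtain ⟨l, h1, h2⟩ := exists_lin hK hx
  obtain ⟨f⟩ := nonempty_fr D
  have h3 : PL p (GF F G) (lin l) := pl_lin fun u hu => h1 u (hU u hu)
  obtain ⟨c, -, h4⟩ := unif KZ.Mts.boxExLin D f _ h3
  obtain ⟨w, hw⟩ : (1 : Y)⁻¹ * F 1 ∈ D.NN := ⟨1, rp11⟩
  have h5 : c = 1 := lab_uniq (h4 1 (one_mem G) ⟨w, hw⟩) fun v => by
    have h6 := nrm_mem f.L f.hζ (one_mem G) hw v
    rw [lin_apply _ h6.2, h1 _ (hT _ (by have h7 := h6.1; rwa [cj_one] at h7)), map_one]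
  obtain ⟨y, hy, hF, hq⟩ := D.exists_qs
  have h6 := PL.ext hq h3 ⟨isLin_one, fun _ _ _ => rfl⟩ fun t ht =>
    (h4 y hy hF).ext f.L f.hζ hy (D.rp_pr hF) (h5 ▸ lab_one f y) t ht
  exact h2 (Units.ext ((lin_coe l x).symm.trans (h6 x x.2)))

theorem exists_T' {K : Subgroup Y} (hK : ∀ y z, y ∈ GF F G → z ∈ GF F G → y * z * y⁻¹ * z⁻¹ ∈ K)
    (hU : ∀ u ∈ GF F G, IsUni p u → u ∈ K) {y : Y} (hy : y ∈ GF F G) : ∃ t ∈ D.T, F t = t ∧ y * t ∈ K := by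
  have : (K.subgroupOf (GF F G)).Normal := ⟨fun n hn g => by
    have := K.mul_mem (hK g n g.2 n.2) (show (n : Y) ∈ K from hn)
    rwa [inv_mul_cancel_right] at this⟩
  have h1 := eq_top D (K.subgroupOf (GF F G) ⊔ D.T.subgroupOf (GF F G))
    (fun a b => Subgroup.mem_sup_left (hK a b a.2 b.2)) (fun u hu => Subgroup.mem_sup_left (hU u u.2 hu))
    fun t ht => Subgroup.mem_sup_right ht
  obtain ⟨a, h2, t, h3, e⟩ := Subgroup.mem_sup_of_normal_left.1 (h1.ge (Subgroup.mem_top ⟨y, hy⟩))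
  refine ⟨(t⁻¹ : ↥(GF F G)), inv_mem h3, t⁻¹.2.2, ?_⟩
  rw [show y = a * t from (congrArg Subtype.val e).symm, Subgroup.coe_inv, mul_inv_cancel_right]
  exact h2

end Dat

open CoxeterSystem Cfsg Cfsg.Lie Cfsg.Lie.ChevalleyDatum
open Cfsg.Agent.ChevalleyStructure Cfsg.Agent.ChevalleyStructure.CoxeterGeom Cfsg.Agent.Tits.Roots Cfsg.Agent.Nodes
  Cfsg.Agent.Nodes.BNOf Cfsg.Agent.Nodes.RGDChev Cfsg.Agent.Nodes.Coroot
open Cfsg.Agent.KFacts.RgdChevCoord Cfsg.Agent.BpExc.Fr Cfsg.Agent.BpExc.LangFr Cfsg.Agent.BpExc.Zc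
open Cfsg.Agent.H469.Exc Cfsg.Agent.H316.U6 Cfsg.Agent.H129.TorusChar Cfsg.Agent.DS.Ex Cfsg.Agent.DS.Nt
open Cfsg.Agent.DS.Ex.Tor (FR)
open Cfsg.Agent.SB.Exc (dM)

variable {D : ChevalleyDatum} {l : ℕ} {M : CoxeterMatrix (Fin l)} {hp : IsType D l M} {p : ℕ} [Fact p.Prime] {e : ℕ}
  {σ : MulAut (YY D p)} {g : LL l ≃+ LL l} {Γ : Subgroup (MulAut (YY D p))} {K B : Subgroup (YY D p)}

/-- **`Y ^ σ = K T ^ σ`** -/
theorem exists_T (C : Co hp p e σ Γ K B) (Φ : FR hp p σ g) (h : (dM l).Coprime p) {y : YY D p} (hy : σ y = y) :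
    ∃ t ∈ TT D (KK p), σ t = t ∧ y * t ∈ K := by
  refine exists_T' (DL.Ex.chevFr hp (locFin p) C.he C.frob Φ) (fun y z hy hz => C.cmt y z hy.2 hz.2)
    (fun u hu ⟨j, hj⟩ => ?_) ⟨Subgroup.mem_top y, hy⟩
  obtain ⟨m, hm⟩ := exists_pow_eq_self_of_coprime (x := u) (n := dM l) (hj ▸ h.pow_right j)
  exact hm ▸ pow_mem (C.pow u hu.2) m

end Cfsg.Agent.N2.Ex.Al.KT

/-- **[KT]** -/
theorem Cfsg.Agent.N2.Ex.Al.boxKT : Cfsg.Agent.N2.Ex.Al.BoxKT :=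
  fun _ _ _ _ _ _ _ _ _ _ _ _ _ S h _ hy => Cfsg.Agent.N2.Ex.Al.KT.exists_T S.co S.fr h hy
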