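import Cfsg.Agent.N2.Ex.Al.RwF4
import Cfsg.Agent.N2.Ex.Al.RwE6
import Cfsg.Agent.N2.Ex.Al.RwE7
import Cfsg.Agent.N2.Ex.Al.RwE8
import Cfsg.Agent.N2.Ex.Al.SvF4
import Cfsg.Agent.N2.Ex.Al.SvE6
import Cfsg.Agent.N2.Ex.Al.SvE7
import Cfsg.Agent.N2.Ex.Al.SvE8

/-!
# N2, subgroups of maximal rank: `BoxLat` and `F4S` (helper40)
-/

set_option autoImplicit false

namespace Cfsg.Agent.N2.Ex.Al

open Cfsg Cfsg.Lie Cfsg.Agent.Nodes.RGDChev Cfsg.Agent.DS.Nt Ck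

theorem f4s : F4S := fun _ hp _ s1 s2 s3 a ha h =>
  (gsF4 hp).toGt.f4s_of rowF4 (by decide) rfl (P := shF4) (aL_iff.1 shsF4) s1 s2 s3 a ha h

theorem boxLat : BoxLat := by
  intro D l M hp hD
  rcases hD with rfl | rfl | rfl | rfl
  · obtain rfl := (typ_l hp).1 rfl
    exact (gsF4 hp).lat_of rowF4 (by decide) rfl staF4 (List.forall_mem_cons.2 ⟨goodF4_0 hp, List.forall_mem_cons.2
      ⟨goodF4_22 hp, List.forall_mem_cons.2 ⟨goodF4_27 hp, List.forall_mem_cons.2 ⟨goodF4_30 hp, List.forall_mem_cons.2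
      ⟨goodF4_33 hp, List.forall_mem_singleton.2 (goodF4_35 hp)⟩⟩⟩⟩⟩)
  · obtain rfl := (typ_l hp).2.1 rfl
    exact (gsE6 hp).lat_of rowE6 (by decide) rfl staE6 (List.forall_mem_cons.2 ⟨good_zero fun h =>
      absurd ((typ_l hp).1 h) (by decide), List.forall_mem_cons.2 ⟨goodE6_13 hp, List.forall_mem_cons.2 ⟨goodE6_16 hp,
      List.forall_mem_cons.2 ⟨goodE6_18 hp, List.forall_mem_singleton.2 (goodE6_19 hp)⟩⟩⟩⟩)
  · obtain rfl := (typ_l hp).2.2.1 rfl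
    exact (gsE7 hp).lat_of rowE7 (by decide) rfl staE7 (List.forall_mem_cons.2 ⟨good_zero fun h =>
      absurd ((typ_l hp).1 h) (by decide), List.forall_mem_cons.2 ⟨goodE7_18 hp, List.forall_mem_cons.2 ⟨goodE7_35 hp,
      List.forall_mem_cons.2 ⟨goodE7_38 hp, List.forall_mem_cons.2 ⟨goodE7_42 hp, List.forall_mem_cons.2 ⟨goodE7_44 hp,
      List.forall_mem_singleton.2 (goodE7_45 hp)⟩⟩⟩⟩⟩⟩)
  · obtain rfl := (typ_l hp).2.2.2 rfl
    exact (gsE8 hp).lat_of rowE8 (by decide) rfl staE8 (List.forall_mem_cons.2 ⟨good_zero fun h =>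
      absurd ((typ_l hp).1 h) (by decide), List.forall_mem_cons.2 ⟨goodE8_21 hp, List.forall_mem_cons.2 ⟨goodE8_35 hp,
      List.forall_mem_cons.2 ⟨goodE8_54 hp, List.forall_mem_cons.2 ⟨goodE8_60 hp, List.forall_mem_cons.2 ⟨goodE8_69 hp,
      List.forall_mem_cons.2 ⟨goodE8_71 hp, List.forall_mem_cons.2 ⟨goodE8_73 hp,
      List.forall_mem_singleton.2 (goodE8_75 hp)⟩⟩⟩⟩⟩⟩⟩⟩)

end Cfsg.Agent.N2.Ex.Al
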