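import Cfsg.Agent.N2.Ex.Al.RedA
import Cfsg.Agent.N2.Ex.K.C4Core
import Cfsg.Agent.SB.Exc.W.MC

/-!
# N2 (S3519), box [RED]: reduction to a set of roots which does not span the lattice (helper68)
-/

set_option autoImplicit false
set_option linter.unusedSectionVars false

namespace Cfsg.Agent.N2.Ex.Al.Red

open CoxeterSystem Cfsg Cfsg.Lie Cfsg.Lie.ChevalleyDatum
open Cfsg.Agent.ChevalleyStructure Cfsg.Agent.ChevalleyStructure.CoxeterGeom Cfsg.Agent.Tits.Roots Cfsg.Agent.Nodes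
  Cfsg.Agent.Nodes.BNOf Cfsg.Agent.Nodes.RGDChev Cfsg.Agent.Nodes.Coroot
open Cfsg.Agent.KFacts.RgdChevCoord Cfsg.Agent.BpExc.Fr Cfsg.Agent.BpExc.LangFr Cfsg.Agent.BpExc.Zc
open Cfsg.Agent.H469.Exc Cfsg.Agent.H129.TorusChar Cfsg.Agent.DS.Ex Cfsg.Agent.DS.Nt Cfsg.Agent.H79.SimpleGen
open Cfsg.Agent.DS.Ex.Tor (RT FR)
open Cfsg.Agent.H296.FFour Cfsg.Agent.DS.Ex.Untw Cfsg.Agent.N2.Ex.K.C4
open Cfsg.Agent.ChevalleyStructure.RootCombGood (car)

set_option maxRecDepth 100000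

theorem t_short : ∀ r < 48, la r = 2 → ∃ s < 48, s ≠ r ∧ car chevF4 r s = 2 := by decide +kernel

/-- `c` is the sum of the orthogonal short roots `r`, `s` -/
def Sm (c r s : ℕ) : Prop := la r = 2 ∧ la s = 2 ∧ chevF4.chainRoot r s 1 = some c ∧
  s ≠ r ∧ s ≠ chevF4.neg r ∧ ∃ m ∈ [(2 : ℤ), -2], chevF4.commTerms r s = [(c, m, 1, 1)]

noncomputable instance (c r s : ℕ) : Decidable (Sm c r s) := by unfold Sm; infer_instance

theorem t_long : ∀ c < 48, la c = 2 ∨ ∃ r < 48, ∃ s < 48, Sm c r s := by decide +kernel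

theorem t_car : ∀ r < 48, ∀ s < 48, car chevF4 (br r) (br s) * la r = la s * car chevF4 r s := by decide +kernel

theorem t_odd : ∀ r < 48, ∃ i, ¬ 2 ∣ vec chevF4 4 r i := by decide +kernel

variable {Ψ : Set (LL 4)}

theorem cp_vec {r s : ℕ} (hr : r < 48) (hs : s < 48) : cp hpF4 (vec chevF4 4 s) (vec chevF4 4 r) = car chevF4 r s :=
  KFacts.ChevTwoInst.cpr_vec hpF4 _ hr s hs

theorem ex {a : LL 4} (ha : RT hpF4 a) : ∃ r < 48, vec chevF4 4 r = a := (isRoot_iff hpF4 _ a).1 ha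

theorem rt {r : ℕ} (hr : r < 48) : RT hpF4 (vec chevF4 4 r) := isRoot_vec hpF4 _ hr

theorem short_mem (hS : F4S) (h1 : Sy hpF4 Ψ) (h2 : Rc hpF4 Ψ) (h3 : ¬ Pp hpF4 Ψ) {r : ℕ} (hr : r < 48) (h : la r = 2) :
    vec chevF4 4 r ∈ Ψ := by
  obtain ⟨s, hs, e1, e2⟩ := t_short r hr h
  exact hS _ hpF4 Ψ h1 h2 h3 _ (rt hr) ⟨_, rt hs, fun e => e1 (vec_inj hpF4 hs hr e), (cp_vec hr hs).trans e2⟩

/-- in odd characteristic the short root groups generate the group -/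
theorem top_odd {p : ℕ} [Fact p.Prime] (h2 : p ≠ 2) (h : ∀ r < 48, la r = 2 → vec chevF4 4 r ∈ Ψ) : MR chevF4 p Ψ = ⊤ := by
  refine eq_top_of_xS_mem hpF4.inList _ fun c hc v => ?_
  rcases t_long c hc with e | ⟨r, hr, s, hs, e1, e2, -, e3, e4, m, hm, e5⟩
  · exact xS_mem (hp := hpF4) hc (h c hc e) v
  have h3 : (2 : KK p) ≠ 0 := fun h => h2 ((Nat.prime_dvd_prime_iff_eq Fact.out Nat.prime_two).1
    ((CharP.cast_eq_zero_iff (KK p) p 2).1 (by exact_mod_cast h)))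
  have h4 : (m : KK p) ≠ 0 := by
    simp only [List.mem_cons, List.not_mem_nil, or_false] at hm
    rcases hm with rfl | rfl <;> simpa using h3
  have h5 : xS hpF4.inList s (1 : KK p) * xS hpF4.inList r (-(v / m)) =
      xS hpF4.inList r (-(v / m)) * xS hpF4.inList s 1 * xS hpF4.inList c v := by
    have h6 := S1025.result chevF4 hpF4.inList r s hr hs e3 e4 (-(v / m)) (1 : KK p)
    rw [commWord, e5] at h6
    simp only [wordMat, List.map_cons, List.map_nil, List.prod_cons, List.prod_nil, neg_neg, pow_one, mul_one,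
      mul_div_cancel₀ v h4] at h6
    exact Subtype.ext (Units.ext h6)
  have a1 := xS_mem (hp := hpF4) hr (h r hr e1) (-(v / m) : KK p)
  have a2 := xS_mem (hp := hpF4) hs (h s hs e2) (1 : KK p)
  exact (mul_mem_cancel_left (mul_mem a1 a2)).1 (h5 ▸ mul_mem a2 a1)

/-- the permutation of the roots given by the special isogeny -/
noncomputable def bb (a : LL 4) : LL 4 := vec chevF4 4 (br (idx chevF4 4 a))

theorem bb_vec {r : ℕ} (hr : r < 48) : bb (vec chevF4 4 r) = vec chevF4 4 (br r) := by rw [bb, idx_vec hpF4 hr]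

theorem bb_bb (a : LL 4) (ha : RT hpF4 a) : RT hpF4 (bb a) ∧ bb (bb a) = a := by
  obtain ⟨r, hr, rfl⟩ := ex ha
  rw [bb_vec hr, bb_vec (tab r hr).1, (tab r hr).2.1]
  exact ⟨rt (tab r hr).1, rfl⟩

theorem la_ne {r : ℕ} (hr : r < 48) : (la r : ℤ) ≠ 0 := by rcases (tabN r hr).2.2.2 with h | h <;> rw [h] <;> decide

theorem ok_bb {o : Prop} (ho : o) : Ok hpF4 o bb where
  bij := Set.InvOn.bijOn ⟨fun a ha => (bb_bb a ha).2, fun a ha => (bb_bb a ha).2⟩ (fun a ha => (bb_bb a ha).1)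
    fun a ha => (bb_bb a ha).1
  neg a ha := by
    obtain ⟨r, hr, rfl⟩ := ex ha
    rw [← vec_neg hpF4 hr, bb_vec (tabN r hr).2.2.1, bb_vec hr, (tabN r hr).1, vec_neg hpF4 (tab r hr).1]
  ort a b ha hb := by
    obtain ⟨s, hs, rfl⟩ := ex ha
    obtain ⟨r, hr, rfl⟩ := ex hb
    rw [bb_vec hr, bb_vec hs, cp_vec hr hs, cp_vec (tab r hr).1 (tab s hs).1, ← mul_eq_zero_iff_right (la_ne hr), t_car r hr s hs,
      mul_eq_zero_iff_left (la_ne hs)]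
  lin := Or.inl ho

theorem act_X {σ : MulAut (YY chevF4 2)} {r s : ℕ} (h : SigFr.Act hpF4.inList σ r s) {y : YY chevF4 2}
    (hy : y ∈ XX chevF4 4 (KK 2) (vec chevF4 4 r)) : σ y ∈ XX chevF4 4 (KK 2) (vec chevF4 4 s) := by
  obtain ⟨hr, hs, c, φ, -, h1, -⟩ := h
  obtain ⟨t, ht⟩ := (LangThm.mem_XX_vec hpF4 hr).1 hy
  obtain rfl : y = SigFr.xs hpF4.inList r t := Subtype.ext ht
  exact (LangThm.mem_XX_vec hpF4 hs).2 ⟨_, congrArg Subtype.val (h1 t)⟩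

theorem wf_al : WF hpF4 2 (al (KK 2)) bb := by
  refine ⟨(wfr_of_act hpF4 (fun a ha => ⟨_, act_al ha⟩) fun s hs => ⟨br s, ?_⟩).1, fun a ha y => ?_⟩
  · have h := act_al (tab s hs).1
    rwa [(tab s hs).2.1] at h
  · obtain ⟨r, hr, rfl⟩ := ex ha
    rw [bb_vec hr]
    exact ⟨fun h => by simpa using act_X (act_al hr).inv h, act_X (act_al hr)⟩

theorem sy_bb (h : Sy hpF4 Ψ) : Sy hpF4 (bb '' Ψ) := by
  constructor <;> rintro _ ⟨a, ha, rfl⟩
  · exact (bb_bb a (h.root a ha)).1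
  · exact ⟨_, h.neg a ha, (ok_bb trivial).neg a (h.root a ha)⟩

theorem rc_bb (h1 : Sy hpF4 Ψ) (h2 : Rc hpF4 Ψ) : Rc hpF4 (bb '' Ψ) := by
  have := finW hpF4
  rintro _ ⟨a, ha, rfl⟩ _ ⟨b, hb, rfl⟩
  refine ⟨_, h2 a ha b hb, ?_⟩
  obtain ⟨c, hc, e1⟩ := ex (h1.root _ (h2 a ha b hb))
  obtain ⟨u, hu, e2⟩ := ex (isRoot_refl _ _ (bb_bb b (h1.root b hb)).1 (bb_bb a (h1.root a ha)).1)
  obtain ⟨r, hr, rfl⟩ := ex (h1.root a ha)
  obtain ⟨s, hs, rfl⟩ := ex (h1.root b hb)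
  have h3 : (la (br u) : ℤ) • vec chevF4 4 (br u) = (la s : ℤ) • vec chevF4 4 c := by
    rw [← psi_vec _ (tab u hu).1, (tab u hu).2.1, e2, e1, bb_vec hr, bb_vec hs, map_sub, map_zsmul, psi_vec r hr,
      psi_vec s hs, smul_sub, smul_smul, smul_smul, cp_vec hr hs, ← t_car r hr s hs]
    exact congrArg (fun m : ℤ => _ - (m * _) • _) (cp_vec (tab r hr).1 (tab s hs).1)
  have h4 : vec chevF4 4 (br u) = vec chevF4 4 c := by
    obtain ⟨i, hi⟩ := t_odd c hc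
    obtain ⟨j, hj⟩ := t_odd _ (tab u hu).1
    have h5 := congrFun h3 i
    have h6 := congrFun h3 j
    rcases (tabN _ (tab u hu).1).2.2.2 with k | k <;> rcases (tabN s hs).2.2.2 with k' | k' <;>
      rw [k, k'] at h3 h5 h6 <;> simp only [Pi.smul_apply, smul_eq_mul] at h5 h6
    · exact smul_right_injective _ (by decide) h3
    · omega
    · omega
    · exact smul_right_injective _ (by decide) h3
  rw [← e1, ← e2, ← h4, bb_vec (tab u hu).1, (tab u hu).2.1]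

theorem pp_bb (hS : F4S) (h1 : Sy hpF4 Ψ) (h2 : Rc hpF4 Ψ) (h3 : ¬ Pp hpF4 Ψ) (h4 : MR chevF4 2 Ψ ≠ ⊤) :
    Pp hpF4 (bb '' Ψ) := by
  by_contra h
  refine h4 (top_of (hp := hpF4) fun a ha => ?_)
  obtain ⟨r, hr, rfl⟩ := ex ha
  rcases (tabN r hr).2.2.2 with e | e
  · have h5 := (tab r hr).2.2
    rw [e, one_mul] at h5
    obtain ⟨b, hb, e'⟩ := short_mem hS (sy_bb h1) (rc_bb h1 h2) h (tab r hr).1 h5
    have h6 := congrArg bb e'
    rw [(bb_bb b (h1.root b hb)).2, ← bb_vec hr, (bb_bb _ ha).2] at h6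
    exact h6 ▸ hb
  · exact short_mem hS h1 h2 h3 hr e

theorem al_frob (e : ℕ) : al (KK 2) * DL.Ex.frobA hpF4.inList 2 e = DL.Ex.frobA hpF4.inList 2 e * al (KK 2) := by
  have h : ∀ r < 48, ∀ t : KK 2, DL.Ex.frobA hpF4.inList 2 e (xS hp4.inList r t) = xS hp4.inList r (t ^ 2 ^ e) :=
    fun r hr t => by rw [← xc_xS (hp := hpF4) hr, DL.Ex.frobA_xc, xc_xS hr]
  refine aut_ext4 _ _ fun r hr t => ?_
  rw [MulAut.mul_apply, MulAut.mul_apply, h r hr, al_xS hr, al_xS hr, h _ (tab r hr).1, pow_right_comm]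

/-- the context after the special isogeny -/
theorem co_al {e : ℕ} {σ : MulAut (YY chevF4 2)} {Γ : Subgroup (MulAut (YY chevF4 2))} {K B : Subgroup (YY chevF4 2)}
    (C : Co hpF4 2 e σ Γ K B) : Co hpF4 2 e (al (KK 2) * σ * (al (KK 2))⁻¹) (TH.cj (al (KK 2)) Γ)
      (K.map (al (KK 2)).toMonoidHom) (B.map (al (KK 2)).toMonoidHom) := by
  obtain ⟨y, g, F, w, hw⟩ := C.fr
  obtain ⟨z, hz⟩ := std C.frob F (hw.resolve_right fun h =>
    absurd (congrArg ChevalleyDatum.nroots h.1) (by decide +kernel))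
  have h1 : al (KK 2) * σ * (al (KK 2))⁻¹ = MulAut.conj (al (KK 2) z) * DL.Ex.frobA hpF4.inList 2 e := by
    rw [hz, ← conj_map, al_frob, mul_inv_cancel_right]
  refine co_map C _ (h1 ▸ (DL.Ex.isFrob_frobA _ _ e).conj_mul _) ⟨(al (KK 2) z)⁻¹, AddEquiv.refl _, ?_, 1, Or.inl fun a => ?_⟩
    fun φ hφ => ?_
  · rw [h1, map_inv, inv_mul_cancel_left, BpExc.FamInst.eq_phi 2 (DL.Ex.coe_frobA _ _ e)]
    exact BpExc.FamInst.phi_fr hpF4 _ 2 (locFin 2) e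
  · exact (congrFun (congrArg DFunLike.coe (map_one (rep CoxeterMatrix.F₄.toCoxeterSystem hpF4.isCartan))) _).symm
  · obtain ⟨y, h, F, O⟩ := C.lift φ hφ
    refine ⟨al (KK 2) y, _, ?_, ok_comp ⟨rfl, rfl⟩ (ok_comp ⟨rfl, rfl⟩ (ok_bb ⟨rfl, rfl⟩) O) (ok_bb ⟨rfl, rfl⟩)⟩
    rw [conj_map]
    exact wf_mul (wf_mul wf_al F fun a ha => O.bij.mapsTo ha) (wf_inv wf_al bb_bb) fun a ha => (bb_bb a ha).1

end Cfsg.Agent.N2.Ex.Al.Red

namespace Cfsg.Agent.N2.Ex.Al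

open Red

/-- **[RED]** -/
theorem boxRed : BoxRed := by
  intro hS D l M hp p _ e σ Γ K B C x Ψ h1 h2 h3
  by_cases h : Pp hp Ψ
  · exact ⟨σ, Γ, K, B, C, ⟨x, Ψ, sy_of h1, h, h3⟩, id⟩
  rcases SB.Exc.W.laced hp C.typ with rfl | ⟨h4, h6⟩
  · obtain rfl := (DS.Nt.typ_l hp).1 rfl
    obtain rfl := DS.Nt.eqF4 hp
    by_cases h5 : p = 2
    · subst h5
      refine ⟨_, _, _, _, co_al C, ⟨H296.FFour.al _ x, _, sy_bb (sy_of h1), pp_bb hS (sy_of h1) (rc_of h1) h h2, ?_⟩,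
        gb_map _⟩
      rw [← MR_map wf_al h1.1, cj_map]
      exact iv_map _ h3
    · exact absurd (top_odd h5 fun r hr e => short_mem hS (sy_of h1) (rc_of h1) h hr e) h2
  · refine absurd (top_of (hp := hp) fun a ha => all_of_laced h4 h6 (sy_of h1) (rc_of h1) a ha ?_) h2
    by_contra h7
    exact h ⟨a, ha, h7⟩

end Cfsg.Agent.N2.Ex.Al
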