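import Cfsg.Agent.N2.Ex.Al.Defs
import Cfsg.Agent.N2.Ex.Al.SubA
import Cfsg.Agent.SB.Exc.Frm.MC

/-!
# N2, `BoxSub`: the order of the finite subsystem subgroup (helper55)
-/

set_option autoImplicit false
set_option linter.unusedSectionVars false

namespace Cfsg.Agent.N2.Ex.Al

open CoxeterSystem Cfsg Cfsg.Lie Cfsg.Lie.ChevalleyDatum
open Cfsg.Agent.ChevalleyStructure Cfsg.Agent.ChevalleyStructure.CoxeterGeom Cfsg.Agent.Tits.Roots Cfsg.Agent.Nodes
  Cfsg.Agent.Nodes.BNOf Cfsg.Agent.Nodes.RGDChev Cfsg.Agent.Nodes.Coroot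
open Cfsg.Agent.KFacts.RgdChevCoord Cfsg.Agent.BpExc.Fr Cfsg.Agent.BpExc.LangFr Cfsg.Agent.BpExc.Zc
open Cfsg.Agent.H469.Exc Cfsg.Agent.H316.U6 Cfsg.Agent.H129.TorusChar Cfsg.Agent.DS.Ex Cfsg.Agent.DS.Nt
open Cfsg.Agent.DS.Ex.Tor (RT FR)
open Cfsg.Agent.SB.Exc Cfsg.Agent.SB.Exc.Frm

namespace Sb

theorem arith {α β γ x y i j n : ℤ} (hα : α = 2 ∨ α = 4) (hβ : β = 2 ∨ β = 4) (hx : x * α = 2 * γ) (hy : y * β = 2 * γ)
    (h0 : x < 0) (h4 : y * x < 4) (hi : 0 < i) (hj : 0 < j) (hn : n ≤ 4)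
    (e : n = i * i * α + 2 * (i * j * γ) + j * j * β) : (i = -x ∧ j = 1) ∨ (i = 1 ∧ j = -y) := by
  have h1 : y < 0 := by rcases hα with rfl | rfl <;> rcases hβ with rfl | rfl <;> omega
  have h2 : -4 < x := by nlinarith
  have h3 : -4 < y := by nlinarith
  have k : (x = -1 ∧ y = -1 ∧ α = β ∧ α = -2 * γ) ∨ (x = -2 ∧ y = -1 ∧ α = 2 ∧ β = 4 ∧ γ = -2) ∨
      (x = -1 ∧ y = -2 ∧ α = 4 ∧ β = 2 ∧ γ = -2) := by
    rcases hα with rfl | rfl <;> rcases hβ with rfl | rfl <;> interval_cases x <;> interval_cases y <;> omega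
  rcases k with ⟨rfl, rfl, rfl, rfl⟩ | ⟨rfl, rfl, rfl, rfl, rfl⟩ | ⟨rfl, rfl, rfl, rfl, rfl⟩
  · have h5 : i * i - i * j + j * j ≤ 2 := by
      rcases hα with k | k
      · obtain rfl : γ = -1 := by omega
        linarith
      · obtain rfl : γ = -2 := by omega
        linarith
    have h6 : i < 2 := by nlinarith [sq_nonneg (i - j)]
    have h7 : j < 2 := by nlinarith [sq_nonneg (i - j)]
    omega
  · have h6 : j < 2 := by nlinarith [sq_nonneg (i - j)]
    obtain rfl : j = 1 := by omega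
    have h7 : i < 3 := by nlinarith
    omega
  · have h6 : i < 2 := by nlinarith [sq_nonneg (i - j)]
    obtain rfl : i = 1 := by omega
    have h7 : j < 3 := by nlinarith
    omega

/-- in `F₄` the integral combinations of two roots at an obtuse angle are reflections -/
theorem zb_F4 (hp : IsType chevF4 4 CoxeterMatrix.F₄) {a b z : LL 4} (ha : RT hp a) (hb : RT hp b) (h2 : a ≠ -b)
    (h0 : cp hp b a < 0) (hz : ZB CoxeterMatrix.F₄.toCoxeterSystem hp.isCartan a b z) :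
    z = b - cp hp b a • a ∨ z = a - cp hp a b • b := by
  have := finite_W hp CoxeterMatrix.F₄.toCoxeterSystem
  have nm : ∀ x, RT hp x → Four.bf x x = 2 ∨ Four.bf x x = 4 := fun x hx => by
    obtain ⟨y, hy, rfl⟩ := Four.exists_tv hp _ hx
    exact Four.norm_tab y hy
  obtain ⟨hz, i, j, hi, hj, rfl⟩ := hz
  have h1 : a ≠ b := fun e => by
    rw [e, show cp hp b b = 2 from cpr_self _ _ hb] at h0
    omega
  have k1 := Four.cpr_bf hp _ b ha
  have k2 := Four.cpr_bf hp _ a hb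
  have k3 : Four.bf b a = Four.bf a b := by
    simp only [Four.bf]
    ring
  rcases arith (nm a ha) (nm b hb) (k1.trans (congrArg _ k3)) k2 h0 (DL.Base.cpr_mul_lt ha hb h1 h2) hi hj
    (n := Four.bf (i • a + j • b) (i • a + j • b)) (by rcases nm _ hz with k | k <;> omega) (by
      simp only [Four.bf, Pi.add_apply, Pi.smul_apply, smul_eq_mul]
      ring) with ⟨rfl, rfl⟩ | ⟨rfl, rfl⟩
  · exact Or.inl (by module)
  · exact Or.inr (by module)

end Sb

/-- **[SUB]** -/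
theorem boxSub : BoxSub := by
  intro D l M hp p _ e σ g R he hσ Φ hS hR hC hg
  have := finite_W hp M.toCoxeterSystem
  let D₀ := DL.Ex.chevFr hp (locFin p) he hσ Φ
  let Λ : Sb.Rs D₀.cs D₀.h := ⟨R, hS.root, hS.neg, hR⟩
  have hc : Sb.Cm Λ := fun a ha b hb h1 h2 => by
    rcases hC with hC | ⟨rfl, rfl⟩
    · refine Or.inr fun z ⟨hz, i, j, _, _, k⟩ => hC z hz (k ▸ ?_)
      exact add_mem (zsmul_mem (AddSubgroup.subset_closure ha) i) (zsmul_mem (AddSubgroup.subset_closure hb) j)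
    · cases type_of hp DS.Ex.hpF4 (Or.inl rfl)
      by_cases h0 : 0 ≤ cp hp b a
      · exact Or.inl (Four.dc hp a b (hS.root a ha) (hS.root b hb) h0)
      · refine Or.inr fun z hz => ?_
        rcases Sb.zb_F4 hp (hS.root a ha) (hS.root b hb) h2 (not_le.1 h0) hz with rfl | rfl
        · exact hR a ha b hb
        · exact hR b hb a ha
  have h1 := (CI.fq he hσ).card_G (Sb.sub (Λ := Λ) (DS.Ex.Tor.commZ hp p) hc hg)
  rw [Sb.ncard_sub (Λ := Λ) (DS.Ex.Tor.commZ hp p) hc hg, DL.GF, inf_comm] at h1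
  exact h1.trans_eq (congrArg (fun n => (p ^ e) ^ R.ncard * (p ^ e + 1) ^ n) (Fintype.card_fin l))

end Cfsg.Agent.N2.Ex.Al
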