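import Cfsg.Agent.N2.Ex.Al.TorB

/-!
# N2 (S3519), maximal tori of `E₆, E₇, E₈`: `boxTor` (helper90)
-/

set_option autoImplicit false
set_option linter.unusedSectionVars false

namespace Cfsg.Agent.N2.Ex.Al

namespace Tr

open CoxeterSystem Cfsg Cfsg.Lie Cfsg.Lie.ChevalleyDatum
open Cfsg.Agent.ChevalleyStructure Cfsg.Agent.ChevalleyStructure.CoxeterGeom Cfsg.Agent.ChevalleyStructure.CoxeterGeomTypes
  Cfsg.Agent.Tits.Roots Cfsg.Agent.Nodes.RGDChev Cfsg.Agent.H469.Exc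
open Cfsg.Agent.BpExc.Fr Cfsg.Agent.DS.Ex Cfsg.Agent.DS.Nt
open Cfsg.Agent.DS.Ex.Tor (RT)
open Cfsg.Agent.SB.Exc (dM)
open Cfsg.Agent.SB.Exc.Tor (cardW6 cardW7 cardW8 not_ell_sq7 neg_not_W6 not_five typ_cases)
open Cfsg.Agent.N2.Ex.Al.Ck

section Gen

variable {D : ChevalleyDatum} {l : ℕ} {M : CoxeterMatrix (Fin l)} {hp : IsType D l M} {T : Tb} {g : LL l ≃+ LL l}
  {w u z : M.Group} {s : ℤ}

theorem nine (P : Pu hp g w s) (hN : NF hp T z []) (hc : Commute u z) {b : ℕ} (h : (w ^ 2) ^ 3 ^ b = 1) :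
    (∃ c, Commute (c⁻¹ * u * c) w) ∨ (Fe hp (w ^ 2) (3 ^ b) 9 ∧ Sz hp (w ^ 2) (3 ^ b)) := by
  rcases P.ell 2 with h1 | h1
  · exact .inl ⟨1, pow_one w ▸ P.cen (i := 1) (by rwa [pow_one]) _⟩
  by_cases h3 : (w ^ 2) ^ 3 = 1
  · obtain ⟨c, e⟩ := hN _ (sz_of h1 h3) fun _ h => by simp at h
    have h4 : Commute (c⁻¹ * u * c) (w ^ 2) := by simpa only [e, inv_inv] using hc.conj c⁻¹
    have h5 := (P.cen (i := 3) (by rwa [← pow_mul, mul_comm, pow_mul]) _).mul_right h4.inv_right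
    rw [pow_succ' w 2, mul_inv_cancel_right] at h5
    exact .inl ⟨c, h5⟩
  · exact .inr ⟨P.fe h h3, sz_of h1 h⟩

theorem ordGe_of {q K : ℕ} {b : LL l} (h : ∀ j, 0 < j → j < K → ¬ In q g b j) : OrdGe q g b K :=
  fun j y hj e => not_lt.1 fun h1 => h j hj h1 ⟨y, e⟩

end Gen

theorem tor7 {g : LL 7 ≃+ LL 7} {w : CoxeterMatrix.E₇.Group} {s : ℤ} (P : Pu hpE7 g w s) {p e : ℕ} (hp : p.Prime)
    (hq : 2 ≤ p ^ e) : Cert hpE7 (p ^ e) g ∅ := by
  have G := gsE7 hpE7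
  have h1 : ∀ v, Commute v w := fun v =>
    pow_one w ▸ P.cen (i := 1) (by rw [pow_one]; exact (P.ell 2).resolve_right (not_ell_sq7 w)) v
  by_cases h : p = 7
  · exact cert_of cardW7 (k := 14) (q₁ := 2) (by decide +kernel) hq (.inr (elA_free G P (fe_of G (by norm_num) fr79) (h1 _)
      (Nat.Coprime.pow_right e (by rw [h]; norm_num)) (.inl (by decide)) (by decide) (.inl rfl)))
  · exact cert_of cardW7 (k := 18) (q₁ := 2) (by decide +kernel) hq (.inr (elA_free G P (fe_of G (by norm_num) fr77) (h1 _)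
      (Nat.Coprime.pow_right e ((Nat.coprime_primes (by norm_num) hp).2 (Ne.symm h))) (.inl (by decide)) (by decide)
      (.inl rfl)))

theorem tor8 {g : LL 8 ≃+ LL 8} {w : CoxeterMatrix.E₈.Group} {s : ℤ} (P : Pu hpE8 g w s) {q : ℕ} (hq : 2 ≤ q) :
    Cert hpE8 q g ∅ := by
  have G := gsE8 hpE8
  have := finW hpE8
  by_cases h5 : 5 ≤ q
  · exact G.cert_avg P.gw (cardW8 ▸ om_W) (Set.ncard_empty _) (k := 60) (q₁ := 5) (by decide +kernel) h5
  have c48 := cert_of (hp := hpE8) (g := g) cardW8 (k := 48) (q₁ := 2) (by decide +kernel) hq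
  have A : ∀ c, Commute (c⁻¹ * wd hpE8 tbE8 [0, 13, 14, 19, 34, 50, 99, 115] * c) w → Cert hpE8 q g ∅ := fun c h =>
    c48 (.inr (elA_free G P ((fe_of G (by norm_num) fr85).conj c) h (by interval_cases q <;> norm_num) (.inl (by decide))
      (by decide) (.inl rfl)))
  obtain rfl : s = 1 := P.sg.resolve_right fun h => absurd (congrArg ChevalleyDatum.nroots h.1) (by decide)
  rcases P.ell 1 with h1 | h1
  · exact A 1 (by rw [← pow_one w, h1]; exact Commute.one_right _)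
  have ns := fun b hb j => not_small (q := q) (b := b) (j := j) G (sl_of G sl8) P.gw (fun a ha e => ha.ne_zero (h1 a (by
    rw [pow_one, ← one_smul ℤ (ro hpE8 w a), ← P.eq, e]))) hb
  by_cases h3 : 3 ≤ q
  · refine cert_of cardW8 (k := 60) (q₁ := 3) (by decide +kernel) h3 (.inr (elA_K G (K := 4) (fun b hb => ordGe_of
      fun j h6 h7 h8 => ?_) (by decide)))
    by_cases h9 : j < q
    · exact ns b hb j h6 h9 h8
    · exact ns b hb 1 one_pos (by omega) (In.div (by rwa [show q * 1 = j by omega]))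
  obtain rfl : q = 2 := by omega
  by_cases h6 : ∃ b, RT hpE8 b ∧ In 2 g b 3
  · obtain ⟨b, hb, h6⟩ := h6
    obtain ⟨a, m, h7, h8⟩ := Nat.exists_eq_pow_mul_and_not_dvd (orderOf_pos w).ne' 3 (by norm_num)
    have h9 : (w ^ 2) ^ 3 ^ a = 1 := by
      rw [← pow_mul]
      by_contra h9
      refine ns b hb 1 one_pos one_lt_two (not_cop P (r := m) h9 (by
        rw [← pow_mul, mul_assoc, ← h8, mul_comm, pow_mul, pow_orderOf_eq_one, one_pow]) h6
        ((Prime.coprime_iff_not_dvd Int.prime_three).2 fun h => h7 ?_))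
      have h10 := (ZMod.intCast_zmod_eq_zero_iff_dvd _ 3).2 h
      push_cast at h10
      rw [pow_mul, show (2 : ZMod 3) ^ 2 = 1 from rfl] at h10
      exact (ZMod.natCast_eq_zero_iff m 3).1 (by simpa using h10)
    rcases nine P (nf8 hpE8 G) (comm_of G cm85) h9 with ⟨c, h⟩ | ⟨h, -⟩
    · exact A c h
    · exact c48 (.inr (elA_free G P h (Commute.pow_self w 2) (Nat.Coprime.pow_left a (by norm_num))
        (.inr (by decide)) (by decide) (.inl rfl)))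
  · refine c48 (.inr (elA_K G (K := 5) (fun b hb => ordGe_of fun j h7 h8 h9 => ?_) (by decide)))
    have h10 := ns b hb 1 one_pos one_lt_two
    interval_cases j
    exacts [h10 h9, h10 (In.div h9), h6 ⟨b, hb, h9⟩, h10 (In.div (In.div (j := 2) h9))]

section E6

variable {g : LL 6 ≃+ LL 6} {w : CoxeterMatrix.E₆.Group} {s : ℤ}

theorem ord6 (P : Pu hpE6 g w s) : ∃ a ≤ 4, orderOf w = 3 ^ a := by
  have := finW hpE6
  have h0 : orderOf w ∣ 2 ^ 7 * 3 ^ 4 * 5 := (orderOf_dvd_natCard w).trans (by rw [cardW6]; norm_num)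
  have h1 : orderOf w = 3 ^ _ := Nat.eq_prime_pow_of_unique_prime_dvd (orderOf_pos w).ne' fun {r} hr ⟨d, hd⟩ => by
    have h2 := (Dvd.intro _ hd.symm).trans h0
    have h4 : 0 < d := Nat.pos_of_mul_pos_left (hd ▸ orderOf_pos w)
    have h3 := ((P.ell d).resolve_left (pow_ne_one_of_lt_orderOf h4.ne' (hd ▸ lt_mul_of_one_lt_left h4 hr.one_lt))).sum
      (n := r) (by rw [← map_pow, ← pow_mul, mul_comm, ← hd, pow_orderOf_eq_one, map_one])
    rcases (Nat.Prime.dvd_mul hr).1 h2 with h | h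
    · rcases (Nat.Prime.dvd_mul hr).1 h with h | h
      · obtain rfl := (Nat.prime_dvd_prime_iff_eq hr Nat.prime_two).1 (hr.dvd_of_dvd_pow h)
        rw [Finset.sum_range_succ, Finset.sum_range_one, pow_zero, pow_one] at h3
        exact absurd (eq_neg_of_add_eq_zero_right h3) (neg_not_W6 _)
      · exact (Nat.prime_dvd_prime_iff_eq hr Nat.prime_three).1 (hr.dvd_of_dvd_pow h)
    · obtain rfl := (Nat.prime_dvd_prime_iff_eq hr Nat.prime_five).1 h
      exact (not_five h3).elim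
  refine ⟨_, not_lt.1 fun h => ?_, h1⟩
  exact absurd ((pow_dvd_pow 3 (show 5 ≤ _ from h)).trans (h1 ▸ h0)) (by norm_num)

theorem ck6 : ∀ x ∈ [((3 : ℕ), (1 : ℤ)), (3, -1), (9, 1), (9, -1)], ∃ y ∈ [((13 : ℕ), [12, 3, 10, 7, 1, 3]),
    (7, [1, 5, 4, 6, 5, 6]), (13, [12, 9, 4, 11, 10, 12]), (73, [30, 67, 22, 5, 25, 67])], y.1.Coprime x.1 ∧
    (∀ i : Fin 6, (y.1 : ℤ) ∣ x.2 * fn 6 y.2 (tbE6.vec 6 (tbE6.aw [0, 2, 1, 34, 4, 5] i)) - x.1 * fn 6 y.2 (tbE6.vec 6 i)) ∧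
    cL (fun r => decide ((y.1 : ℤ) ∣ 3 * fn 6 y.2 (tbE6.vec 6 r))) 72 ≤ 6 := by decide +kernel

theorem ck9 : ∀ x ∈ [((3 : ℕ), (1 : ℤ)), (3, -1), (9, 1), (9, -1)], ∀ a < 3, ∀ j < 19, 0 < j →
    Int.gcd (j : ℕ) (∑ i ∈ Finset.range 3, ((x.2 * x.1) ^ 3 ^ (a + 1)) ^ i) = 1 := by decide +kernel

theorem tor6 (P : Pu hpE6 g w s) {p e : ℕ} (hp : p.Prime) (he : 0 < e) : Fin' hpE6 (p ^ e) g ∅ := by
  have G := gsE6 hpE6
  obtain ⟨a, h4, ha⟩ := ord6 P
  have h0 : w ^ 3 ^ a = 1 := ha ▸ pow_orderOf_eq_one w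
  by_cases h3 : p = 3
  swap
  · have h1 : (3 : ℕ).Coprime (p ^ e) := Nat.Coprime.pow_right e ((Nat.coprime_primes Nat.prime_three hp).2 (Ne.symm h3))
    have h2 := (Nat.Prime.coprime_iff_not_dvd Nat.prime_three).1 h1
    refine fin_of (cert_of cardW6 (k := 2) (q₁ := 2) (by decide +kernel) (Nat.one_lt_pow he.ne' hp.one_lt) (.inr ?_))
    rcases nine P (nf6 hpE6 G) (comm_of G cm69) (b := a) (by rw [← pow_mul, mul_comm, pow_mul, h0, one_pow]) with
      ⟨c, h⟩ | ⟨h, h'⟩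
    · exact elA_free G P ((fe_of G (by norm_num) fr69).conj c) h (h1.pow_left 2) (.inr h1) (k' := 8) (by decide)
        (.inr ⟨rfl, h2, (sz_chk G (by decide +kernel) sz69).conj c, rfl⟩)
    · exact elA_free G P h (Commute.pow_self w 2) (h1.pow_left a) (.inr h1) (k' := 8) (by decide) (.inr ⟨rfl, h2, h', rfl⟩)
  subst h3
  have hq : 3 ≤ 3 ^ e := Nat.le_self_pow he.ne' 3
  rcases a with _ | a
  · rw [pow_zero, pow_one] at h0
    exact fin_of (cert_of cardW6 (k := 9) (q₁ := 3) (by decide +kernel) hq (.inr (elA_free G P (fe_of G (by norm_num) fr68)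
      (h0 ▸ Commute.one_right _) (Nat.Coprime.pow_right e (by norm_num)) (.inl (by decide)) (by decide) (.inl rfl))))
  by_cases h27 : 3 ≤ e
  · exact fin_of (G.cert_avg P.gw (cardW6 ▸ om_W) (Set.ncard_empty _) (k := 8) (q₁ := 3 ^ 3) (by decide +kernel)
      (Nat.pow_le_pow_right (by norm_num) h27))
  have hx : (3 ^ e, s) ∈ [((3 : ℕ), (1 : ℤ)), (3, -1), (9, 1), (9, -1)] := by
    rcases P.sg with rfl | ⟨-, rfl⟩ <;> interval_cases e <;> decide
  have h1 : w ^ 3 ^ a ≠ 1 := pow_ne_one_of_lt_orderOf (by positivity) (ha ▸ Nat.pow_lt_pow_right (by norm_num) a.lt_succ_self)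
  rw [pow_succ, pow_mul] at h0
  generalize 3 ^ e = q at hq hx
  rcases a with _ | a
  · obtain ⟨c, hc⟩ := nf6 hpE6 G _ (sz_of ((P.ell _).resolve_left h1) h0) fun _ h => by simp at h
    rw [pow_zero, pow_one] at hc
    obtain ⟨⟨N, L⟩, -, k1, k2, k3⟩ := ck6 _ hx
    refine ⟨(ac hpE6 c).symm.trans (g.trans (ac hpE6 c)), ∅, ⟨c, 1, (Set.image_empty _).symm, one_mem _, fun x => by
      rw [ac_one, AddEquiv.trans_apply, AddEquiv.symm_apply_apply, AddEquiv.trans_apply]⟩,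
      cert_of cardW6 (k := 6) (q₁ := 3) (by decide +kernel) hq (.inl ⟨N, (3 : ℤ) • fn 6 L, fn 6 L, 0, 1, k1, ?_,
        fun x => by simp, fun x => by rw [ac_one, ac_one], fun x => by simp [dM], .inl ?_⟩)⟩
    · refine dvd_of_sr (f := (fn 6 L).comp (AddEquiv.toAddMonoidHom _) - (q : ℤ) • fn 6 L) fun i => ?_
      have h5 := k2 i
      rw [(G.aw (by decide +kernel) (G.lt_n i)).2, G.sim, ← smul_eq_mul, ← map_zsmul, ← ac_inv' hpE6 c (sr i), ← ac_mul,
        ← ac_inv' hpE6 c (ac hpE6 (_ * c) _), ← ac_mul hpE6 c⁻¹, ← mul_assoc, ← hc, ← map_zsmul, repAut_apply w,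
        ← P.eq, ac_inv'] at h5
      exact h5
    · refine Nat.mul_le_mul ?_ (Nat.mul_le_mul_right _ (Nat.pow_le_pow_right (by omega) (le_of_eq_of_le
        (G.ncard_eq (P := fun a => (N : ℤ) ∣ 3 * fn 6 L a) fun _ _ => decide_eq_true_iff.symm) k3)))
      unfold nk
      split_ifs
      exacts [dM_pos 6, G.nm.le]
  · refine fin_of (cert_of cardW6 (k := 11) (q₁ := 3) (by decide +kernel) hq (.inr (elA_K G (K := 19)
      (fun b hb => ordGe_of fun j h5 h6 h7 => ?_) (by decide))))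
    obtain ⟨y, h8⟩ := not_cop P h1 h0 h7 (Int.isCoprime_iff_gcd_eq_one.2 (ck9 _ hx a (by omega) j h6 h5))
    have h9 := G.ordGe_pred P.gw q hb 1 y one_pos h8
    omega

end E6

end Tr

open Tr in
/-- **[TOR]** -/
theorem boxTor : BoxTor := by
  intro D l M hp hD h4 p e hpp he g h
  obtain ⟨w, s, P⟩ := pu_of h
  have hq : 2 ≤ p ^ e := Nat.one_lt_pow he.ne' hpp.one_lt
  rcases SB.Exc.Tor.typ_cases hp hD with ⟨rfl, -⟩ | ⟨rfl, e1⟩ | ⟨rfl, e1⟩ | ⟨rfl, e1⟩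
  · exact absurd rfl h4
  · cases e1
    exact tor6 P hpp he
  · cases e1
    exact fin_of (tor7 P hpp hq)
  · cases e1
    exact fin_of (tor8 P hq)

end Cfsg.Agent.N2.Ex.Al
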