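import Cfsg.Agent.N2.Ex.Al.Lat
import Cfsg.Agent.N2.Ex.Al.F42
import Cfsg.Agent.N2.Ex.Al.Co
import Cfsg.Agent.N2.Ex.Al.Red
import Cfsg.Agent.N2.Ex.Al.Grp
import Cfsg.Agent.N2.Ex.Al.Sub
import Cfsg.Agent.N2.Ex.Al.ElA
import Cfsg.Agent.N2.Ex.Al.KT
import Cfsg.Agent.N2.Ex.Al.Tor

/-!
# N2 (S3519), subgroups of maximal rank in `F₄, E₆, ²E₆, E₇, E₈`: assembly (helper40)
-/

namespace Cfsg.Agent.N2.Ex

open Al in
/-- **[ALPHA]** -/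
theorem boxAl : BoxAl :=
  boxAl_of boxF42 boxCo f4s boxRed boxNrm boxLM boxMv (boxBd_of boxSub) boxElT (boxElA_of boxKT) boxLat boxTor

end Cfsg.Agent.N2.Ex
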