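import Cfsg.Agent.N2.Ex.Al.Defs
import Cfsg.Agent.N2.Ex.K.Base
import Cfsg.Agent.H230.X3.Exc
import Cfsg.Agent.H79.SimpleGen

/-!
# N2 (S3519), box [RED]: transport of the context along an automorphism; tools (helper68)

* `co_map`, `gb_map`, `iv_map`, `MR_map` : transport; `std` : `σ = conj z * frobA e`;
* `sy_of`, `rc_of`, `all_of_laced`, `top_of`.
-/

set_option autoImplicit false
set_option linter.unusedSectionVars false

namespace Cfsg.Agent.N2.Ex.Al.Red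

open CoxeterSystem Cfsg Cfsg.Lie Cfsg.Lie.ChevalleyDatum
open Cfsg.Agent.ChevalleyStructure Cfsg.Agent.ChevalleyStructure.CoxeterGeom Cfsg.Agent.Tits.Roots Cfsg.Agent.Nodes
  Cfsg.Agent.Nodes.BNOf Cfsg.Agent.Nodes.RGDChev Cfsg.Agent.Nodes.Coroot
open Cfsg.Agent.KFacts.RgdChevCoord Cfsg.Agent.BpExc.Fr Cfsg.Agent.BpExc.LangFr Cfsg.Agent.BpExc.Zc
open Cfsg.Agent.H469.Exc Cfsg.Agent.H129.TorusChar Cfsg.Agent.DS.Ex Cfsg.Agent.DS.Nt Cfsg.Agent.H79.SimpleGen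
open Cfsg.Agent.DS.Ex.Tor (RT FR)

section Grp

variable {Y : Type} [Group Y] (γ : MulAut Y)

theorem mm {K : Subgroup Y} {y : Y} : y ∈ K.map γ.toMonoidHom ↔ γ⁻¹ y ∈ K := Subgroup.mem_map_equiv

theorem card_map (K : Subgroup Y) : Nat.card (K.map γ.toMonoidHom) = Nat.card K :=
  Subgroup.card_map_of_injective γ.injective

theorem cK_map (K : Subgroup Y) (b : Y) : cK (K.map γ.toMonoidHom) (γ b) = cK K b := by
  rw [cK, cK, ← card_map γ (K ⊓ _)]
  congr 2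
  ext y
  obtain ⟨y, rfl⟩ := γ.surjective y
  simp only [Subgroup.mem_inf, mm, MulAut.inv_apply_self, Subgroup.mem_centralizer_singleton_iff, ← map_mul,
    γ.injective.eq_iff]

theorem gb_map {K B : Subgroup Y} (h : Gb (K.map γ.toMonoidHom) (B.map γ.toMonoidHom)) : Gb K B := by
  obtain ⟨_, ⟨b, hb, rfl⟩, h⟩ := h
  exact ⟨b, hb, by rwa [card_map, card_map, MulEquiv.coe_toMonoidHom, cK_map] at h⟩

theorem cj_map (x : Y) (N : Subgroup Y) : TH.cj (γ x) (N.map γ.toMonoidHom) = (TH.cj x N).map γ.toMonoidHom := by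
  ext y
  rw [TH.mem_cj, mm, mm, TH.mem_cj, map_mul, map_mul, map_inv, MulAut.inv_apply_self]

theorem fix_map {σ : MulAut Y} {y : Y} : (γ * σ * γ⁻¹) y = y ↔ σ (γ⁻¹ y) = γ⁻¹ y := by
  rw [← γ.injective.eq_iff (a := σ _), MulAut.apply_inv_self]
  rfl

theorem conj_map (y : Y) (φ : MulAut Y) : MulAut.conj (γ y) * (γ * φ * γ⁻¹) = γ * (MulAut.conj y * φ) * γ⁻¹ := by
  ext x
  simp

end Grp

variable {D : ChevalleyDatum} {l : ℕ} {M : CoxeterMatrix (Fin l)} {hp : IsType D l M} {p : ℕ} [Fact p.Prime] {e : ℕ}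
  {σ : MulAut (YY D p)} {Γ : Subgroup (MulAut (YY D p))} {K B : Subgroup (YY D p)}

theorem iv_map (γ : MulAut (YY D p)) {N : Subgroup (YY D p)} (h : Iv Γ N) : Iv (TH.cj γ Γ) (N.map γ.toMonoidHom) := by
  rintro _ ⟨φ, hφ, rfl⟩ _ ⟨y, hy, rfl⟩
  exact ⟨φ y, h φ hφ y hy, by simp⟩

/-- **transport of the context** -/
theorem co_map (C : Co hp p e σ Γ K B) (γ : MulAut (YY D p)) (h1 : IsFrob p e (γ * σ * γ⁻¹))
    (h2 : ∃ y g, FR hp p (MulAut.conj y * (γ * σ * γ⁻¹)) g ∧ GW hp g)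
    (h3 : ∀ φ ∈ Γ, ∃ y h, WF hp p (MulAut.conj y * (γ * φ * γ⁻¹)) h ∧ Ok hp (D = chevF4 ∧ p = 2) h) :
    Co hp p e (γ * σ * γ⁻¹) (TH.cj γ Γ) (K.map γ.toMonoidHom) (B.map γ.toMonoidHom) where
  typ := C.typ
  he := C.he
  frob := h1
  fr := h2
  fin := by
    have := C.fin
    exact Finite.of_injective (fun y : DL.fix (γ * σ * γ⁻¹) => (⟨γ⁻¹ y, (fix_map γ).1 y.2⟩ : DL.fix σ))
      fun a b h => Subtype.ext (γ⁻¹.injective (congrArg Subtype.val h))
  mem := ⟨σ, C.mem, rfl⟩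
  comm := by
    rintro _ ⟨φ, hφ, rfl⟩
    exact (map_mul (MulAut.conj γ) φ σ).symm.trans ((congrArg _ (C.comm φ hφ)).trans (map_mul (MulAut.conj γ) σ φ))
  K_le y hy := (fix_map γ).2 (C.K_le ((mm γ).1 hy))
  pow y hy := (mm γ).2 (by rw [map_pow]; exact C.pow _ ((fix_map γ).1 hy))
  cmt y z hy hz := (mm γ).2 (by
    rw [map_mul, map_mul, map_mul, map_inv, map_inv]
    exact C.cmt _ _ ((fix_map γ).1 hy) ((fix_map γ).1 hz))
  B_le := Subgroup.map_mono C.B_le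
  conj := by
    rintro _ ⟨b, hb, rfl⟩
    refine ⟨_, C.conj b hb, ?_⟩
    have h := conj_map γ b 1
    rw [mul_one, mul_one, mul_inv_cancel, mul_one] at h
    exact h.symm
  max N hN hK := by
    rintro _ ⟨⟨y, hy, rfl⟩, h⟩
    refine ⟨y, C.max (N.comap γ.toMonoidHom) (fun φ hφ x hx => ?_)
      (fun h => hK (Subgroup.map_le_iff_le_comap.2 h)) ⟨hy, h⟩, rfl⟩
    simpa using hN _ ⟨φ, hφ, rfl⟩ _ hx
  ord := by rw [card_map]; exact C.ord
  lift := by
    rintro _ ⟨φ, hφ, rfl⟩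
    exact h3 φ hφ
  f42 := by
    rintro hD hq _ ⟨b, hb, rfl⟩ t ht hd
    rw [orderOf_injective _ γ.injective] at hd
    exact (cK_map γ K b).trans_le (C.f42 hD hq b hb t ht hd)

theorem wf_mul {β β' : MulAut (YY D p)} {h h' : LL l → LL l} (F : WF hp p β h) (F' : WF hp p β' h')
    (hr : ∀ a, RT hp a → RT hp (h' a)) : WF hp p (β * β') (h ∘ h') :=
  ⟨fun t => (F.tor _).trans (F'.tor t), fun a ha y => (F.map _ (hr a ha) _).trans (F'.map a ha y)⟩

theorem wf_inv {β : MulAut (YY D p)} {h : LL l → LL l} (F : WF hp p β h) (hr : ∀ a, RT hp a → RT hp (h a) ∧ h (h a) = a) :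
    WF hp p β⁻¹ h :=
  ⟨fun t => by rw [← F.tor, MulAut.apply_inv_self], fun a ha y => by
    rw [← F.map _ (hr a ha).1, MulAut.apply_inv_self, (hr a ha).2]⟩

theorem ok_comp {o : Prop} (ho : o) {h h' : LL l → LL l} (F : Ok hp o h) (F' : Ok hp o h') : Ok hp o (h ∘ h') where
  bij := F.bij.comp F'.bij
  neg a ha := by rw [Function.comp_apply, F'.neg a ha, F.neg _ (F'.bij.mapsTo ha), Function.comp_apply]
  ort a b ha hb := (F.ort _ _ (F'.bij.mapsTo ha) (F'.bij.mapsTo hb)).trans (F'.ort a b ha hb)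
  lin := Or.inl ho

theorem MR_map {β : MulAut (YY D p)} {h : LL l → LL l} (F : WF hp p β h) {R : Set (LL l)} (hR : ∀ a ∈ R, RT hp a) :
    (MR D p R).map β.toMonoidHom = MR D p (h '' R) := by
  rw [MR, MR, Subgroup.map_sup]
  congr 1
  · ext t
    rw [mm, ← F.tor, MulAut.apply_inv_self]
  · refine le_antisymm (Subgroup.map_le_iff_le_comap.2 (RGD.Sup_le fun a ha u hu =>
      RGD.le_Sup (S := h '' R) ⟨a, ha, rfl⟩ ((F.map a (hR a ha) u).2 hu))) (RGD.Sup_le ?_)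
    rintro _ ⟨a, ha, rfl⟩ u hu
    exact (mm β).2 (RGD.le_Sup ha ((F.map a (hR a ha) _).1 (by rwa [MulAut.apply_inv_self])))

theorem xc_xS {r : ℕ} (hr : r < D.nroots) (t : KK p) : xc hp (vec D l r) t = xS hp.inList r t :=
  Subtype.ext (coe_xc hp hr t)

/-- a Frobenius endomorphism which acts as an element of the Weyl group -/
theorem std (hσ : IsFrob p e σ) {y : YY D p} {g : LL l ≃+ LL l} (F : FR hp p (MulAut.conj y * σ) g) {w : M.Group}
    (hw : ∀ a, g a = ac hp w a) : ∃ z, σ = MulAut.conj z * DL.Ex.frobA hp.inList p e := by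
  obtain ⟨n, hn⟩ := exists_RP hp p w⁻¹
  have F1 := hn.fr.mul F
  have h1 : IsFrob p e (MulAut.conj n * (MulAut.conj y * σ)) := (hσ.conj_mul y).conj_mul n
  have e1 : ∀ a, (g.trans (repAut M.toCoxeterSystem hp.isCartan w⁻¹)) a = a := fun a => by
    rw [AddEquiv.trans_apply, hw]
    exact rep_inv_apply _ _ _ _
  choose c hc h using fun i => BpExc.HX.fr_xc hp _ h1 F1 (isRoot_sr M.toCoxeterSystem hp.isCartan i)
  obtain ⟨t, ht, h2⟩ := DL.Ex.exists_tau hp fun i => (Units.mk0 (c i) (hc i))⁻¹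
  have F2 := (RP.of_mem (hp := hp) ht).fr.mul F1
  have h3 : ∀ i u, (MulAut.conj t * (MulAut.conj n * (MulAut.conj y * σ))) (xc hp (sr i) u) =
      xc hp (sr i) (u ^ p ^ e) := fun i u => by
    rw [MulAut.mul_apply, h, e1, MulAut.conj_apply, K.T_conj_xc hp ht (isRoot_sr _ _ i), h2]
    have h4 : DL.chr (sr i) (fun i => (Units.mk0 (c i) (hc i))⁻¹) = (Units.mk0 (c i) (hc i))⁻¹ :=
      (DL.Ex.chr_single i 1 _).trans (zpow_one _)
    rw [h4, Units.val_inv_eq_inv_val, Units.val_mk0, inv_mul_cancel_left₀ (hc i)]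
  have h4 : MulAut.conj t * (MulAut.conj n * (MulAut.conj y * σ)) = DL.Ex.frobA hp.inList p e := by
    refine equiv_ext hp.inList _ _ (fun i hi u => ?_) fun i hi u => ?_
    · rw [← xc_xS (hp := hp) (simple_lt hp.inList hi), DL.Ex.frobA_xc,
        vec_simple hp ⟨i, hp.rank_eq ▸ hi⟩, h3]
    · rw [← xc_xS (hp := hp) (neg_simple_lt hp.inList hi), DL.Ex.frobA_xc, vec_neg hp (simple_lt hp.inList hi),
        vec_simple hp ⟨i, hp.rank_eq ▸ hi⟩]
      refine (H230.X3.tau_nc hp _ (locFin p) p (h1.conj_mul t) F2 ?_ (h3 _)).2 u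
      rw [AddEquiv.trans_apply, e1]
      exact congrFun (congrArg DFunLike.coe (map_one (rep M.toCoxeterSystem hp.isCartan))) _
  exact ⟨(t * n * y)⁻¹, by rw [← h4, map_inv, map_mul, map_mul]; group⟩

/-! ### sets of roots -/

variable {Ψ : Set (LL l)}

theorem rc_of (h : RC hp Ψ) : Rc hp Ψ := fun a ha b hb => by
  have := finW hp
  obtain ⟨w, i, rfl⟩ := h.1 a ha
  exact (rep_rfl'_eq M.toCoxeterSystem hp.isCartan w i b) ▸ h.2 w i ha b hb

theorem sy_of (h : RC hp Ψ) : Sy hp Ψ := ⟨h.1, fun a ha => by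
  have := finW hp
  have h1 := rc_of h a ha a ha
  rwa [cp, cpr_self _ _ (h.1 a ha), two_smul, sub_add_cancel_left] at h1⟩

theorem all_of_laced (h4 : ∀ i j, M i j ≠ 4) (h6 : ∀ i j, M i j ≠ 6) (h1 : Sy hp Ψ) (h2 : Rc hp Ψ) : Cl hp Ψ := by
  have := finW hp
  have := Fintype.ofFinite M.Group
  have key : ∀ (n : ℕ) (m : Multiset (LL l)), m.card = n → (∀ b ∈ m, b ∈ Ψ) → RT hp m.sum → m.sum ∈ Ψ := by
    intro n
    induction n using Nat.strong_induction_on with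
    | _ n ih =>
    intro m hn hm ha
    obtain ⟨b, hb, h0⟩ : ∃ b ∈ m, 0 < cp hp b m.sum := by
      by_contra hc
      push Not at hc
      have h3 := Multiset.sum_induction (fun x => cp hp x m.sum ≤ 0) m
        (fun x y hx hy => by rw [cp, cpr_add _ _ _ _ ha]; exact add_nonpos hx hy)
        (by have h := cpr_smul _ _ 0 0 ha; rw [zero_smul, zero_mul] at h; exact h.le) hc
      rw [cp, cpr_self _ _ ha] at h3
      omega
    have hb' := h1.root b (hm b hb)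
    by_cases e1 : m.sum = b
    · exact e1 ▸ hm b hb
    have e2 : m.sum ≠ -b := fun e => by
      rw [e, cp, cpr_neg_right _ _ _ hb', cpr_self _ _ hb'] at h0
      omega
    have h3 := (abs_le.1 (SimplyLaced.abs_cpr_le_one _ _ h4 h6 ha hb' e1 e2)).2
    have h5 : 0 < cp hp m.sum b := by rwa [cpr_pos_iff _ _ _ hb', form_comm, ← cpr_pos_iff _ _ _ ha]
    have h7 : cp hp m.sum b = 1 := le_antisymm h3 h5
    have h8 : (m.erase b).sum = m.sum - b := eq_sub_of_add_eq' (Multiset.sum_erase hb)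
    have h9 := isRoot_refl _ _ ha hb'
    rw [show cpr _ _ _ _ = 1 from h7, one_smul, ← h8] at h9
    have h10 := h2 b (hm b hb) _ (ih _ (hn ▸ Multiset.card_erase_lt_of_mem hb) _ rfl
      (fun c hc => hm c (Multiset.mem_of_mem_erase hc)) h9)
    rw [h8, cp, sub_eq_add_neg m.sum b, cpr_add _ _ _ _ hb', cpr_neg _ _ _ hb', cpr_self _ _ hb',
      show cpr _ _ _ _ = 1 from h7] at h10
    simpa using h10
  intro a ha h
  rw [← AddSubgroup.mem_toAddSubmonoid, AddSubgroup.closure_toAddSubmonoid] at h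
  obtain ⟨m, hm, rfl⟩ := AddSubmonoid.exists_multiset_of_mem_closure h
  exact key _ m rfl (fun b hb => (hm b hb).elim id fun h => neg_neg b ▸ h1.neg _ h) ha

theorem xS_mem {r : ℕ} (hr : r < D.nroots) (h : vec D l r ∈ Ψ) (t : KK p) : xS hp.inList r t ∈ MR D p Ψ :=
  Subgroup.mem_sup_right (RGD.le_Sup h ((LangThm.mem_XX_vec hp hr).2 ⟨t, rfl⟩))

theorem top_of (h : ∀ a, RT hp a → a ∈ Ψ) : MR D p Ψ = ⊤ :=
  eq_top_of_xS_mem hp.inList _ fun _ hr t => xS_mem (hp := hp) hr (h _ (isRoot_vec hp _ hr)) t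

end Cfsg.Agent.N2.Ex.Al.Red
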