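import Cfsg.Agent.N2.Ex.Al.Cls

/-!
# N2, subgroups of maximal rank: the stabilisers of the surviving rows (helper40)

* `adjust` : an automorphism `± w` stabilising `R` permutes the base modulo `W(R)`;
* `Tb.dfs` : enumeration of the images of a generating sequence of roots;
* `Good`, `Gs.good_sv`, `Gs.lat_of`.
-/

set_option autoImplicit false
set_option linter.unusedSectionVars false

namespace Cfsg.Agent.N2.Ex.Al.Ck

open CoxeterSystem Cfsg Cfsg.Lie Cfsg.Lie.ChevalleyDatum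
open Cfsg.Agent.ChevalleyStructure Cfsg.Agent.ChevalleyStructure.CoxeterGeom Cfsg.Agent.ChevalleyStructure.CoxeterGeomTypes
  Cfsg.Agent.Tits.Roots Cfsg.Agent.Nodes Cfsg.Agent.Nodes.BNOf Cfsg.Agent.Nodes.RGDChev Cfsg.Agent.Nodes.Coroot
  Cfsg.Agent.Nodes.SubComb
open Cfsg.Agent.BpExc.Fr Cfsg.Agent.DS.Ex Cfsg.Agent.DS.Nt
open Cfsg.Agent.DS.Ex.Tor (RT)

/-- sum over a list -/
noncomputable def lS (f : ℕ → ℕ) (L : List ℕ) : ℕ := List.rec (motive := fun _ => ℕ) 0 (fun a _ ih => Nat.add (f a) ih) L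

theorem lS_eq (f : ℕ → ℕ) (L : List ℕ) : lS f L = (L.map f).sum := by
  induction L with
  | nil => rfl
  | cons a L ih =>
    show f a + lS f L = _
    rw [ih, List.map_cons, List.sum_cons]

/-- the key of a leaf -/
noncomputable def enc (d : List (ℕ × ℕ)) : ℕ :=
  List.rec (motive := fun _ => ℕ) 0 (fun e _ ih => Nat.add e.2 (Nat.mul 256 ih)) d

/-- the leaf of a map -/
noncomputable def path (φ : ℕ → ℕ) (t : List (ℕ × Bool)) : List (ℕ × ℕ) → List (ℕ × ℕ) :=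
  List.rec (motive := fun _ => List (ℕ × ℕ) → List (ℕ × ℕ)) (fun d => d) (fun x _ ih d => ih ((x.1, φ x.1) :: d)) t

theorem path_val (φ : ℕ → ℕ) {P : ℕ → Prop} (t : List (ℕ × Bool)) (d : List (ℕ × ℕ)) (ht : ∀ x ∈ t, P x.1)
    (hd : ∀ e ∈ d, P e.1 ∧ e.2 = φ e.1) : ∀ e ∈ path φ t d, P e.1 ∧ e.2 = φ e.1 := by
  induction t generalizing d with
  | nil => exact hd
  | cons x t ih =>
    exact ih _ (fun y hy => ht y (List.mem_cons_of_mem _ hy)) (List.forall_mem_cons.2 ⟨⟨ht x List.mem_cons_self, rfl⟩, hd⟩)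

theorem mem_path (φ : ℕ → ℕ) (t : List (ℕ × Bool)) (d : List (ℕ × ℕ)) :
    (∀ e ∈ d, e ∈ path φ t d) ∧ ∀ x ∈ t, (x.1, φ x.1) ∈ path φ t d := by
  induction t generalizing d with
  | nil => exact ⟨fun _ h => h, fun _ h => absurd h List.not_mem_nil⟩
  | cons x t ih =>
    obtain ⟨h1, h2⟩ := ih ((x.1, φ x.1) :: d)
    exact ⟨fun e he => h1 e (List.mem_cons_of_mem _ he), List.forall_mem_cons.2 ⟨h1 _ List.mem_cons_self, h2⟩⟩

/-- not a power of a prime -/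
noncomputable def npp (q : ℕ) : Bool :=
  Nat.blt q 2 || lE (fun a => lE (fun b => Nat.blt a b && Nat.beq (q % a) 0 && Nat.beq (q % b) 0)
    [2, 3, 5, 7, 11, 13, 17, 19, 23]) [2, 3, 5, 7, 11, 13, 17, 19, 23]

theorem not_npp {p e : ℕ} (h : p.Prime) (he : 0 < e) : ¬ npp (p ^ e) = true := by
  simp only [npp, Bool.or_eq_true, Bool.and_eq_true, lE_iff, Nat.blt_eq, Nat.beq_eq]
  rintro (h1 | ⟨a, ha, b, hb, ⟨h1, h2⟩, h3⟩)
  · exact absurd (Nat.one_lt_pow he.ne' h.one_lt) (by omega)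
  · have k : ∀ a ∈ [2, 3, 5, 7, 11, 13, 17, 19, 23], Nat.Prime a := by decide
    have k1 := (Nat.prime_dvd_prime_iff_eq (k a ha) h).1 ((k a ha).dvd_of_dvd_pow (Nat.dvd_of_mod_eq_zero h2))
    have k2 := (Nat.prime_dvd_prime_iff_eq (k b hb) h).1 ((k b hb).dvd_of_dvd_pow (Nat.dvd_of_mod_eq_zero h3))
    omega

/-- a surviving row -/
structure Sv where
  m : ℕ
  Δ : List ℕ
  dm : List ℕ
  s : ℕ
  sq : List (ℕ × Bool)
  co : List (List ℤ)
  ω : ℕ
  cl : List (Bool × List ℕ)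
  lf : List (ℕ × ℕ × List ℕ)
  q₁ : ℕ
  k₁ : ℕ
  ev : Bool
  lg : ℕ × List ℕ × ℕ

namespace Tb

variable (T : Tb) (l : ℕ)

/-- positive roots -/
def ps (r : ℕ) : Bool := Nat.blt (Nat.mul 2 r) T.n

/-- `Δ` is the base -/
noncomputable def bas (m : ℕ) (Δ : List ℕ) : Bool :=
  lA (fun d => T.ps d && aL (fun x => !m.testBit x || !T.ps x || Nat.beq x d || T.ps (T.f d x)) T.n) Δ &&
    aL (fun r => !m.testBit r || !T.ps r || lE (fun d => Nat.beq d r) Δ || lE (fun d => !T.ps (T.f r d)) Δ) T.n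

/-- compatibility of the Cartan integers -/
noncomputable def cmp (b r : ℕ) (d : List (ℕ × ℕ)) : Bool :=
  lA (fun e => and (Nat.beq (T.c r e.2) (T.c b e.1)) (Nat.beq (T.c e.2 r) (T.c e.1 b))) d

/-- the enumeration -/
noncomputable def dfs (Δ E : List ℕ) (leaf : List (ℕ × ℕ) → ℕ) (t : List (ℕ × Bool)) : List (ℕ × ℕ) → ℕ :=
  List.rec (motive := fun _ => List (ℕ × ℕ) → ℕ) leaf (fun x _ ih d =>
    lS (fun r => cond (T.cmp x.1 r d) (ih ((x.1, r) :: d)) 0) (cond x.2 Δ E)) t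

/-- the list of the leaves -/
noncomputable def lv (Δ E : List ℕ) (t : List (ℕ × Bool)) : List (ℕ × ℕ) → List (List (ℕ × ℕ)) :=
  List.rec (motive := fun _ => List (ℕ × ℕ) → List (List (ℕ × ℕ))) (fun d => [d]) (fun x _ ih d =>
    (cond x.2 Δ E).flatMap fun r => cond (T.cmp x.1 r d) (ih ((x.1, r) :: d)) []) t

/-- the check of a leaf -/
noncomputable def lfc (V : Sv) (d : List (ℕ × ℕ)) : Bool :=
  lE (fun e => and (Nat.beq e.1 (enc d)) (and (T.lt e.2.2) (and (lA (fun x => V.m.testBit (T.aw e.2.2 x)) V.Δ)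
    (and (Nat.blt e.2.1 V.cl.length)
      (lA (fun x => Nat.beq (T.ag (V.cl.getD e.2.1 (false, [])) (T.aw e.2.2 x.1)) (T.aw e.2.2 x.2)) d))))) V.lf

/-- the enumeration of a surviving row -/
noncomputable def svd (V : Sv) : Bool :=
  Nat.ble (T.dfs V.Δ V.dm (fun d => cond (T.lfc V d) 1 (Nat.succ V.ω)) V.sq []) V.ω

/-- the small checks of a surviving row -/
noncomputable def svs (V : Sv) : Bool :=
  T.rch V.m V.Δ && T.bas V.m V.Δ && Nat.beq (cL V.m.testBit T.n) V.s &&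
    lA (fun x => Nat.blt x.1 T.n && cond x.2 (lE (fun d => Nat.beq d x.1) V.Δ) (lA (fun d => Nat.ble 2 (T.c x.1 d)) V.Δ)) V.sq &&
    aL (fun r => lE (fun d => Nat.blt (T.c r d) 2) V.Δ || lE (fun d => Nat.beq d r) V.dm) T.n &&
    aL (fun i => decide (T.vec l i = (((V.co.getD i []).zip V.sq).map fun z => z.1 • T.vec l z.2.1).sum)) l &&
    lA (fun g => T.lt g.2) V.cl && avg l T.n V.s V.ω V.k₁ V.q₁ && (!V.ev || T.lng l V.m V.lg.1 V.lg.2.1 V.lg.2.2)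

/-- the roots inverted by `G` -/
noncomputable def inv (G : Bool × List ℕ) (e : ℕ × List ℕ × ℕ) : Bool :=
  T.nz l e.1 e.2.1 && Nat.blt e.2.2 T.n && Nat.beq (T.ag G e.2.2) (T.ng e.2.2) &&
    aL (fun r => Nat.beq (T.ev e.1 e.2.1 r) 0 || !Nat.beq (T.ag G r) (T.ng r)) T.n

/-- the certificates for the class `c` -/
noncomputable def svc (V : Sv) (K : List (ℕ × List ℕ × ℕ)) (C : List (List (ℕ × Ce))) (c : ℕ) : Bool :=
  (Nat.beq V.m 0 && T.inv l (V.cl.getD c (false, [])) (K.getD c (0, [], 0))) ||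
    aL (fun q => npp q || (V.ev && Nat.beq (q % 2) 1) ||
      lE (fun e => Nat.beq e.1 q && T.chk l q V.m V.s V.ω (V.cl.getD c (false, [])) e.2) (C.getD c [])) V.q₁

/-- the status of a row -/
noncomputable def sta (L : List Rw) (K : List Ki) (P : List (ℕ × ℕ)) (S : List ℕ) (j : ℕ) : Bool :=
  lE (fun m => Nat.beq m (rw0 L j).m) S || T.kil l (rw0 L j).m (K.getD j ⟨0, 0, 0, 0, [], 0⟩) || T.spn l (rw0 L j).m P

theorem dfs_eq (Δ E : List ℕ) (leaf : List (ℕ × ℕ) → ℕ) (t : List (ℕ × Bool)) (d : List (ℕ × ℕ)) :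
    T.dfs Δ E leaf t d = ((T.lv Δ E t d).map leaf).sum := by
  induction t generalizing d with
  | nil => exact (add_zero _).symm
  | cons x t ih =>
    have k : ∀ L : List ℕ, (L.map fun r => cond (T.cmp x.1 r d) (T.dfs Δ E leaf t ((x.1, r) :: d)) 0).sum =
        ((L.flatMap fun r => cond (T.cmp x.1 r d) (T.lv Δ E t ((x.1, r) :: d)) []).map leaf).sum := fun L => by
      induction L with
      | nil => rfl
      | cons r L ih' =>
        rw [List.map_cons, List.sum_cons, List.flatMap_cons, List.map_append, List.sum_append, ih', ih]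
        cases T.cmp x.1 r d <;> rfl
    exact (lS_eq _ _).trans (k _)

theorem path_mem (Δ E : List ℕ) {φ : ℕ → ℕ} (h : ∀ r < T.n, ∀ s < T.n, T.c (φ r) (φ s) = T.c r s) (t : List (ℕ × Bool))
    (d : List (ℕ × ℕ)) (ht : ∀ x ∈ t, x.1 < T.n ∧ φ x.1 ∈ cond x.2 Δ E)
    (hd : ∀ e ∈ d, e.1 < T.n ∧ e.2 = φ e.1) : path φ t d ∈ T.lv Δ E t d := by
  induction t generalizing d with
  | nil => exact List.mem_singleton_self _
  | cons x t ih =>
    obtain ⟨h1, h2⟩ := ht x List.mem_cons_self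
    refine List.mem_flatMap.2 ⟨φ x.1, h2, ?_⟩
    have k : T.cmp x.1 (φ x.1) d = true := lA_iff.2 fun e he => by
      rw [(hd e he).2, h _ h1 _ (hd e he).1, h _ (hd e he).1 _ h1, Bool.and_eq_true, Nat.beq_eq, Nat.beq_eq]
      exact ⟨rfl, rfl⟩
    rw [k]
    exact ih _ (fun y hy => ht y (List.mem_cons_of_mem _ hy)) (List.forall_mem_cons.2 ⟨⟨h1, rfl⟩, hd⟩)

theorem svd_spec {V : Sv} (h : T.svd V = true) :
    (T.lv V.Δ V.dm V.sq []).length ≤ V.ω ∧ ∀ d ∈ T.lv V.Δ V.dm V.sq [], T.lfc V d = true := by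
  rw [svd, Nat.ble_eq, dfs_eq] at h
  refine ⟨le_trans ?_ h, fun d hd => ?_⟩
  · have := List.card_nsmul_le_sum ((T.lv V.Δ V.dm V.sq []).map fun d => cond (T.lfc V d) 1 (Nat.succ V.ω)) 1 fun x hx => by
      obtain ⟨d, -, rfl⟩ := List.mem_map.1 hx
      cases T.lfc V d
      exacts [Nat.succ_pos _, le_rfl]
    simpa using this
  · have := (List.single_le_sum (fun _ _ => Nat.zero_le _) _ (List.mem_map_of_mem hd)).trans h
    cases hx : T.lfc V d
    · rw [hx] at this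
      exact absurd this (Nat.not_succ_le_self _)
    · rfl

end Tb

variable {D : ChevalleyDatum} {l : ℕ} {M : CoxeterMatrix (Fin l)} {hp : IsType D l M} {T : Tb}

theorem WR_mono {R S : Set (LL l)} (h : R ⊆ S) : WR hp R ≤ WR hp S :=
  Subgroup.closure_mono fun _ ⟨v, j, h1, h2⟩ => ⟨v, j, h h1, h2⟩

theorem WR_empty {w : M.Group} (h : w ∈ WR hp (∅ : Set (LL l))) : w = 1 :=
  WR_ind hp (P := fun w => w = 1) rfl (fun _ h => absurd h (Set.notMem_empty _)) h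

open Classical in
/-- the map induced on the indices -/
noncomputable def ix (T : Tb) (h : LL l ≃+ LL l) (r : ℕ) : ℕ :=
  if k : ∃ s < T.n, T.vec l s = h (T.vec l r) then k.choose else 0

variable (hp) in
/-- the conclusion for a row -/
def Good (T : Tb) (m : ℕ) : Prop := ∀ p e : ℕ, p.Prime → 0 < e → ∀ g : LL l ≃+ LL l,
  LM hp (D = chevF4 ∧ p = 2) g (St T l m) → (St T l m = ∅ → D = chevF4) → Fin' hp (p ^ e) g (St T l m)

theorem good_zero (h : D ≠ chevF4) : Good hp T 0 := fun _ _ _ _ _ _ k => absurd (k St_zero) h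

namespace Gt

variable (G : Gt hp T)
include G

theorem ix {h : LL l ≃+ LL l} (k : GW hp h) {r : ℕ} (hr : r < T.n) : ix T h r < T.n ∧ T.vec l (ix T h r) = h (T.vec l r) := by
  have k1 := G.surj _ (gw_rt k (G.root r hr))
  rw [Ck.ix, dif_pos k1]
  exact k1.choose_spec

theorem ps {r : ℕ} (hr : r < T.n) : T.ps r = true ↔ 0 ≤ T.vec l r := by
  rw [G.pos r hr, Tb.ps, Nat.blt_eq]
  rfl

/-- **modulo `W(R)` the base is permuted** -/
theorem adjust {m : ℕ} {Δ : List ℕ} (h1 : T.rch m Δ = true) (h2 : T.bas m Δ = true) (s1 : Sy hp (St T l m))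
    (s2 : Rc hp (St T l m)) {g : LL l ≃+ LL l} (k : GW hp g) (k1 : ∀ a ∈ St T l m, g a ∈ St T l m) :
    ∃ w ∈ WR hp (St T l m), ∀ d ∈ Δ, Ck.ix T (g.trans (ac hp w)) d ∈ Δ := by
  have := finW hp
  obtain ⟨v, hv, h3⟩ := exists_adjust (cs := M.toCoxeterSystem) (h := hp.isCartan) (St T l m) (WR hp (St T l m))
    (fun a ha => by
      obtain ⟨w, i, e⟩ := s1.root a ha
      exact ⟨w, i, e, Subgroup.subset_closure ⟨w, i, e ▸ ha, rfl⟩⟩) g fun a ha => gw_rt k ha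
  obtain ⟨w, hw, e⟩ : ∃ w ∈ WR hp (St T l m), ∀ x, ac hp w (g x) = g (ac hp v x) := by
    obtain ⟨u, hu | ⟨-, hu⟩⟩ := k
    · refine ⟨_, WR_mono ?_ (conj_mem_WR hp u hv), fun x => by rw [hu, hu, ac_mul, ac_mul, ac_inv]⟩
      rintro _ ⟨a, ha, rfl⟩
      exact hu a ▸ k1 a ha
    · refine ⟨_, WR_mono ?_ (conj_mem_WR hp u hv), fun x => by rw [hu, hu, map_neg, ac_mul, ac_mul, ac_inv]⟩
      rintro _ ⟨a, ha, rfl⟩
      have := s1.neg _ (k1 a ha)
      rwa [hu, neg_neg] at this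
  refine ⟨w, hw, fun d hd => ?_⟩
  have kh : GW hp (g.trans (ac hp w)) := gw_mul k w 1 fun x => by rw [ac_one]; rfl
  set h := g.trans (ac hp w)
  have b1 : Set.MapsTo h {a | a ∈ St T l m ∧ 0 ≤ a} {a | a ∈ St T l m ∧ 0 ≤ a} := fun a ha =>
    ⟨ac_mem_of_WR hp s2 hw _ (k1 a ha.1), (e a).symm ▸ h3 a ha.1 ha.2⟩
  have b2 := ((((G.fin_St m).subset fun _ ha => ha.1).injOn_iff_bijOn_of_mapsTo b1).1 h.injective.injOn).surjOn
  have hΔ := G.rch_lt h1
  simp only [Tb.bas, Bool.and_eq_true, Bool.or_eq_true, lA_iff, lE_iff, aL_iff, Nat.beq_eq, Bool.not_eq_true',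
    ← Bool.not_eq_true] at h2
  have c0 : ∀ d ∈ Δ, T.vec l d ∈ St T l m ∧ 0 ≤ T.vec l d := fun d hd =>
    ⟨(G.mem_St (hΔ d hd).1).2 (hΔ d hd).2, (G.ps (hΔ d hd).1).1 (h2.1 d hd).1⟩
  obtain ⟨c1, c2⟩ := G.ix kh (hΔ d hd).1
  have c3 := b1 (c0 d hd)
  rw [← c2] at c3
  by_contra hc
  rcases h2.2 _ c1 with ((c4 | c4) | ⟨_, c4, rfl⟩) | ⟨d', c4, c5⟩
  · exact c4 ((G.mem_St c1).1 c3.1)
  · exact c4 ((G.ps c1).2 c3.2)
  · exact hc c4
  obtain ⟨y, ⟨⟨x, hx, c6, rfl⟩, c7⟩, c8⟩ := b2 (c0 d' c4)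
  have c9 := G.root d (hΔ d hd).1
  refine c5 ((G.ps (G.flt _ c1 _ (hΔ d' c4).1)).2 ?_)
  rw [G.fe _ c1 _ (hΔ d' c4).1, ac_rw hp (G.root _ c1), ← c8, c2, gw_cp kh _ c9, ← map_zsmul, ← map_sub]
  refine (b1 ⟨s2 _ (c0 d hd).1 _ ⟨x, hx, c6, rfl⟩, ?_⟩).2
  rw [← ac_rw hp c9, ← G.fe _ (hΔ d hd).1 _ hx, ← G.ps (G.flt _ (hΔ d hd).1 _ hx)]
  rcases (h2.1 d hd).2 x hx with ((c10 | c10) | rfl) | c10
  · exact absurd c6 c10
  · exact absurd ((G.ps hx).2 c7) c10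
  · exact absurd (G.inj _ c1 _ (hΔ d' c4).1 (c2.trans c8) ▸ c4) hc
  · exact c10

theorem inv {g : Bool × List ℕ} (hg : T.lt g.2 = true) {e : ℕ × List ℕ × ℕ} (h : T.inv l g e = true) {o : Prop} :
    ¬ LM hp o (gE hp T g) ∅ := fun H => by
  simp only [Tb.inv, Bool.and_eq_true, Bool.or_eq_true, aL_iff, Nat.blt_eq, Nat.beq_eq, Bool.not_eq_true',
    ← Bool.not_eq_true] at h
  obtain ⟨⟨⟨a1, a2⟩, a3⟩, a4⟩ := h
  refine H.kill {a | RT hp a ∧ gE hp T g a = -a} (Set.empty_subset _) ⟨fun a ha => ha.1, fun a ha => ⟨ha.1.neg, by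
    rw [map_neg, ha.2]⟩⟩ (G.pp_nz a1 (fun a ha => ha.1) fun r hr h => (a4 r hr).resolve_right (not_not.2 ?_))
    (fun h b1 _ b2 a ha => ⟨b1.bij.mapsTo ha.1, by rw [← b2 rfl a ha.1, ha.2, b1.neg a ha.1]⟩)
    (a := T.vec l e.2.2) ⟨G.root _ a2, by rw [← (G.ag hg a2).2, a3, (G.ng a2).2]⟩
  exact G.inj _ (G.ag hg hr).1 _ (G.ng hr).1 (by rw [(G.ag hg hr).2, (G.ng hr).2, h.2])

theorem good_kil {m : ℕ} {k : Ki} (h : T.kil l m k = true) : Good hp T m := fun _ _ _ _ _ H => absurd H (G.kil h)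

theorem good_spn {m : ℕ} {L : List (ℕ × ℕ)} (h : T.spn l m L = true) : Good hp T m :=
  fun _ _ _ _ _ H => absurd H.pp (G.spn h)

end Gt

namespace Gs

variable (G : Gs hp T)
include G

/-- **a surviving row** -/
theorem good_sv (hF : l = 4 → D = chevF4) {V : Sv} (h1 : T.svs l V = true) (h2 : T.svd V = true)
    {K : List (ℕ × List ℕ × ℕ)} {C : List (List (ℕ × Ce))} (h3 : ∀ c < V.cl.length, T.svc l V K C c = true) :
    Good hp T V.m := by
  classical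
  intro p e hp' he g H _
  simp only [Tb.svs, Bool.and_eq_true, Bool.or_eq_true, lA_iff, lE_iff, aL_iff, Nat.beq_eq, Nat.blt_eq, Bool.not_eq_true',
    ← Bool.not_eq_true, decide_eq_true_eq] at h1
  obtain ⟨⟨⟨⟨⟨⟨⟨⟨a1, a2⟩, a3⟩, a4⟩, a9⟩, a5⟩, a6⟩, a7⟩, a8⟩ := h1
  obtain ⟨b1, b2⟩ := T.svd_spec h2
  have ext : ∀ f f' : LL l ≃+ LL l, (∀ x ∈ V.sq, f (T.vec l x.1) = f' (T.vec l x.1)) → ∀ x, f x = f' x :=
    fun f f' h => equiv_ext fun i => by
      rw [← G.sim, a5 i i.2, map_list_sum, map_list_sum, List.map_map, List.map_map]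
      exact congrArg List.sum (List.map_congr_left fun z hz => by
        simp only [Function.comp, map_zsmul, h _ (List.of_mem_zip hz).2])
  have adj : ∀ g : LL l ≃+ LL l, GW hp g → (∀ a ∈ St T l V.m, g a ∈ St T l V.m) → ∃ w ∈ WR hp (St T l V.m),
      path (ix T (g.trans (ac hp w))) V.sq [] ∈ T.lv V.Δ V.dm V.sq [] := fun g k k1 => by
    obtain ⟨w, hw, k2⟩ := G.adjust a1 a2 H.sy H.rc k k1
    have kh : GW hp (g.trans (ac hp w)) := gw_mul k w 1 fun x => by rw [ac_one]; rfl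
    have k3 : ∀ r < T.n, ∀ s < T.n, T.c (ix T (g.trans (ac hp w)) r) (ix T (g.trans (ac hp w)) s) = T.c r s :=
      fun r hr s hs => by
        have k3 := G.cpe _ (G.ix kh hr).1 _ (G.ix kh hs).1
        rw [(G.ix kh hr).2, (G.ix kh hs).2, gw_cp kh _ (G.root s hs), G.cpe r hr s hs] at k3
        omega
    have hΔ := G.rch_lt a1
    refine ⟨w, hw, T.path_mem _ _ k3 _ _ (fun x hx => ⟨(a4 x hx).1, ?_⟩) fun _ h => absurd h List.not_mem_nil⟩
    have k4 := (a4 x hx).2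
    cases hx2 : x.2 <;> rw [hx2] at k4
    · obtain ⟨d, hd, k5⟩ := (a9 _ (G.ix kh (a4 x hx).1).1).resolve_left fun ⟨d, hd, k5⟩ => by
        obtain ⟨d', hd', rfl⟩ := ((((List.finite_toSet V.Δ).injOn_iff_bijOn_of_mapsTo k2).1 fun r hr s hs e =>
          G.inj r (hΔ r hr).1 s (hΔ s hs).1 ((g.trans (ac hp w)).injective (by
            rw [← (G.ix kh (hΔ r hr).1).2, ← (G.ix kh (hΔ s hs).1).2, e]))).surjOn hd)
        rw [k3 _ (a4 x hx).1 _ (hΔ d' hd').1] at k5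
        exact absurd (Nat.le_of_ble_eq_true (lA_iff.1 k4 d' hd')) (not_le.2 k5)
      exact k5 ▸ hd
    · obtain ⟨d, hd, k5⟩ := lE_iff.1 k4
      exact Nat.eq_of_beq_eq_true k5 ▸ k2 d hd
  have om : Om hp (St T l V.m) V.ω := by
    refine ⟨{u | path (ix T (ac hp u)) V.sq [] ∈ T.lv V.Δ V.dm V.sq []}, ?_, fun u hu => ?_⟩
    · refine (Set.ncard_le_ncard_of_injOn (t := (T.lv V.Δ V.dm V.sq []).toFinset) (fun u => path (ix T (ac hp u)) V.sq [])
        (fun u hu => by simpa using hu) (fun u _ u' _ e => W_ext hp fun i => ext _ _ (fun x hx => ?_) _)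
        (Finset.finite_toSet _)).trans ?_
      · have k1 := (mem_path (ix T (ac hp u)) V.sq []).2 x hx
        rw [show path (ix T (ac hp u)) V.sq [] = path (ix T (ac hp u')) V.sq [] from e] at k1
        have k2 := (path_val (P := fun _ => True) _ V.sq [] (fun _ _ => trivial) (fun _ h => absurd h List.not_mem_nil) _ k1).2
        rw [← (G.ix (gw_ac u) (a4 x hx).1).2, ← (G.ix (gw_ac u') (a4 x hx).1).2]
        exact congrArg _ k2
      · rw [Set.ncard_coe_finset]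
        exact (List.toFinset_card_le _).trans b1
    · obtain ⟨w, hw, k⟩ := adj _ (gw_ac u) hu
      exact ⟨w, hw, by
        rwa [show (ac hp u).trans (ac hp w) = ac hp (w * u) from AddEquiv.ext fun x => (ac_mul hp w u x).symm] at k⟩
  have hs : (St T l V.m).ncard = V.s := (G.ncard_St _).trans a3
  rcases le_or_gt V.q₁ (p ^ e) with hq | hq
  · exact ⟨g, _, mv_refl _ _, G.cert_avg H.gw om hs a7 hq⟩
  obtain ⟨w, hw, k⟩ := adj g H.gw H.inv
  have kh : GW hp (g.trans (ac hp w)) := gw_mul H.gw w 1 fun x => by rw [ac_one]; rfl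
  have k1 := b2 _ k
  simp only [Tb.lfc, Bool.and_eq_true, lA_iff, lE_iff, Nat.beq_eq, Nat.blt_eq] at k1
  obtain ⟨⟨_, c, v⟩, -, -, c1, c2, c3, c4⟩ := k1
  dsimp only at c1 c2 c3 c4
  have c5 : T.lt (V.cl.getD c (false, [])).2 = true := a6 _ (by rw [List.getD_eq_getElem _ _ c3]; exact List.getElem_mem _)
  have c6 : ac hp (wd hp T v) '' St T l V.m = St T l V.m := by
    have k2 := G.rch a1 H.sy H.rc (wd hp T v) fun d hd =>
      ⟨_, (G.aw c1 (G.rch_lt a1 d hd).1).1, c2 d hd, (G.aw c1 (G.rch_lt a1 d hd).1).2⟩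
    exact (((G.fin_St _).injOn_iff_bijOn_of_mapsTo (Set.mapsTo_iff_image_subset.2 k2)).1
      (ac hp _).injective.injOn).image_eq
  have c7 : ∀ x, gE hp T (V.cl.getD c (false, [])) (ac hp (wd hp T v) x) = ac hp (wd hp T v) (ac hp w (g x)) :=
    ext ((ac hp (wd hp T v)).trans (gE hp T _)) ((g.trans (ac hp w)).trans (ac hp (wd hp T v))) fun x hx => by
      have k2 := c4 _ ((mem_path _ V.sq []).2 x hx)
      have k3 := G.aw c1 (a4 x hx).1
      have k4 := G.ix kh (a4 x hx).1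
      rw [AddEquiv.trans_apply, AddEquiv.trans_apply, ← k4.2, ← k3.2, ← (G.aw c1 k4.1).2, ← (G.ag c5 k3.1).2, k2]
  have mv : Mv hp g (St T l V.m) (gE hp T (V.cl.getD c (false, []))) (St T l V.m) :=
    ⟨wd hp T v, wd hp T v * w * (wd hp T v)⁻¹, c6.symm, c6 ▸ conj_mem_WR hp _ hw, fun x => by
      rw [c7, ac_mul, ac_mul, ac_inv]⟩
  have k5 := h3 c c3
  simp only [Tb.svc, Bool.and_eq_true, Bool.or_eq_true, lE_iff, aL_iff, Nat.beq_eq] at k5
  rcases k5 with ⟨d1, d2⟩ | k5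
  · rw [d1, St_zero] at H hw
    have d3 := lm_move H (wd hp T v)
    rw [Set.image_empty, show cj hp (wd hp T v) g = gE hp T (V.cl.getD c (false, [])) from AddEquiv.ext fun x => by
      rw [cj_apply, ← ac_one hp (g _), ← WR_empty hw, ← c7, ac_inv']] at d3
    exact absurd d3 (G.inv c5 d2)
  rcases k5 _ hq with (d1 | ⟨d1, d2⟩) | ⟨x, -, -, d2⟩
  · exact absurd d1 (not_npp hp' he)
  · obtain ⟨-, rfl⟩ := G.lng (a8.resolve_left (not_not.2 d1)) H
    have := (dvd_pow_self 2 he.ne')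
    omega
  · exact fin_of_mv mv (G.chk hF c5 om hs d2)

theorem lat_of {L : List Rw} (hL : ∀ j < L.length, T.row L j = true) (h0 : 0 < L.length) (h0' : (rw0 L 0).m = 0)
    {K : List Ki} {P : List (ℕ × ℕ)} {S : List ℕ} (h1 : ∀ j < L.length, T.sta l L K P S j = true)
    (h2 : ∀ m ∈ S, Good hp T m) (p e : ℕ) (hp' : p.Prime) (he : 0 < e) (g : LL l ≃+ LL l) (R : Set (LL l))
    (H : LM hp (D = chevF4 ∧ p = 2) g R) (h : R = ∅ → D = chevF4) : Fin' hp (p ^ e) g R := by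
  obtain ⟨j, hj, v, hv⟩ := G.cls_of hL h0 h0' H.sy H.rc
  have k : Good hp T (rw0 L j).m := by
    have k := h1 j hj
    simp only [Tb.sta, Bool.or_eq_true, lE_iff, Nat.beq_eq] at k
    rcases k with (⟨m, k, e⟩ | k) | k
    exacts [e ▸ h2 m k, G.good_kil k, G.good_spn k]
  exact fin_of_mv (hv ▸ mv_cj v g R) (k p e hp' he _ (hv ▸ lm_move H v) fun e => h (Set.image_eq_empty.1 (hv.trans e)))

end Gs

theorem Gt.f4s_of (G : Gt hp T) {L : List Rw} (hL : ∀ j < L.length, T.row L j = true) (h0 : 0 < L.length)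
    (h0' : (rw0 L 0).m = 0) {P : List (ℕ × List ℕ)} (h1 : ∀ j < L.length, T.shs l (rw0 L j).m (P.getD j (0, [])) = true)
    {R : Set (LL l)} (s1 : Sy hp R) (s2 : Rc hp R) (s3 : ¬ Pp hp R) (a : LL l) (ha : RT hp a)
    (h : ∃ b, RT hp b ∧ b ≠ a ∧ cp hp b a = 2) : a ∈ R := by
  obtain ⟨j, hj, v, hv⟩ := G.cls_of hL h0 h0' s1 s2
  obtain ⟨b, b1, b2, b3⟩ := h
  obtain ⟨x, hx, e⟩ : ac hp v a ∈ ac hp v '' R := hv ▸ G.shs (h1 j hj)
    (fun k => s3 (image_inv (hp := hp) v R ▸ pp_image (hv ▸ k) v⁻¹)) (rt_ac hp v ha)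
    ⟨_, rt_ac hp v b1, fun e => b2 ((ac hp v).injective e), (cp_ac hp v b ha).trans b3⟩
  exact (ac hp v).injective e ▸ hx

end Cfsg.Agent.N2.Ex.Al.Ck
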