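import Cfsg.Agent.N2.Ex.Al.Defs

/-!
# N2, subgroups of maximal rank: packed tables of a root system (helper40)

`Tb` : coordinates, Cartan integers and reflections of the roots `0, …, n - 1`; `Tb.ok` is the check, `Gd` its meaning.
Words in the reflections: `wd` (element of `W`), `Tb.aw` (action on the indices), `gE` (signed words).
-/

set_option autoImplicit false
set_option linter.unusedSectionVars false

namespace Cfsg.Agent.N2.Ex.Al.Ck

open CoxeterSystem Cfsg Cfsg.Lie Cfsg.Lie.ChevalleyDatum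
open Cfsg.Agent.ChevalleyStructure Cfsg.Agent.ChevalleyStructure.CoxeterGeom Cfsg.Agent.ChevalleyStructure.CoxeterGeomTypes
  Cfsg.Agent.Tits.Roots Cfsg.Agent.Nodes Cfsg.Agent.Nodes.BNOf Cfsg.Agent.Nodes.RGDChev Cfsg.Agent.Nodes.Coroot
  Cfsg.Agent.Nodes.SubComb
open Cfsg.Agent.BpExc.Fr Cfsg.Agent.DS.Ex Cfsg.Agent.DS.Nt
open Cfsg.Agent.DS.Ex.Tor (RT)

/-- bounded quantifier -/
noncomputable def aL (f : ℕ → Bool) (n : ℕ) : Bool :=
  Nat.rec (motive := fun _ => Bool) true (fun k ih => and (f k) ih) n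

theorem aL_iff {f : ℕ → Bool} {n : ℕ} : aL f n = true ↔ ∀ i < n, f i = true := by
  induction n with
  | zero => exact ⟨fun _ _ h => absurd h (Nat.not_lt_zero _), fun _ => rfl⟩
  | succ n ih =>
    show and (f n) (aL f n) = true ↔ _
    rw [Bool.and_eq_true, ih, Nat.forall_lt_succ_right, and_comm]

/-- counting -/
noncomputable def cL (f : ℕ → Bool) (n : ℕ) : ℕ :=
  Nat.rec (motive := fun _ => ℕ) 0 (fun k ih => cond (f k) (Nat.succ ih) ih) n

theorem cL_eq (f : ℕ → Bool) (n : ℕ) : cL f n = ((Finset.range n).filter fun i => f i = true).card := by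
  induction n with
  | zero => rfl
  | succ n ih =>
    show cond (f n) (Nat.succ (cL f n)) (cL f n) = _
    rw [Finset.range_add_one, Finset.filter_insert, ih]
    cases h : f n
    · simp
    · simp

/-- all members of a list -/
noncomputable def lA {α : Type} (f : α → Bool) (L : List α) : Bool :=
  List.rec (motive := fun _ => Bool) true (fun a _ ih => and (f a) ih) L

theorem lA_iff {α : Type} {f : α → Bool} {L : List α} : lA f L = true ↔ ∀ a ∈ L, f a = true := by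
  induction L with
  | nil => exact ⟨fun _ _ h => absurd h List.not_mem_nil, fun _ => rfl⟩
  | cons a L ih =>
    show and (f a) (lA f L) = true ↔ _
    rw [Bool.and_eq_true, ih, List.forall_mem_cons]

/-- some member of a list -/
noncomputable def lE {α : Type} (f : α → Bool) (L : List α) : Bool :=
  List.rec (motive := fun _ => Bool) false (fun a _ ih => or (f a) ih) L

theorem lE_iff {α : Type} {f : α → Bool} {L : List α} : lE f L = true ↔ ∃ a ∈ L, f a = true := by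
  induction L with
  | nil => exact ⟨fun h => absurd h Bool.false_ne_true, fun ⟨_, h, _⟩ => absurd h List.not_mem_nil⟩
  | cons a L ih =>
    show or (f a) (lE f L) = true ↔ _
    rw [Bool.or_eq_true, ih, List.exists_mem_cons_iff]

/-- the tables -/
structure Tb where
  n : ℕ
  V : ℕ
  C : ℕ
  F : ℕ

namespace Tb

variable (T : Tb)

/-- coordinate plus `8` -/
def u (r i : ℕ) : ℕ := Nat.mod (Nat.shiftRight T.V (Nat.mul 4 (Nat.add (Nat.mul 8 r) i))) 16

/-- Cartan integer plus `2` -/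
def c (r s : ℕ) : ℕ := Nat.mod (Nat.shiftRight T.C (Nat.mul 3 (Nat.add (Nat.mul T.n r) s))) 8

/-- the image of `r` under the reflection in `s` -/
def f (s r : ℕ) : ℕ := Nat.mod (Nat.shiftRight T.F (Nat.mul 8 (Nat.add (Nat.mul T.n s) r))) 256

/-- the root -/
def vec (l r : ℕ) : LL l := fun i => (T.u r i : ℤ) - 8

/-- the action of a word -/
noncomputable def aw (w : List ℕ) (r : ℕ) : ℕ := List.rec (motive := fun _ => ℕ) r (fun s _ ih => T.f s ih) w

theorem aw_nil (r : ℕ) : T.aw [] r = r := rfl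

theorem aw_cons (s : ℕ) (w : List ℕ) (r : ℕ) : T.aw (s :: w) r = T.f s (T.aw w r) := rfl

/-- the negative -/
def ng (r : ℕ) : ℕ := T.f r r

/-- the action of a signed word -/
noncomputable def ag (g : Bool × List ℕ) (r : ℕ) : ℕ := cond g.1 (T.ng (T.aw g.2 r)) (T.aw g.2 r)

/-- all letters are indices of roots -/
noncomputable def lt (w : List ℕ) : Bool := lA (fun s => Nat.blt s T.n) w

/-- the checks for the simple roots -/
noncomputable def ok1 (l : ℕ) (A : Fin l → Fin l → ℤ) : Bool :=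
  decide (l ≤ T.n) && decide (∀ i : Fin l, T.vec l i = sr i) &&
    aL (fun r => decide (∀ i : Fin l, (T.c r i : ℤ) - 2 = pairing A i (T.vec l r) ∧ T.f i r < T.n ∧
      T.vec l (T.f i r) = T.vec l r - ((T.c r i : ℤ) - 2) • sr i) &&
      decide (2 * r < T.n ↔ ∀ i : Fin l, 8 ≤ T.u r i)) T.n

/-- the checks for the root `s` with parent `i` -/
noncomputable def ok2 (s i : ℕ) : Bool :=
  and (Nat.blt (T.f i s) s) (aL (fun r => and (Nat.beq (T.c r s) (T.c (T.f i r) (T.f i s)))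
    (Nat.beq (T.f s r) (T.f i (T.f (T.f i s) (T.f i r))))) T.n)

/-- the checks for the root `s` -/
noncomputable def ok3 (l s : ℕ) : Bool :=
  and (or (Nat.blt s l) (not (aL (fun i => not (T.ok2 s i)) l)))
    (aL (fun r => or (not (Nat.beq (T.c r s) 4)) (or (Nat.beq r s) (not (Nat.beq (T.c s r) 4)))) T.n)

end Tb

variable {D : ChevalleyDatum} {l : ℕ} {M : CoxeterMatrix (Fin l)} (hp : IsType D l M)

theorem cp_add (x y : LL l) {a : LL l} (ha : RT hp a) : cp hp (x + y) a = cp hp x a + cp hp y a :=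
  haveI := finW hp
  cpr_add _ _ x y ha

theorem cp_smul (m : ℤ) (x : LL l) {a : LL l} (ha : RT hp a) : cp hp (m • x) a = m * cp hp x a :=
  haveI := finW hp
  cpr_smul _ _ m x ha

theorem cp_neg (x : LL l) {a : LL l} (ha : RT hp a) : cp hp (-x) a = -cp hp x a :=
  haveI := finW hp
  cpr_neg _ _ x ha

theorem cp_neg' (x : LL l) {a : LL l} (ha : RT hp a) : cp hp x (-a) = -cp hp x a :=
  haveI := finW hp
  cpr_neg_right _ _ x ha

theorem cp_self {a : LL l} (ha : RT hp a) : cp hp a a = 2 :=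
  haveI := finW hp
  cpr_self _ _ ha

theorem cp_ac (w : M.Group) (x : LL l) {a : LL l} (ha : RT hp a) : cp hp (ac hp w x) (ac hp w a) = cp hp x a :=
  haveI := finW hp
  cpr_rep _ _ w x ha

theorem ac_mul (v w : M.Group) (x : LL l) : ac hp (v * w) x = ac hp v (ac hp w x) := rep_mul_apply _ _ v w x

theorem ac_one (x : LL l) : ac hp 1 x = x := by
  show rep M.toCoxeterSystem hp.isCartan (1 : M.Group) x = x
  rw [map_one, Module.End.one_apply]

theorem ac_inv (w : M.Group) (x : LL l) : ac hp w⁻¹ (ac hp w x) = x := by rw [← ac_mul, inv_mul_cancel, ac_one]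

theorem ac_inv' (w : M.Group) (x : LL l) : ac hp w (ac hp w⁻¹ x) = x := by rw [← ac_mul, mul_inv_cancel, ac_one]

theorem rt_ac (w : M.Group) {a : LL l} (ha : RT hp a) : RT hp (ac hp w a) := ha.act w

theorem hom_ext {A : Type} [AddCommGroup A] {f g : LL l →+ A} (h : ∀ i, f (sr i) = g (sr i)) : f = g := by
  refine AddMonoidHom.functions_ext _ _ _ fun i x => ?_
  have e : (Pi.single i x : LL l) = x • sr i := by rw [sr, ← Pi.single_smul, smul_eq_mul, mul_one]
  rw [e, map_zsmul, map_zsmul, h]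

theorem W_ext {v w : M.Group} (h : ∀ i, ac hp v (sr i) = ac hp w (sr i)) : v = w := by
  apply rep_injective M.toCoxeterSystem hp.isCartan
  have := hom_ext (f := (ac hp v).toAddMonoidHom) (g := (ac hp w).toAddMonoidHom) h
  exact LinearMap.ext fun x => DFunLike.congr_fun this x

open Classical in
/-- the reflection in a root -/
noncomputable def rw' (a : LL l) : M.Group :=
  if h : RT hp a then rfl' M.toCoxeterSystem h.choose h.choose_spec.choose else 1

theorem ac_rw {a : LL l} (ha : RT hp a) (x : LL l) : ac hp (rw' hp a) x = x - cp hp x a • a := by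
  have := finW hp
  rw [rw', dif_pos ha]
  have e := ha.choose_spec.choose_spec
  exact (rep_rfl'_eq _ _ _ _ x).trans (by rw [← e])

theorem rw_mem {R : Set (LL l)} {a : LL l} (ha : RT hp a) (h : a ∈ R) : rw' hp a ∈ WR hp R := by
  rw [rw', dif_pos ha]
  exact Subgroup.subset_closure ⟨_, _, ha.choose_spec.choose_spec ▸ h, rfl⟩

theorem rw_rw {a : LL l} (ha : RT hp a) (x : LL l) : ac hp (rw' hp a) (ac hp (rw' hp a) x) = x := by
  rw [ac_rw hp ha, ac_rw hp ha, sub_eq_add_neg x, ← neg_smul, cp_add hp _ _ ha, cp_smul hp _ _ ha, cp_self hp ha]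
  module

theorem rw_inv {a : LL l} (ha : RT hp a) : (rw' hp a)⁻¹ = rw' hp a :=
  inv_eq_of_mul_eq_one_left (W_ext hp fun i => by rw [ac_mul, rw_rw hp ha, ac_one])

theorem rw_conj (w : M.Group) {a : LL l} (ha : RT hp a) : rw' hp (ac hp w a) = w * rw' hp a * w⁻¹ :=
  W_ext hp fun i => by
    rw [ac_rw hp (rt_ac hp w ha), ac_mul, ac_mul, ac_rw hp ha, map_sub, map_zsmul, ac_inv', ← cp_ac hp w _ ha, ac_inv']

/-- induction over `W(R)` -/
theorem WR_ind {R : Set (LL l)} {P : M.Group → Prop} (h1 : P 1) (h2 : ∀ a ∈ R, RT hp a → ∀ w, P w → P (rw' hp a * w))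
    {w : M.Group} (hw : w ∈ WR hp R) : P w := by
  have := finW hp
  have k : ∀ x ∈ {r | ∃ v j, rep M.toCoxeterSystem hp.isCartan v (sr j) ∈ R ∧ r = rfl' M.toCoxeterSystem v j},
      ∃ a ∈ R, RT hp a ∧ x = rw' hp a := by
    rintro _ ⟨v, j, h, rfl⟩
    exact ⟨_, h, ⟨v, j, rfl⟩, W_ext hp fun i => (rep_rfl'_eq _ _ _ _ _).trans (ac_rw hp ⟨v, j, rfl⟩ _).symm⟩
  induction hw using Subgroup.closure_induction_left with
  | one => exact h1
  | mul_left x hx y _ ih =>
    obtain ⟨a, ha, hr, rfl⟩ := k x hx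
    exact h2 a ha hr y ih
  | inv_mul_cancel x hx y _ ih =>
    obtain ⟨a, ha, hr, rfl⟩ := k x hx
    rw [rw_inv hp hr]
    exact h2 a ha hr y ih

theorem conj_mem_WR {R : Set (LL l)} (v : M.Group) {w : M.Group} (hw : w ∈ WR hp R) :
    v * w * v⁻¹ ∈ WR hp (ac hp v '' R) := by
  refine WR_ind hp (P := fun w => v * w * v⁻¹ ∈ WR hp (ac hp v '' R)) (by simp) (fun a ha hr w ih => ?_) hw
  have := mul_mem (rw_mem hp (R := ac hp v '' R) (rt_ac hp v hr) ⟨a, ha, rfl⟩) ih
  rw [rw_conj hp v hr] at this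
  simpa [mul_assoc] using this

theorem ac_mem_of_WR {R : Set (LL l)} (h : Rc hp R) {w : M.Group} (hw : w ∈ WR hp R) : ∀ b ∈ R, ac hp w b ∈ R :=
  WR_ind hp (P := fun w => ∀ b ∈ R, ac hp w b ∈ R) (fun b hb => by rwa [ac_one])
    (fun a ha hr w ih b hb => by rw [ac_mul, ac_rw hp hr]; exact h a ha _ (ih b hb)) hw

/-- **the meaning of the tables** -/
structure Gt (T : Tb) : Prop where
  le : l ≤ T.n
  sim : ∀ i : Fin l, T.vec l i = sr i
  root : ∀ r < T.n, RT hp (T.vec l r)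
  surj : ∀ a, RT hp a → ∃ r < T.n, T.vec l r = a
  cpe : ∀ r < T.n, ∀ s < T.n, cp hp (T.vec l r) (T.vec l s) = (T.c r s : ℤ) - 2
  flt : ∀ s < T.n, ∀ r < T.n, T.f s r < T.n
  fe : ∀ s < T.n, ∀ r < T.n, T.vec l (T.f s r) = ac hp (rw' hp (T.vec l s)) (T.vec l r)
  inj : ∀ r < T.n, ∀ s < T.n, T.vec l r = T.vec l s → r = s
  pos : ∀ r < T.n, 0 ≤ T.vec l r ↔ 2 * r < T.n

theorem gt_of {T : Tb} {A : Fin l → Fin l → ℤ} (hA : cartanOf D l = A) (h1 : T.ok1 l A = true)
    (h3 : ∀ s < T.n, T.ok3 l s = true) : Gt hp T := by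
  have := finW hp
  subst hA
  simp only [Tb.ok1, Bool.and_eq_true, decide_eq_true_eq, aL_iff] at h1
  obtain ⟨⟨hl, hs⟩, h1⟩ := h1
  have hsr : ∀ i : Fin l, RT hp (sr i) := fun i => isRoot_sr _ _ i
  have c1 : ∀ r < T.n, ∀ i : Fin l, cp hp (T.vec l r) (sr i) = (T.c r i : ℤ) - 2 := fun r hr i =>
    (cpr_sr _ _ _ i).trans ((h1 r hr).1 i).1.symm
  have f1 : ∀ r < T.n, ∀ i : Fin l, T.vec l (T.f i r) = ac hp (rw' hp (sr i)) (T.vec l r) := fun r hr i => by
    rw [ac_rw hp (hsr i), c1 r hr, ((h1 r hr).1 i).2.2]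
  have key : ∀ s, s < T.n → RT hp (T.vec l s) ∧ ∀ r < T.n, cp hp (T.vec l r) (T.vec l s) = (T.c r s : ℤ) - 2 ∧
      T.f s r < T.n ∧ T.vec l (T.f s r) = ac hp (rw' hp (T.vec l s)) (T.vec l r) := by
    intro s
    induction s using Nat.strong_induction_on with
    | _ s ih =>
      intro hsn
      by_cases hsl : s < l
      · have e := hs ⟨s, hsl⟩
        rw [e]
        exact ⟨hsr _, fun r hr => ⟨c1 r hr ⟨s, hsl⟩, ((h1 r hr).1 ⟨s, hsl⟩).2.1, f1 r hr ⟨s, hsl⟩⟩⟩
      · have h4 := h3 s hsn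
        simp only [Tb.ok3, Bool.and_eq_true, Bool.or_eq_true, Nat.blt_eq, hsl, false_or, Bool.not_eq_true',
          ← Bool.not_eq_true, aL_iff, not_forall] at h4
        obtain ⟨⟨i, hi, h5⟩, -⟩ := h4
        simp only [not_not, Tb.ok2, Bool.and_eq_true, Nat.blt_eq, aL_iff, Nat.beq_eq] at h5
        obtain ⟨k1, k2⟩ := ih _ h5.1 (h5.1.trans hsn)
        have e : T.vec l s = ac hp (rw' hp (sr ⟨i, hi⟩)) (T.vec l (T.f i s)) := by
          rw [f1 s hsn ⟨i, hi⟩, rw_rw hp (hsr _)]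
        refine ⟨e ▸ rt_ac hp _ k1, fun r hr => ?_⟩
        have hr' := ((h1 r hr).1 ⟨i, hi⟩).2.1
        obtain ⟨a1, a2, a3⟩ := k2 _ hr'
        refine ⟨?_, ?_, ?_⟩
        · rw [(h5.2 r hr).1, ← a1, e, f1 r hr ⟨i, hi⟩, ← cp_ac hp (rw' hp (sr ⟨i, hi⟩)) _ k1, rw_rw hp (hsr _)]
        · rw [(h5.2 r hr).2]
          exact ((h1 _ a2).1 ⟨i, hi⟩).2.1
        · rw [(h5.2 r hr).2, f1 _ a2 ⟨i, hi⟩, a3, f1 r hr ⟨i, hi⟩, e, rw_conj hp _ k1, rw_inv hp (hsr _), ac_mul, ac_mul]
  refine ⟨hl, hs, fun r hr => (key r hr).1, ?_, fun r hr s hs => ((key s hs).2 r hr).1,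
    fun s hs r hr => ((key s hs).2 r hr).2.1, fun s hs r hr => ((key s hs).2 r hr).2.2, fun r hr s hs e => ?_,
    fun r hr => ?_⟩
  · rintro _ ⟨w, i, rfl⟩
    obtain ⟨ω, rfl⟩ := M.toCoxeterSystem.wordProd_surjective w
    induction ω with
    | nil => exact ⟨i, i.2.trans_le hl, by rw [wordProd_nil, hs]; exact (ac_one hp _).symm⟩
    | cons j ω ih =>
      obtain ⟨r, hr, e⟩ := ih
      refine ⟨_, ((h1 r hr).1 j).2.1, ?_⟩
      rw [wordProd_cons, rep_mul_apply, ← e, rep_simple_eq, ((h1 r hr).1 j).2.2, ((h1 r hr).1 j).1]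
  · have h4 := h3 s hs
    simp only [Tb.ok3, Bool.and_eq_true, Bool.or_eq_true, aL_iff, Bool.not_eq_true', ← Bool.not_eq_true,
      Nat.beq_eq] at h4
    have a1 := ((key s hs).2 r hr).1
    have a2 := ((key r hr).2 s hs).1
    rw [e, cp_self hp (key s hs).1] at a1 a2
    rcases h4.2 r hr with h | h | h
    · omega
    · exact h
    · omega
  · rw [(h1 r hr).2]
    refine forall_congr' fun i => ?_
    show (0 : ℤ) ≤ (T.u r i : ℤ) - 8 ↔ _
    omega

/-- the element of `W` given by a word -/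
noncomputable def wd (T : Tb) (w : List ℕ) : M.Group := (w.map fun s => rw' hp (T.vec l s)).prod

/-- the automorphism given by a signed word -/
noncomputable def gE (T : Tb) (g : Bool × List ℕ) : LL l ≃+ LL l :=
  cond g.1 ((ac hp (wd hp T g.2)).trans (AddEquiv.neg _)) (ac hp (wd hp T g.2))

/-- the set of roots given by a mask -/
def St (T : Tb) (l m : ℕ) : Set (LL l) := {x | ∃ r < T.n, m.testBit r = true ∧ T.vec l r = x}

variable {hp} {T : Tb}

theorem wd_nil : wd hp T [] = 1 := rfl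

theorem wd_cons (s : ℕ) (w : List ℕ) : wd hp T (s :: w) = rw' hp (T.vec l s) * wd hp T w := List.prod_cons

theorem wd_append (v w : List ℕ) : wd hp T (v ++ w) = wd hp T v * wd hp T w := by
  rw [wd, List.map_append, List.prod_append]
  rfl

theorem lt_iff {w : List ℕ} : T.lt w = true ↔ ∀ s ∈ w, s < T.n := by simp only [Tb.lt, lA_iff, Nat.blt_eq]

namespace Gt

variable (G : Gt hp T)
include G

theorem aw {w : List ℕ} (hw : T.lt w = true) {r : ℕ} (hr : r < T.n) :
    T.aw w r < T.n ∧ T.vec l (T.aw w r) = ac hp (wd hp T w) (T.vec l r) := by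
  rw [lt_iff] at hw
  induction w with
  | nil => exact ⟨hr, (ac_one hp _).symm⟩
  | cons s w ih =>
    obtain ⟨h1, h2⟩ := ih fun x hx => hw x (List.mem_cons_of_mem _ hx)
    have hs := hw s List.mem_cons_self
    exact ⟨G.flt s hs _ h1, by rw [Tb.aw_cons, G.fe s hs _ h1, h2, wd_cons, ac_mul]⟩

theorem ng {r : ℕ} (hr : r < T.n) : T.ng r < T.n ∧ T.vec l (T.ng r) = -T.vec l r :=
  ⟨G.flt r hr r hr, by
    rw [Tb.ng, G.fe r hr r hr, ac_rw hp (G.root r hr), cp_self hp (G.root r hr)]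
    module⟩

theorem ag {g : Bool × List ℕ} (hw : T.lt g.2 = true) {r : ℕ} (hr : r < T.n) :
    T.ag g r < T.n ∧ T.vec l (T.ag g r) = gE hp T g (T.vec l r) := by
  obtain ⟨b, w⟩ := g
  cases b
  · exact G.aw hw hr
  · obtain ⟨h1, h2⟩ := G.aw hw hr
    exact ⟨(G.ng h1).1, (G.ng h1).2.trans (congrArg Neg.neg h2)⟩

theorem wd_mem {w : List ℕ} {R : Set (LL l)} (hw : ∀ s ∈ w, s < T.n ∧ T.vec l s ∈ R) : wd hp T w ∈ WR hp R := by
  induction w with
  | nil => exact one_mem _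
  | cons s w ih =>
    rw [wd_cons]
    exact mul_mem (rw_mem hp (G.root s (hw s List.mem_cons_self).1) (hw s List.mem_cons_self).2)
      (ih fun x hx => hw x (List.mem_cons_of_mem _ hx))

theorem mem_St {m r : ℕ} (hr : r < T.n) : T.vec l r ∈ St T l m ↔ m.testBit r = true :=
  ⟨fun ⟨s, hs, h, e⟩ => G.inj s hs r hr e ▸ h, fun h => ⟨r, hr, h, rfl⟩⟩

theorem St_root {m : ℕ} : ∀ a ∈ St T l m, RT hp a := by
  rintro _ ⟨r, hr, -, rfl⟩
  exact G.root r hr

theorem lt_n (i : Fin l) : (i : ℕ) < T.n := i.2.trans_le G.le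

/-- counting roots -/
theorem ncard_eq {P : LL l → Prop} {f : ℕ → Bool} (h : ∀ r < T.n, P (T.vec l r) ↔ f r = true) :
    {a | RT hp a ∧ P a}.ncard = cL f T.n := by
  have e : {a | RT hp a ∧ P a} = T.vec l '' ((Finset.range T.n).filter fun i => f i = true : Finset ℕ) := by
    ext a
    simp only [Set.mem_ofPred_eq, Set.mem_image, Finset.coe_filter, Finset.mem_range]
    constructor
    · rintro ⟨h1, h2⟩
      obtain ⟨r, hr, rfl⟩ := G.surj a h1
      exact ⟨r, ⟨hr, (h r hr).1 h2⟩, rfl⟩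
    · rintro ⟨r, ⟨hr, h1⟩, rfl⟩
      exact ⟨G.root r hr, (h r hr).2 h1⟩
  rw [e, Set.InjOn.ncard_image, Set.ncard_coe_finset, cL_eq]
  intro r hr s hs
  simp only [Finset.coe_filter, Finset.mem_range, Set.mem_ofPred_eq] at hr hs
  exact G.inj r hr.1 s hs.1

theorem ncard_St (m : ℕ) : (St T l m).ncard = cL m.testBit T.n := by
  rw [← G.ncard_eq (P := fun a => a ∈ St T l m) fun r hr => G.mem_St hr]
  exact congrArg Set.ncard (Set.ext fun a => ⟨fun h => ⟨G.St_root a h, h⟩, fun h => h.2⟩)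

end Gt

theorem St_zero : St T l 0 = ∅ := Set.eq_empty_of_forall_notMem fun _ ⟨_, _, h, _⟩ => by simp at h

/-! ### functionals -/

/-- the functional with the values `f` on the simple roots -/
def fn (l : ℕ) (f : List ℕ) : LL l →+ ℤ where
  toFun x := ∑ i : Fin l, x i * (f.getD i 0 : ℕ)
  map_zero' := by simp
  map_add' x y := by simp [add_mul, Finset.sum_add_distrib]

theorem fn_sr (f : List ℕ) (i : Fin l) : fn l f (sr i) = (f.getD i 0 : ℕ) := by
  show ∑ j : Fin l, sr i j * (f.getD j 0 : ℕ) = _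
  simp [sr, Pi.single_apply]

/-- `∑ (u r (i + j) + c) * f j` -/
noncomputable def Tb.dot (T : Tb) (r c : ℕ) (f : List ℕ) : ℕ → ℕ :=
  List.rec (motive := fun _ => ℕ → ℕ) (fun _ => 0)
    (fun a _ ih i => Nat.add (Nat.mul (Nat.add (T.u r i) c) a) (ih (Nat.succ i))) f

theorem dot_eq (r c : ℕ) (f : List ℕ) (i : ℕ) :
    T.dot r c f i = ∑ j ∈ Finset.range f.length, (T.u r (i + j) + c) * f.getD j 0 := by
  induction f generalizing i with
  | nil => rfl
  | cons a f ih =>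
    show (T.u r i + c) * a + T.dot r c f (i + 1) = _
    rw [ih, List.length_cons, Finset.sum_range_succ', add_comm]
    simp [add_assoc, add_comm 1]

/-- the value of `f` at the root `r` modulo `N` -/
noncomputable def Tb.ev (T : Tb) (N : ℕ) (f : List ℕ) (r : ℕ) : ℕ := Nat.mod (T.dot r (Nat.mul 8 (Nat.pred N)) f 0) N

theorem ev_modEq {N : ℕ} (hN : N ≠ 0) {f : List ℕ} (hf : f.length = l) (r : ℕ) :
    (T.ev N f r : ℤ) ≡ fn l f (T.vec l r) [ZMOD N] := by
  obtain ⟨N, rfl⟩ := Nat.exists_eq_succ_of_ne_zero hN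
  show ((T.dot r (8 * N) f 0 % (N + 1) : ℕ) : ℤ) ≡ ∑ i : Fin l, ((T.u r i : ℤ) - 8) * (f.getD i 0 : ℕ) [ZMOD (N + 1 : ℕ)]
  rw [Int.natCast_mod, dot_eq, hf, Finset.sum_range]
  refine (Int.mod_modEq _ _).trans (Int.modEq_iff_dvd.2 ?_)
  push_cast
  rw [← Finset.sum_sub_distrib]
  exact Finset.dvd_sum fun i _ => ⟨-8 * (f.getD i 0 : ℕ), by simp only [zero_add]; ring⟩

theorem dvd_iff_ev {N : ℕ} (hN : N ≠ 0) {f : List ℕ} (hf : f.length = l) (r : ℕ) :
    (N : ℤ) ∣ fn l f (T.vec l r) ↔ T.ev N f r = 0 := by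
  rw [← (ev_modEq (T := T) hN hf r).dvd_iff, Int.natCast_dvd_natCast]
  exact ⟨fun h => Nat.eq_zero_of_dvd_of_lt h (Nat.mod_lt _ (Nat.pos_of_ne_zero hN)), fun h => h ▸ dvd_zero _⟩

theorem dvd_of_sr {N : ℤ} {f : LL l →+ ℤ} (h : ∀ i, N ∣ f (sr i)) (x : LL l) : N ∣ f x := by
  have e : ((Int.castAddHom (ZMod N.natAbs)).comp f) = 0 := hom_ext fun i => by
    simpa [ZMod.intCast_zmod_eq_zero_iff_dvd] using h i
  simpa [ZMod.intCast_zmod_eq_zero_iff_dvd] using DFunLike.congr_fun e x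

theorem pp_of {R : Set (LL l)} {N : ℤ} {f : LL l →+ ℤ} (h : ∀ a ∈ R, N ∣ f a) {i : Fin l} (hi : ¬ N ∣ f (sr i)) :
    Pp hp R := by
  refine ⟨sr i, isRoot_sr _ _ i, fun k => hi ?_⟩
  exact (AddSubgroup.closure_le ((AddSubgroup.zmultiples N).comap f)).2
    (fun a ha => (Int.mem_zmultiples_iff).2 (h a ha)) k |> Int.mem_zmultiples_iff.1

end Cfsg.Agent.N2.Ex.Al.Ck
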