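import Cfsg.Agent.N2.Ex.Al.Avg
import Cfsg.Agent.SB.Exc.Tor.W
import Cfsg.Agent.Nodes.FrameCent

/-!
# N2 (S3519), maximal tori of `E₆, E₇, E₈`: generic lemmas (helper90)

* `Pu`, `pu_of` : the powers of the Weyl part of the twist are trivial or elliptic;
* `Fe`, `elA_free` : elements which act freely on the roots; `elA_K` : averaging over the torus;
* `not_small`, `not_cop` : orders of roots modulo `(q - g) Λ`; `cert_of` : the numerical step.
-/

set_option autoImplicit false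
set_option linter.unusedSectionVars false

namespace Cfsg.Agent.N2.Ex.Al.Tr

open CoxeterSystem Cfsg Cfsg.Lie Cfsg.Lie.ChevalleyDatum
open Cfsg.Agent.ChevalleyStructure Cfsg.Agent.ChevalleyStructure.CoxeterGeom Cfsg.Agent.ChevalleyStructure.CoxeterGeomTypes
  Cfsg.Agent.Tits.Roots Cfsg.Agent.Nodes.RGDChev Cfsg.Agent.H469.Exc
open Cfsg.Agent.BpExc.Fr Cfsg.Agent.DS.Ex Cfsg.Agent.DS.Nt
open Cfsg.Agent.DS.Ex.Tor (RT)
open Cfsg.Agent.H931.KC (nmk)
open Cfsg.Agent.SB.Exc (nP dM ordU degs)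
open Cfsg.Agent.SB.Exc.Tor (En Ell apply_sum sum_fix)
open Cfsg.Agent.N2.Ex.Al.Ck

variable {D : ChevalleyDatum} {l : ℕ} {M : CoxeterMatrix (Fin l)} (hp : IsType D l M)

/-- the reflection representation -/
noncomputable abbrev ro : M.Group →* En l := rep M.toCoxeterSystem hp.isCartan

/-- `g = s w`, the powers of `w` are trivial or elliptic -/
structure Pu (g : LL l ≃+ LL l) (w : M.Group) (s : ℤ) : Prop where
  gw : GW hp g
  eq : ∀ a, g a = s • ro hp w a
  sg : s = 1 ∨ (D = chevE6 ∧ s = -1)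
  ell : ∀ i : ℕ, w ^ i = 1 ∨ Ell (ro hp (w ^ i))

/-- the orbits of `v` on the roots have at least `m` elements -/
structure Fe (v : M.Group) (n m : ℕ) : Prop where
  pow : v ^ n = 1
  pos : 0 < n
  free : ∀ a, RT hp a → ∀ i, 0 < i → i < m → ro hp (v ^ i) a ≠ a

/-- the sum over the powers vanishes -/
def Sz (v : M.Group) (n : ℕ) : Prop := ∀ x, ∑ i ∈ Finset.range n, ac hp (v ^ i) x = 0

variable {hp} {T : Tb} {g : LL l ≃+ LL l} {w v : M.Group} {s : ℤ} {q n m k : ℕ}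

theorem sz_of (h : Ell (ro hp v)) (hn : v ^ n = 1) : Sz hp v n := fun x => by
  have h1 := LinearMap.congr_fun (h.sum (n := n) (by rw [← map_pow, hn, map_one])) x
  simp only [LinearMap.sum_apply, ← map_pow] at h1
  exact h1

theorem ell_of (h : LM hp False g ∅) (he : ∀ a, g a = s • ro hp w a) (hs : s * s = 1) (i : ℕ) :
    w ^ i = 1 ∨ Ell (ro hp (w ^ i)) := by
  have := finW hp
  have := Fintype.ofFinite M.Group
  refine or_iff_not_imp_right.2 fun h0 => ?_
  obtain ⟨x, hx, hx0⟩ : ∃ x, ro hp (w ^ i) x = x ∧ x ≠ 0 := by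
    by_contra h1
    push Not at h1
    exact h0 h1
  have hn : ro hp (w ^ i) ^ Nat.card M.Group = 1 := by rw [← map_pow, pow_card_eq_one', map_one]
  have hc : ∀ θ : En l, Commute θ (ro hp (w ^ i)) →
      Commute θ (∑ k ∈ Finset.range (Nat.card M.Group), ro hp (w ^ i) ^ k) := fun θ h =>
    Commute.sum_right _ _ _ fun k _ => h.pow_right k
  have h1 := apply_sum hn
  have h2 := sum_fix hx (Nat.card M.Group)
  have h3 : ∀ y z, ro hp (w ^ i) z = z → form M.toCoxeterSystem hp.isCartan z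
      ((∑ k ∈ Finset.range (Nat.card M.Group), ro hp (w ^ i) ^ k) y) =
        (Nat.card M.Group : ℕ) * form M.toCoxeterSystem hp.isCartan z y := fun y z hz => by
    induction Nat.card M.Group with
    | zero => simp [form_zero_right]
    | succ k ih =>
      have h4 : (ro hp (w ^ i) ^ k) z = z := by
        rw [Module.End.pow_apply]
        exact Function.iterate_fixed hz k
      rw [Finset.sum_range_succ, LinearMap.add_apply, form_add_right, ih, ← h4, ← map_pow, form_rep, map_pow, h4]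
      push_cast
      ring
  generalize ∑ k ∈ Finset.range (Nat.card M.Group), ro hp (w ^ i) ^ k = S at hc h1 h2 h3
  have h4 : ∀ y, ro hp (w ^ i) (S y) = S y := fun y => (LinearMap.congr_fun (hc _ (Commute.refl _)).eq y).trans (h1 y)
  have key := h.kill {a | RT hp a ∧ S a = 0} (Set.empty_subset _)
    ⟨fun _ h => h.1, fun a h => ⟨h.1.neg, by rw [map_neg, h.2, neg_zero]⟩⟩ (by
      by_contra h5
      have h6 : S.toAddMonoidHom = 0 := hom_ext fun j => by_contra fun h6 => h5 ⟨_, isRoot_sr _ _ j, fun h7 =>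
        h6 ((AddSubgroup.closure_le (K := S.toAddMonoidHom.ker)).2 (fun _ h => h.2) h7)⟩
      exact hx0 ((smul_eq_zero.1 (h2.symm.trans (DFunLike.congr_fun h6 x))).resolve_left
        (Int.natCast_ne_zero.2 Nat.card_pos.ne'))) fun f hf _ h5 a ha => by
      obtain ⟨θ, h6⟩ := hf.lin.resolve_left id
      have h7 : Commute θ.toIntLinearEquiv.toLinearMap (ro hp w) := LinearMap.toAddMonoidHom_injective (hom_ext fun j => by
        have h8 := h5 rfl _ (isRoot_sr _ _ j)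
        rw [h6 _ (gw_rt h.gw (isRoot_sr _ _ j)), h6 _ (isRoot_sr _ _ j), he, he, map_zsmul] at h8
        have h9 := congrArg (s • ·) h8
        simp only [smul_smul, hs, one_smul] at h9
        exact h9)
      refine ⟨hf.bij.mapsTo ha.1, ?_⟩
      rw [h6 a ha.1]
      have h8 := LinearMap.congr_fun (hc _ (map_pow (ro hp) w i ▸ h7.pow_right i)).eq a
      rw [Module.End.mul_apply, Module.End.mul_apply, ha.2, map_zero] at h8
      exact h8.symm
  refine Nodes.FrameCent.eq_one_of_fix (cs := M.toCoxeterSystem) (h := hp.isCartan) (r := fun j => S (sr j))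
    (fun a ha => by_contra fun h5 => key ⟨ha, by_contra fun h6 => ?_⟩) fun j => h4 _
  push Not at h5
  have h7 : ((AddMonoidHom.mk' _ (form_add_right M.toCoxeterSystem hp.isCartan a)).comp S.toAddMonoidHom) = 0 := hom_ext h5
  have h8 := form_pos M.toCoxeterSystem hp.isCartan h6
  rw [h3 a _ (h4 a), form_comm, show form M.toCoxeterSystem hp.isCartan a (S a) = 0 from DFunLike.congr_fun h7 a] at h8
  simp at h8

theorem pu_of (h : LM hp False g ∅) : ∃ w s, Pu hp g w s := by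
  obtain ⟨w, h1 | ⟨h1, h2⟩⟩ := h.gw
  · have h2 : ∀ a, g a = (1 : ℤ) • ro hp w a := fun a => (h1 a).trans (one_smul _ _).symm
    exact ⟨w, 1, h.gw, h2, .inl rfl, ell_of h h2 rfl⟩
  · have h3 : ∀ a, g a = (-1 : ℤ) • ro hp w a := fun a => (h2 a).trans (neg_one_smul ℤ _).symm
    exact ⟨w, -1, h.gw, h3, .inr ⟨h1, rfl⟩, ell_of h h3 rfl⟩

theorem Pu.sq (P : Pu hp g w s) : s * s = 1 := by rcases P.sg with rfl | ⟨-, rfl⟩ <;> rfl

theorem Pu.comm (P : Pu hp g w s) (h : Commute v w) (x : LL l) : ac hp v (g x) = g (ac hp v x) := by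
  rw [P.eq, P.eq, map_zsmul]
  exact congrArg (s • ·) ((ac_mul hp v w x).symm.trans (h.eq ▸ ac_mul hp w v x))

/-- an involution among the powers is central -/
theorem Pu.cen (P : Pu hp g w s) {i : ℕ} (h : (w ^ i) ^ 2 = 1) (v : M.Group) : Commute v (w ^ i) := by
  rcases P.ell i with h1 | h1
  · exact h1 ▸ Commute.one_right v
  · have h2 : ∀ x, ac hp (w ^ i) x = -x := fun x => by
      have h3 := sz_of h1 h x
      rw [Finset.sum_range_succ, Finset.sum_range_one, pow_zero, pow_one, ac_one] at h3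
      exact eq_neg_of_add_eq_zero_right h3
    exact W_ext hp fun j => by rw [ac_mul, ac_mul, h2, h2, map_neg]

/-- powers of order divisible by nine -/
theorem Pu.fe (P : Pu hp g w s) {t b : ℕ} (h : (w ^ t) ^ 3 ^ b = 1) (h3 : (w ^ t) ^ 3 ≠ 1) : Fe hp (w ^ t) (3 ^ b) 9 := by
  refine ⟨h, by positivity, fun a ha i h1 h2 e => ?_⟩
  rw [← pow_mul] at e
  rcases P.ell (t * i) with h4 | h4
  · obtain ⟨c, -, h5⟩ := (Nat.dvd_prime_pow Nat.prime_three).1 (orderOf_dvd_of_pow_eq_one h)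
    have h6 := Nat.le_of_dvd h1 (h5 ▸ orderOf_dvd_of_pow_eq_one (pow_mul w t i ▸ h4))
    have h7 : c < 2 := (Nat.pow_lt_pow_iff_right (show 1 < 3 by norm_num)).1 (h6.trans_lt h2)
    exact h3 (orderOf_dvd_iff_pow_eq_one.1 (h5 ▸ (pow_dvd_pow 3 (show c ≤ 1 by omega)).trans (pow_one 3).dvd))
  · exact ha.ne_zero (h4 a e)

theorem Fe.conj (h : Fe hp v n m) (c : M.Group) : Fe hp (c⁻¹ * v * c) n m := by
  have e : ∀ i : ℕ, (c⁻¹ * v * c) ^ i = c⁻¹ * v ^ i * c := fun i => by simpa using conj_pow (a := c⁻¹) (b := v) (i := i)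
  refine ⟨by rw [e, h.pow, mul_one, inv_mul_cancel], h.pos, fun a ha i h1 h2 h3 => h.free _ (rt_ac hp c ha) i h1 h2 ?_⟩
  have h4 := congrArg (ac hp c) h3
  rwa [e, ← repAut_apply, ac_mul, ac_mul, ac_inv'] at h4

theorem Sz.conj (h : Sz hp v n) (c : M.Group) : Sz hp (c⁻¹ * v * c) n := fun x => by
  have e : ∀ i : ℕ, (c⁻¹ * v * c) ^ i = c⁻¹ * v ^ i * c := fun i => by simpa using conj_pow (a := c⁻¹) (b := v) (i := i)
  simp only [e, ac_mul]
  rw [← map_sum, h, map_zero]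

theorem exists_J (G : Gs hp T) (h : Fe hp v n m) : ∃ J : Finset (LL l), (∀ b ∈ J, RT hp b) ∧
    (∀ x, RT hp x → ∃ b ∈ J, ∃ i : ℕ, x = ac hp (v ^ i) b) ∧ m * J.card ≤ T.n := by
  classical
  let r : Setoid (LL l) := ⟨fun x y => ∃ i : ℕ, y = ac hp (v ^ i) x, fun x => ⟨0, by rw [pow_zero, ac_one]⟩, by
    rintro x _ ⟨i, rfl⟩
    exact ⟨(n - 1) * i, by rw [← ac_mul, ← pow_add, ← add_one_mul, Nat.sub_add_cancel (show 1 ≤ n from h.pos), pow_mul, h.pow, one_pow, ac_one]⟩, by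
    rintro x _ _ ⟨i, rfl⟩ ⟨j, rfl⟩
    exact ⟨j + i, by rw [pow_add, ac_mul]⟩⟩
  have h1 : ∀ a, r (Quotient.mk r a).out a := fun a => Quotient.exact (Quotient.out_eq _)
  refine ⟨G.fin_rt.toFinset.image fun a => (Quotient.mk r a).out, fun b hb => ?_, fun x hx =>
    ⟨_, Finset.mem_image_of_mem _ (by simpa using hx), h1 x⟩, ?_⟩
  · obtain ⟨a, ha, rfl⟩ := Finset.mem_image.1 hb
    obtain ⟨i, e⟩ := r.symm (h1 a)
    exact e ▸ rt_ac hp _ (by simpa using ha)
  · rw [← G.card_rt]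
    refine Finset.mul_card_image_le_card _ _ fun b hb => ?_
    obtain ⟨a, ha, rfl⟩ := Finset.mem_image.1 hb
    replace ha : RT hp a := by simpa using ha
    have key : ∀ i j, i < j → j < m → ac hp (v ^ i) a ≠ ac hp (v ^ j) a := fun i j h2 h3 e =>
      h.free _ (rt_ac hp (v ^ i) ha) (j - i) (by omega) (by omega) (by
        rw [← repAut_apply, ← ac_mul, ← pow_add, Nat.sub_add_cancel h2.le, e])
    conv_lhs => rw [← Finset.card_range m]
    refine Finset.card_le_card_of_injOn (fun i => ac hp (v ^ i) a) (fun i _ => ?_) fun i hi j hj e => ?_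
    · exact Finset.mem_coe.2 (Finset.mem_filter.2 ⟨G.fin_rt.mem_toFinset.2 (rt_ac hp _ ha),
        congrArg _ (Quotient.sound (r.symm ⟨i, rfl⟩))⟩)
    · rcases lt_trichotomy i j with h2 | h2 | h2
      · exact absurd e (key i j h2 (by simpa using hj))
      · exact h2
      · exact absurd e.symm (key j i h2 (by simpa using hi))

/-- **free action on the roots** -/
theorem elA_free (G : Gs hp T) (P : Pu hp g w s) (h : Fe hp v n m) (hc : Commute v w) (hq : n.Coprime q)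
    (hd : (dM l).Coprime n ∨ (dM l).Coprime q) {k' : ℕ} (hk : T.n < (k' + 1) * m)
    (he : k' = k ∨ (D = chevE6 ∧ ¬ 3 ∣ q ∧ Sz hp v n ∧ k' - l = k)) : ElA hp q g ∅ (dM l * (q ^ k * (q + 1) ^ l)) := by
  obtain ⟨J, h1, h2, h3⟩ := exists_J G h
  obtain ⟨u, h4, h5⟩ : ∃ u, Commute u w ∧ (v = u ^ dM l ∨ ((dM l).Coprime q ∧ v = u)) := by
    rcases hd with hd | hd
    · obtain ⟨c, hc'⟩ := exists_pow_eq_self_of_coprime (x := v) (hd.coprime_dvd_right (orderOf_dvd_of_pow_eq_one h.pow))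
      exact ⟨v ^ c, hc.pow_left c, .inl (by rw [← pow_mul, mul_comm, pow_mul, hc'])⟩
    · exact ⟨v, hc, .inr ⟨hd, rfl⟩⟩
  refine ⟨u, v, n, 1, k', J, fun _ => 1, fun _ => 1, fun _ => 1, fun _ h => h.elim, P.comm h4, h5, h.pow, hq, h1, h2,
    fun _ _ => .inl le_rfl, ?_, ?_⟩
  · rw [Finset.sum_const, smul_eq_mul, mul_one, mul_one]
    exact Nat.lt_of_mul_lt_mul_left (a := m) (h3.trans_lt (mul_comm m _ ▸ hk))
  · rcases he with rfl | ⟨a1, a2, a3, rfl⟩
    exacts [.inl (G.nm ▸ le_rfl), .inr ⟨a1, a2, a3, G.nm ▸ le_rfl⟩]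

/-- **averaging over the torus** -/
theorem elA_K (G : Gs hp T) {K : ℕ} (hK : ∀ b, RT hp b → OrdGe q g b K) (h : dM l * T.n < (k + 1) * K) :
    ElA hp q g ∅ (dM l * (q ^ k * (q + 1) ^ l)) := by
  refine ⟨1, 1, 1, K, k, G.fin_rt.toFinset, fun _ => 1, fun _ => K, fun _ => dM l,
    fun b hb => by rwa [ac_one], fun x => by rw [ac_one, ac_one], Or.inl (one_pow _).symm, one_pow _,
    Nat.coprime_one_left _, fun b hb => by simpa using hb, fun x hx => ⟨x, by simpa using hx, 0, by rw [pow_zero, ac_one]⟩,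
    fun b hb => Or.inr ⟨by rw [one_pow, ac_one], (mul_comm _ _).le, ?_⟩, ?_, Or.inl (G.nm ▸ le_rfl)⟩
  · rw [Finset.sum_range_one, pow_zero, ac_one]
    exact hK b (by simpa using hb)
  · rwa [Finset.sum_const, G.card_rt, smul_eq_mul, mul_comm]

/-- `j b ∈ (q - g) Λ` -/
def In (q : ℕ) (g : LL l ≃+ LL l) (b : LL l) (j : ℕ) : Prop := ∃ y, j • b = q • y - g y

theorem In.div {b : LL l} {j : ℕ} (h : In q g b (q * j)) : In q g b j := by
  obtain ⟨y, e⟩ := h
  obtain ⟨z, hz⟩ := g.surjective (y - j • b)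
  have h1 : y = q • z := g.injective (by rw [map_nsmul, hz, smul_sub, ← mul_smul, e, sub_sub_cancel])
  exact ⟨z, by rw [hz, ← h1, sub_sub_cancel]⟩

/-- no root is fixed -/
theorem not_small (G : Gs hp T) (h2 : ∀ a b, RT hp a → RT hp b → cp hp a b = 2 → a = b) (hg : GW hp g)
    (hf : ∀ a, RT hp a → g a ≠ a) {b : LL l} (hb : RT hp b) {j : ℕ} (hj : 0 < j) (hq : j < q) : ¬ In q g b j := by
  rintro ⟨y, e⟩
  obtain ⟨c, hc, h1⟩ := Set.exists_max_image {a | RT hp a} (fun a => cp hp y a) G.fin_rt ⟨b, hb⟩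
  have h3 : 2 ≤ cp hp y c := by
    by_contra h3
    obtain rfl : y = 0 := G.eq_zero fun a ha => by have := h1 a ha; omega
    rw [smul_zero, map_zero, sub_zero] at e
    exact hb.ne_zero ((smul_eq_zero.1 e).resolve_left hj.ne')
  have key : ∀ d, RT hp d → cp hp y (g d) = cp hp y c → b = g d ∧ cp hp y d = cp hp y c := fun d hd h4 => by
    have h5 := gw_rt hg hd
    have h6 := congrArg (fun x => cp hp x (g d)) e
    rw [sub_eq_add_neg, cp_add hp _ _ h5, cp_neg hp _ h5, gw_cp hg y hd, ← natCast_zsmul, ← natCast_zsmul,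
      cp_smul hp _ _ h5, cp_smul hp _ _ h5, h4] at h6
    have h7 := G.cp_le hb h5
    have h8 := h1 d hd
    have h9 : (j : ℤ) + 1 ≤ q := by omega
    have h10 : (0 : ℤ) < j := by omega
    exact ⟨h2 _ _ hb h5 (by nlinarith), by nlinarith⟩
  obtain ⟨d, hd, rfl⟩ := gw_surj hg hc
  obtain ⟨h4, h5⟩ := key d hd rfl
  obtain ⟨d', hd', rfl⟩ := gw_surj hg hd
  exact hf _ hd (h4.symm.trans (key d' hd' h5).1)

/-- an elliptic power -/
theorem not_cop (P : Pu hp g w s) {t r j : ℕ} (h1 : w ^ t ≠ 1) (h2 : (w ^ t) ^ r = 1) {b : LL l} (h : In q g b j)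
    (hc : IsCoprime (j : ℤ) (∑ i ∈ Finset.range r, ((s * q) ^ t) ^ i)) : In q g b 1 := by
  obtain ⟨A, _, π, hπ⟩ : ∃ (A : Type) (_ : AddCommGroup A) (π : LL l →+ A), ∀ x, π x = 0 ↔ ∃ y, q • y - g y = x :=
    ⟨_, _, QuotientAddGroup.mk' (q • AddMonoidHom.id _ - g.toAddMonoidHom).range, QuotientAddGroup.eq_zero_iff⟩
  have h3 : ∀ x, π (ac hp w x) = (s * q) • π x := fun x => by
    have h4 := (hπ _).2 ⟨x, rfl⟩
    rw [map_sub, sub_eq_zero, P.eq, map_zsmul, map_nsmul] at h4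
    rw [mul_smul, natCast_zsmul, h4, smul_smul, P.sq, one_smul, repAut_apply]
  have h4 : ∀ (i : ℕ) x, π (ac hp (w ^ i) x) = (s * q) ^ i • π x := fun i x => by
    induction i with
    | zero => rw [pow_zero, pow_zero, ac_one, one_smul]
    | succ i ih => rw [pow_succ', ac_mul, h3, ih, smul_smul, pow_succ']
  have h5 := congrArg π (sz_of ((P.ell t).resolve_left h1) h2 b)
  simp only [map_sum, map_zero, ← pow_mul, h4] at h5
  obtain ⟨y, e⟩ := h
  have h6 : (j : ℤ) • π b = 0 := by rw [natCast_zsmul, ← map_nsmul, (hπ _).2 ⟨y, e.symm⟩]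
  obtain ⟨x, z, e⟩ := hc
  simp only [← pow_mul] at e
  obtain ⟨y, h7⟩ := (hπ b).1 (by
    rw [← one_smul ℤ (π b), ← e, add_smul, mul_smul, mul_smul, h6, Finset.sum_smul, h5, smul_zero, smul_zero, add_zero])
  exact ⟨y, (one_smul _ _).trans h7.symm⟩

/-- the numerical conditions -/
def num (l ω k q₁ : ℕ) : Bool :=
  decide (2 ≤ q₁ ∧ 3 * k + 4 * l ≤ nP l + (degs l).sum ∧ 0 < l ∧
    dM l ^ 4 * ω * (q₁ ^ (3 * k) * (q₁ + 1) ^ (4 * l)) ≤ ordU l q₁)

theorem om_W : Om hp ∅ (Nat.card M.Group) :=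
  ⟨Set.univ, (Set.ncard_univ _).le, fun _ _ => ⟨1, one_mem _, trivial⟩⟩

theorem cert_of {ω q₁ : ℕ} (hω : Nat.card M.Group = ω) (h : num l ω k q₁ = true) (hq : q₁ ≤ q)
    (he : ElT hp q g (dM l * (q ^ k * (q + 1) ^ l)) ∨ ElA hp q g ∅ (dM l * (q ^ k * (q + 1) ^ l))) : Cert hp q g ∅ := by
  obtain ⟨h0, h2, h3, h4⟩ := of_decide_eq_true h
  refine ⟨_, _, ⟨ω, hω ▸ om_W, Or.inl le_rfl⟩, he.imp_right .inl, ?_, ?_⟩
  · have a1 := dM_pos l
    have a2 : 0 < q ^ k := pow_pos (by omega) _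
    have a3 : (q + 1) ^ 1 ≤ (q + 1) ^ l := Nat.pow_le_pow_right (by omega) h3
    have a4 := Nat.mul_le_mul a1 (Nat.mul_le_mul a2 a3)
    rw [pow_one] at a4
    omega
  · refine le_of_eq_of_le ?_ (SB.Exc.NT.scale (by omega) hq h2 h4)
    rw [Set.ncard_empty]
    ring

theorem fin_of (h : Cert hp q g ∅) : Fin' hp q g ∅ :=
  ⟨g, ∅, ⟨1, 1, (Set.image_empty _).symm, one_mem _, fun x => by rw [ac_one, ac_one, ac_one]⟩, h⟩

end Cfsg.Agent.N2.Ex.Al.Tr
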