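import Cfsg.Agent.N2.Ex.Al.TorA
import Cfsg.Agent.N2.Ex.Al.TbD

/-!
# N2 (S3519), maximal tori of `E₆, E₇, E₈`: the checkers and the explicit elements (helper90)

* `NF.step`, `NF.fin` : the elliptic elements of order three are conjugate; `fe_of`, `sz_chk`, `comm_of` : explicit elements.
-/

set_option autoImplicit false
set_option linter.unusedSectionVars false

namespace Cfsg.Agent.N2.Ex.Al.Tr

open CoxeterSystem Cfsg Cfsg.Lie Cfsg.Lie.ChevalleyDatum
open Cfsg.Agent.ChevalleyStructure Cfsg.Agent.ChevalleyStructure.CoxeterGeom Cfsg.Agent.ChevalleyStructure.CoxeterGeomTypes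
  Cfsg.Agent.Tits.Roots Cfsg.Agent.Nodes.RGDChev Cfsg.Agent.H469.Exc
open Cfsg.Agent.BpExc.Fr Cfsg.Agent.DS.Ex Cfsg.Agent.DS.Nt
open Cfsg.Agent.DS.Ex.Tor (RT)
open Cfsg.Agent.N2.Ex.Al.Ck

variable {D : ChevalleyDatum} {l : ℕ} {M : CoxeterMatrix (Fin l)} (hp : IsType D l M) (T : Tb)

/-- `z` maps the first entries to the second entries -/
def Ag (z : M.Group) (S : List (ℕ × ℕ)) : Prop :=
  ∀ e ∈ S, e.1 < T.n ∧ e.2 < T.n ∧ ac hp z (T.vec l e.1) = T.vec l e.2

/-- the elliptic elements of order three which agree with `S` are conjugate to `z₀` -/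
def NF (z₀ : M.Group) (S : List (ℕ × ℕ)) : Prop := ∀ z, Sz hp z 3 → Ag hp T z S → ∃ c, z = c⁻¹ * z₀ * c

/-- one step -/
noncomputable def stp (l : ℕ) (S : List (ℕ × ℕ)) (a b c : ℕ) (W : List (List ℕ)) : Bool :=
  decide (a < T.n ∧ b < T.n ∧ c < T.n ∧ ∀ i : Fin l, T.vec l a i + T.vec l b i + T.vec l c i = 0) &&
    aL (fun r => or (not (and (Nat.beq (Nat.add (T.c r a) (T.c a r)) 2) (lA (fun e => Nat.beq (T.c r e.2) (T.c a e.1)) S)))
      (lE (fun w => and (or (and (Nat.beq (T.aw w a) a) (Nat.beq (T.aw w r) b))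
        (and (Nat.beq (T.aw w a) (T.ng a)) (Nat.beq (T.aw w r) (T.ng b))))
        (and (T.lt w) (lA (fun e => and (Nat.beq (T.aw w e.1) e.1) (Nat.beq (T.aw w e.2) e.2)) S))) W)) T.n

/-- the last step -/
noncomputable def lst (l : ℕ) (S : List (ℕ × ℕ)) (w : List ℕ) : Bool :=
  and (T.lt w) (aL (fun i => aL (fun r => or (not (lA (fun e => Nat.beq (T.c r e.2) (T.c i e.1)) S))
    (Nat.beq r (T.aw w i))) T.n) l)

/-- iteration of a word -/
noncomputable def it (w : List ℕ) (r i : ℕ) : ℕ := Nat.rec (motive := fun _ => ℕ) r (fun _ ih => T.aw w ih) i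

/-- the word has order `m` and acts freely -/
noncomputable def frb (l : ℕ) (w : List ℕ) (m : ℕ) : Bool :=
  and (T.lt w) (and (aL (fun i => Nat.beq (it T w i m) i) l)
    (aL (fun r => aL (fun i => or (Nat.beq i 0) (not (Nat.beq (it T w r i) r))) m) T.n))

/-- the words commute -/
noncomputable def cmb (l : ℕ) (v w : List ℕ) : Bool :=
  and (T.lt v) (and (T.lt w) (aL (fun i => Nat.beq (T.aw v (T.aw w i)) (T.aw w (T.aw v i))) l))

/-- simply laced -/
noncomputable def slb : Bool := aL (fun r => aL (fun s => or (not (Nat.beq (T.c r s) 4)) (Nat.beq r s)) T.n) T.n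

variable {hp T}

theorem Sz.three {z : M.Group} (h : Sz hp z 3) (x : LL l) : x + ac hp z x + ac hp z (ac hp z x) = 0 := by
  have h1 := h x
  rwa [Finset.sum_range_succ, Finset.sum_range_succ, Finset.sum_range_one, pow_zero, pow_one, pow_two, ac_one, ac_mul] at h1

variable (G : Gs hp T)
include G

theorem sl_of (h : slb T = true) (a b : LL l) (ha : RT hp a) (hb : RT hp b) (e : cp hp a b = 2) : a = b := by
  obtain ⟨r, hr, rfl⟩ := G.surj a ha
  obtain ⟨s, hs, rfl⟩ := G.surj b hb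
  have h1 := aL_iff.1 (aL_iff.1 h r hr) s hs
  rw [G.cpe r hr s hs] at e
  simp only [Bool.or_eq_true, Bool.not_eq_true', Nat.beq_eq] at h1
  rw [h1.resolve_left fun h2 => Nat.ne_of_beq_eq_false h2 (by omega)]

theorem Ag.cp {z : M.Group} {S : List (ℕ × ℕ)} (h : Ag hp T z S) {a r : ℕ} (ha : a < T.n) (hr : r < T.n)
    (e : T.vec l r = ac hp z (T.vec l a)) : lA (fun e => Nat.beq (T.c r e.2) (T.c a e.1)) S = true :=
  lA_iff.2 fun x hx => by
    obtain ⟨h1, h2, h3⟩ := h x hx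
    have h4 := cp_ac hp z (T.vec l a) (G.root _ h1)
    rw [h3, ← e, G.cpe _ hr _ h2, G.cpe _ ha _ h1] at h4
    exact Nat.beq_eq ▸ by omega

theorem NF.step {z₀ : M.Group} {S : List (ℕ × ℕ)} {a b c : ℕ} {W : List (List ℕ)} (h : stp T l S a b c W = true)
    (h' : NF hp T z₀ ((a, b) :: (b, c) :: S)) : NF hp T z₀ S := fun z hz hS => by
  simp only [stp, Bool.and_eq_true, decide_eq_true_eq] at h
  obtain ⟨⟨ha, hb, hc, e0⟩, h⟩ := h
  have hR := G.root a ha
  obtain ⟨r, hr, e⟩ := G.surj _ (rt_ac hp z hR)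
  have h1 : Nat.add (T.c r a) (T.c a r) = 2 := by
    have h1 := congrArg (cp hp · (ac hp z (T.vec l a))) (hz.three (T.vec l a))
    have h2 := cp_smul hp 0 0 (rt_ac hp z hR)
    simp only [cp_add hp _ _ (rt_ac hp z hR), cp_self hp (rt_ac hp z hR), cp_ac hp z _ hR] at h1
    rw [zero_smul, zero_mul] at h2
    rw [h2, ← e, G.cpe r hr a ha, G.cpe a ha r hr] at h1
    exact show T.c r a + T.c a r = 2 by omega
  have h2 := aL_iff.1 h r hr
  rw [h1, hS.cp G ha hr e] at h2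
  obtain ⟨w, -, h3⟩ := lE_iff.1 h2
  simp only [Bool.and_eq_true, Bool.or_eq_true, Nat.beq_eq, lA_iff] at h3
  obtain ⟨h3, hw, h4⟩ := h3
  have k : ∀ x y, ac hp (wd hp T w) x = y → ac hp ((wd hp T w)⁻¹⁻¹ * z * (wd hp T w)⁻¹) y = ac hp (wd hp T w) (ac hp z x) :=
    fun x y e => by rw [inv_inv, ac_mul, ac_mul, ← e, ac_inv]
  have h5 : ac hp ((wd hp T w)⁻¹⁻¹ * z * (wd hp T w)⁻¹) (T.vec l a) = T.vec l b := by
    rcases h3 with ⟨e1, e2⟩ | ⟨e1, e2⟩
    · rw [k (T.vec l a) _ (by rw [← (G.aw hw ha).2, e1]), ← e, ← (G.aw hw hr).2, e2]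
    · rw [k (-T.vec l a) _ (by rw [map_neg, ← (G.aw hw ha).2, e1, (G.ng ha).2, neg_neg]), map_neg, map_neg, ← e,
        ← (G.aw hw hr).2, e2, (G.ng hb).2, neg_neg]
  obtain ⟨d, hd⟩ := h' _ (hz.conj (wd hp T w)⁻¹) (List.forall_mem_cons.2 ⟨⟨ha, hb, h5⟩, List.forall_mem_cons.2 ⟨⟨hb, hc, by
      have h6 := (hz.conj (wd hp T w)⁻¹).three (T.vec l a)
      rw [h5, ← show T.vec l a + T.vec l b + T.vec l c = 0 from funext e0] at h6
      exact add_left_cancel h6⟩, fun x hx => by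
      obtain ⟨h6, h7, h8⟩ := hS x hx
      exact ⟨h6, h7, by rw [k (T.vec l x.1) _ (by rw [← (G.aw hw h6).2, (h4 x hx).1]), h8, ← (G.aw hw h7).2, (h4 x hx).2]⟩⟩⟩)
  refine ⟨d * wd hp T w, ?_⟩
  rw [mul_inv_rev, mul_assoc, mul_assoc, ← mul_assoc z₀, ← mul_assoc d⁻¹, ← mul_assoc d⁻¹, ← hd]
  group

theorem NF.fin {S : List (ℕ × ℕ)} {w : List ℕ} (h : lst T l S w = true) : NF hp T (wd hp T w) S := fun z _ hS => by
  simp only [lst, Bool.and_eq_true] at h
  refine ⟨1, (show z = wd hp T w from W_ext hp fun i => ?_).trans (by group)⟩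
  obtain ⟨r, hr, e⟩ := G.surj _ (rt_ac hp z (G.root i (G.lt_n i)))
  have h1 := aL_iff.1 (aL_iff.1 h.2 i i.2) r hr
  rw [hS.cp G (G.lt_n i) hr e] at h1
  rw [← G.sim, ← e, ← (G.aw h.1 (G.lt_n i)).2, Nat.eq_of_beq_eq_true h1]

theorem it_eq {w : List ℕ} (hw : T.lt w = true) {r : ℕ} (hr : r < T.n) (i : ℕ) :
    it T w r i < T.n ∧ T.vec l (it T w r i) = ac hp (wd hp T w ^ i) (T.vec l r) := by
  induction i with
  | zero => exact ⟨hr, by rw [pow_zero, ac_one]; rfl⟩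
  | succ i ih => exact ⟨(G.aw hw ih.1).1, by rw [pow_succ', ac_mul, ← ih.2, ← (G.aw hw ih.1).2]; rfl⟩

theorem fe_of {w : List ℕ} {m : ℕ} (hm : 0 < m) (h : frb T l w m = true) : Fe hp (wd hp T w) m m := by
  simp only [frb, Bool.and_eq_true, aL_iff, Bool.or_eq_true, Bool.not_eq_true', Nat.beq_eq] at h
  obtain ⟨hw, h1, h2⟩ := h
  refine ⟨W_ext hp fun i => ?_, hm, fun a ha i h3 h4 e => ?_⟩
  · rw [← G.sim, ← (it_eq G hw (G.lt_n i) m).2, h1 i i.2, ac_one]
  · obtain ⟨r, hr, rfl⟩ := G.surj a ha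
    exact Nat.ne_of_beq_eq_false ((h2 r hr i h4).resolve_left h3.ne') (G.inj _ (it_eq G hw hr i).1 _ hr ((it_eq G hw hr i).2.trans e))

theorem sz_chk {w : List ℕ} {m : ℕ} (hw : T.lt w = true)
    (h : ∀ j i : Fin l, ∑ k ∈ Finset.range m, T.vec l (it T w j k) i = 0) : Sz hp (wd hp T w) m := fun x => by
  have h1 : ∑ k ∈ Finset.range m, (ac hp (wd hp T w ^ k)).toAddMonoidHom = 0 := hom_ext fun j => by
    rw [AddMonoidHom.finsetSum_apply, ← G.sim]
    exact funext fun i => by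
      rw [Finset.sum_apply, ← show _ = (0 : LL l →+ LL l) _ i from h j i]
      exact Finset.sum_congr rfl fun k _ => congrFun (it_eq G hw (G.lt_n j) k).2.symm i
  have h2 := DFunLike.congr_fun h1 x
  rwa [AddMonoidHom.finsetSum_apply] at h2

theorem comm_of {v w : List ℕ} (h : cmb T l v w = true) : Commute (wd hp T v) (wd hp T w) := by
  simp only [cmb, Bool.and_eq_true, aL_iff, Nat.beq_eq] at h
  obtain ⟨hv, hw, h⟩ := h
  refine W_ext hp fun i => ?_
  have h1 := G.aw hv (G.lt_n i)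
  have h2 := G.aw hw (G.lt_n i)
  rw [← G.sim, ac_mul, ac_mul, ← h1.2, ← h2.2, ← (G.aw hv h2.1).2, ← (G.aw hw h1.1).2, h i i.2]

omit G

/-! ### the data -/

theorem nf6 (hp : IsType D 6 CoxeterMatrix.E₆) (G : Gs hp tbE6) : NF hp tbE6 (wd hp tbE6 [0, 2, 1, 34, 4, 5]) [] :=
  NF.step G (a := 0) (b := 2) (c := 42) (W := [[], [3], [7], [9], [13], [15], [0, 28], [19], [0, 31], [0, 33], [0], [0, 3],
    [0, 7], [0, 9], [0, 13], [0, 15], [28], [0, 19], [31], [33]]) (by decide +kernel) <|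
  NF.step G (a := 1) (b := 34) (c := 71) (W := [[], [1]]) (by decide +kernel) <|
  NF.step G (a := 4) (b := 5) (c := 46) (W := [[], [4]]) (by decide +kernel) <| NF.fin G (by decide +kernel)

theorem nf8 (hp : IsType D 8 CoxeterMatrix.E₈) (G : Gs hp tbE8) : NF hp tbE8 (wd hp tbE8 [0, 2, 1, 62, 4, 5, 7, 118]) [] :=
  NF.step G (a := 0) (b := 2) (c := 128) (W := [[], [3], [9], [11], [17], [19], [0, 43], [25], [27], [0, 50], [33], [35],
    [0, 56], [0, 57], [41], [0, 63], [0, 64], [0, 70], [0, 71], [0, 77], [0, 83], [88], [93], [98], [102], [105], [0, 113],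
    [0, 114], [0], [0, 3], [0, 9], [0, 11], [0, 17], [0, 19], [43], [0, 25], [0, 27], [50], [0, 33], [0, 35], [56], [57],
    [0, 41], [63], [64], [70], [71], [77], [83], [0, 88], [0, 93], [0, 98], [0, 102], [0, 105], [113], [114]])
    (by decide +kernel) <|
  NF.step G (a := 1) (b := 62) (c := 188) (W := [[], [6], [13], [14], [20], [21], [28], [1, 115], [1, 116], [1, 117], [1],
    [1, 6], [1, 13], [1, 14], [1, 20], [1, 21], [1, 28], [115], [116], [117]]) (by decide +kernel) <|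
  NF.step G (a := 4) (b := 5) (c := 132) (W := [[], [4]]) (by decide +kernel) <|
  NF.step G (a := 7) (b := 118) (c := 239) (W := [[], [7]]) (by decide +kernel) <| NF.fin G (by decide +kernel)

theorem fr69 : frb tbE6 6 [0, 4, 5, 6, 20, 21] 9 = true := by decide +kernel
theorem cm69 : cmb tbE6 6 [0, 4, 5, 6, 20, 21] [0, 2, 1, 34, 4, 5] = true := by decide +kernel
theorem sz69 : ∀ j i : Fin 6, ∑ k ∈ Finset.range 9, tbE6.vec 6 (it tbE6 [0, 4, 5, 6, 20, 21] j k) i = 0 := by decide +kernel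
theorem fr68 : frb tbE6 6 [1, 2, 4, 5, 24] 8 = true := by decide +kernel
theorem fr77 : frb tbE7 7 [0, 2, 4, 6, 8, 29] 7 = true := by decide +kernel
theorem fr79 : frb tbE7 7 [0, 1, 4, 15, 16, 18] 9 = true := by decide +kernel
theorem fr85 : frb tbE8 8 [0, 13, 14, 19, 34, 50, 99, 115] 5 = true := by decide +kernel
theorem cm85 : cmb tbE8 8 [0, 13, 14, 19, 34, 50, 99, 115] [0, 2, 1, 62, 4, 5, 7, 118] = true := by decide +kernel
theorem sl8 : slb tbE8 = true := by decide +kernel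

end Cfsg.Agent.N2.Ex.Al.Tr
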